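import Cfsg.Agent.Lib.D4.PartA1
import Cfsg.Agent.Lib.U5.Aut
import Cfsg.Agent.Lib.FT.BG01

/-!
# S5261: automorphisms of `S`; twisting the system (see notes/TD_helper2.md, section Aut)
-/

set_option autoImplicit false
set_option linter.unusedSectionVars false
set_option linter.unusedVariables false

namespace Cfsg.Agent.D4

open Subgroup Cfsg Cfsg.FusionSystem US
open U5 (Inv ef_mul ef_inv ef_cm aut_cong conj_mem_chainStab exists_vb)

theorem exists_fix_coset {G : Type*} [Group G] [Finite G] {B Γ : Subgroup G}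
    (h1 : Nat.card B ∣ 21) (h2 : Γ.index ∣ 8) : ∃ g, ∀ b ∈ B, g⁻¹ * b * g ∈ Γ := by
  by_contra! h
  have := Fintype.ofFinite (MulAction.orbitRel.Quotient B (G ⧸ Γ))
  have e : Γ.index = _ := (Nat.card_congr (MulAction.selfEquivSigmaOrbits B (G ⧸ Γ))).trans
    Nat.card_sigma
  obtain ⟨a, b, h3⟩ : ∃ a b, Γ.index = 3 * a + 7 * b := e ▸ Finset.sum_induction _
    (fun m => ∃ a b, m = 3 * a + 7 * b) (fun _ _ ⟨a, b, e⟩ ⟨c, d, e'⟩ => ⟨a + c, b + d, by omega⟩)
    ⟨0, 0, rfl⟩ fun ω _ => by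
      obtain ⟨g, hg⟩ := Quotient.exists_rep ω.out
      obtain ⟨b, hb, h4⟩ := h g
      have h5 := (index_dvd_card (MulAction.stabilizer B ω.out)).trans h1
      have h6 : (MulAction.stabilizer B ω.out).index ≠ 1 := fun e => h4 (by
        have : (⟨b⁻¹, inv_mem hb⟩ : B) • ω.out = ω.out :=
          (index_eq_one.1 e).ge (mem_top (⟨b⁻¹, inv_mem hb⟩ : B))
        rw [← hg] at this
        simpa [mul_assoc] using QuotientGroup.eq.1 this)
      rw [MulAction.index_stabilizer, ← Nat.card_coe_set_eq] at h5 h6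
      have := Nat.le_of_dvd (by norm_num) h5
      generalize Nat.card (MulAction.orbit B ω.out) = m at *
      interval_cases m <;> first | omega | exact ⟨1, 0, rfl⟩ | exact ⟨0, 1, rfl⟩ | exact ⟨0, 3, rfl⟩
  have := Nat.le_of_dvd (by norm_num) h2
  have := Γ.index_ne_zero_of_finite
  generalize Γ.index = m at *
  interval_cases m <;> omega

variable {K : Type*} [Field K] [hK : TF K] {p : ℕ} [hp : Fact p.Prime] [CharP K p]

theorem card_eight (hq : ∀ l : K, fr l = l → l = 0 ∨ l = 1) : Nat.card K = 8 := by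
  obtain ⟨q, h1, h2, -⟩ := exists_q (K := K)
  obtain ⟨θ, hθ⟩ := exists_ne K
  have := Nat.card_le_card_of_surjective
    (fun v : Fin 2 × Fin 2 × Fin 2 => (v.1.val : K) + v.2.1.val * θ + v.2.2.val * sh θ) fun y => by
      obtain ⟨a, b, c, ha, hb, hc, rfl⟩ := span_sh hθ y
      have k : ∀ l : K, fr l = l → ∃ i : Fin 2, (i.val : K) = l := fun l hl =>
        (hq l hl).elim (fun e => ⟨0, by simp [e]⟩) fun e => ⟨1, by simp [e]⟩
      obtain ⟨i, rfl⟩ := k a ha
      obtain ⟨j, rfl⟩ := k b hb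
      obtain ⟨l, rfl⟩ := k c hc
      exact ⟨(i, j, l), rfl⟩
  have h3 := Nat.pow_le_pow_left h1 3
  simp at this
  omega

theorem exists_cr2 (d : K) : ∃ w α, cr w α = d := by
  obtain ⟨w, h0, h1, -⟩ := exists_perp d d
  exact ⟨w, cr_of_Tr h0 (mul_comm w d ▸ h1)⟩

section
variable (γ : MulAut (⊤ : Subgroup (US K)))

theorem aut_ch (i : ℕ) : Inv γ (chZ K i) := by
  have k4 : ∀ x : US K, (∀ y, cm x y ∈ Z3 K) → x ∈ Z4 K := fun x h =>
    ⟨by simpa using (cm_c _ _).symm.trans (h (xb 1 fr_one)).2.2,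
      by simpa using (cm_c _ _).symm.trans (h (xa 1)).2.2⟩
  have k3 : ∀ x : US K, (∀ y, cm x y ∈ Z2 K) → x ∈ Z3 K := fun x h =>
    have h4 := k4 x fun y => Z2_le_Z3 (h y)
    mem_Z3_of h4 (eq_zero_of_cr_all fun r => (cm_d1 h4).symm.trans (h (xa r)).2.2.2)
  have k2 : ∀ x : US K, (∀ y, cm x y ∈ Z1 K) → x ∈ Z2 K := fun x h =>
    have h3 := k3 x fun y => Z1_le_Z2 (h y)
    mem_Z2_of h3 (eq_zero_of_Tr fun r => mul_comm r x.d ▸ (cm_e3 h3).symm.trans (h (xa r)).2.2.2.2)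
  have i1 := inv_Z1 le_top γ
  have i2 : Inv γ (Z2 K) := fun x _ hx => k2 _ fun y => i1.cm trivial trivial (cm_Z1 (.inl hx))
  have i3 : Inv γ (Z3 K) := fun x _ hx => k3 _ fun y => i2.cm trivial trivial (cm_Z2 (.inl hx))
  exact match i with
    | 0 => Inv.bot
    | 1 => i1
    | 2 => i2
    | 3 => i3
    | 4 => fun x _ hx => k4 _ fun y => i3.cm trivial trivial (cm_Z3 (.inl hx))
    | _ + 5 => Inv.top

theorem aut_Qa : Inv γ (Qa K) := inv_Qa le_top (aut_ch γ 1) (aut_ch γ 3) le_rfl Z3_le_Qa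

theorem aut_Qb : Inv γ (Qb K) := inv_Qb le_top (aut_ch γ 2)

theorem mem_chZ (ha : ∀ x, (equivFun γ x).a = x.a) (hb : ∀ x, (equivFun γ x).b = x.b) :
    γ ∈ H7.chainStab ⊤ (chZ K) chZ_mono := by
  have h4 : ∀ x ∈ Z4 K, x⁻¹ * equivFun γ x ∈ Z3 K := fun x hx =>
    aut_cong (aut_ch γ 3) (y := cm (xb 1 fr_one) (xa x.c))
      (inv_mul_Z3 (cm_Z4 _ _) hx (by simp [cm_c])) (by
        rw [ef_cm γ trivial trivial]
        exact inv_mul_Z3 (cm_Z4 _ _) (cm_Z4 _ _) (by simp only [cm_c, ha, hb]))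
  have hc : ∀ x ∈ Z4 K, (equivFun γ x).c = x.c := fun x hx => by
    have := (h4 x hx).2.2
    simp [hx.1, hx.2] at this
    linear_combination this
  have h3 : ∀ x ∈ Z3 K, x⁻¹ * equivFun γ x ∈ Z2 K := fun x hx => by
    obtain ⟨w, α, e⟩ := exists_cr2 x.d
    have h := aut_ch γ 4 _ trivial (xc_mem α)
    refine aut_cong (aut_ch γ 2) (y := cm (xc α) (xa w))
      (inv_mul_Z2 (cm_Z3 (.inl (xc_mem α))) hx (by rw [cm_d1 (xc_mem α), ← e]; rfl)) ?_
    rw [ef_cm γ trivial trivial]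
    exact inv_mul_Z2 (cm_Z3 (.inl (xc_mem α))) (cm_Z3 (.inl h))
      (by rw [cm_d1 h, cm_d1 (xc_mem α), ha, hc _ (xc_mem α)])
  have hd : ∀ x ∈ Z3 K, (equivFun γ x).d = x.d := fun x hx => by
    have := (h3 x hx).2.2.2
    simp [hx.1, hx.2.1, hx.2.2] at this
    linear_combination this
  have h2 : ∀ x ∈ Z2 K, x⁻¹ * equivFun γ x ∈ Z1 K := fun x hx => by
    obtain ⟨d, e⟩ := exists_Tr (x := (1 : K)) one_ne_zero x.he
    have h := aut_ch γ 3 _ trivial (xd_mem d)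
    refine aut_cong (aut_ch γ 1) (y := cm (xd d) (xa 1))
      (inv_mul_Z1 (cm_Z2 (.inl (xd_mem d))) hx (by rw [cm_e3 (xd_mem d), ← e]; rfl)) ?_
    rw [ef_cm γ trivial trivial]
    exact inv_mul_Z1 (cm_Z2 (.inl (xd_mem d))) (cm_Z2 (.inl h))
      (by rw [cm_e3 h, cm_e3 (xd_mem d), ha, hd _ (xd_mem d)])
  have he : ∀ x ∈ Z2 K, (equivFun γ x).e = x.e := fun x hx => by
    have := (h2 x hx).2.2.2.2
    simp [hx.1, hx.2.1, hx.2.2.1, hx.2.2.2] at this
    linear_combination this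
  have h1 : ∀ x ∈ Z1 K, x⁻¹ * equivFun γ x ∈ (⊥ : Subgroup (US K)) := fun x hx => by
    have h0 := xe_mem x.f x.hf
    have h := aut_ch γ 2 _ trivial h0
    have e : x = cm (xe x.f x.hf) (xb 1 fr_one) :=
      ext_Z1 hx (cm_Z1 (.inl h0)) (by rw [cm_f3 (Z2_le_Z3 h0)]; simp)
    rw [mem_bot, inv_mul_eq_one]
    conv_rhs => rw [e, ef_cm γ trivial trivial]
    refine ext_Z1 hx (cm_Z1 (.inl h)) ?_
    rw [cm_f3 (Z2_le_Z3 h), he _ h0, hb, h.2.2.2]
    simp
  exact fun i x _ hx =>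
    match i, hx with
    | 0, hx => h1 x hx
    | 1, hx => h2 x hx
    | 2, hx => h3 x hx
    | 3, hx => h4 x hx
    | 4, _ => ⟨by simp [ha], by simp [hb]⟩
    | _ + 5, _ => trivial

theorem exists_par {β : K} (hβ : fr β = β) (β0 : β ≠ 0) (β1 : β ≠ 1) :
    ∃ t : Par K, (∀ x, (equivFun γ x).a = t.a * t.σ x.a) ∧ ∀ x, (equivFun γ x).b = t.b * t.σ x.b := by
  obtain ⟨φ, hφ⟩ : ∃ φ : US K ≃* US K, ∀ x, equivFun γ x = φ x :=
    ⟨MulAut.congr topEquiv γ, fun x => equivFun_of_mem _ (mem_top x)⟩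
  have inv : ∀ {U : Subgroup (US K)}, Inv γ U → ∀ x ∈ U, φ x ∈ U := fun hi x h =>
    hφ x ▸ hi _ trivial h
  have key : ∀ {U : Subgroup (US K)}, Inv γ U → ∀ x y, y⁻¹ * x ∈ U → (φ y)⁻¹ * φ x ∈ U :=
    fun hi x y h => by rw [← map_inv, ← map_mul]; exact inv hi _ h
  have back : ∀ {U : Subgroup (US K)}, Inv γ⁻¹ U → ∀ x, φ x ∈ U → x ∈ U :=
    fun hi x h => equivFun_inv_apply γ (mem_top x) ▸ hi _ trivial (hφ x ▸ h)
  have hcm : ∀ x y, φ (cm x y) = cm (φ x) (φ y) := fun x y => by simp only [cm, map_mul, map_inv]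
  simp only [hφ]
  obtain ⟨A, hA⟩ : ∃ A : K → K, ∀ x, (φ x).a = A x.a :=
    ⟨fun α => (φ (xa α)).a, fun x => by
      have := key (aut_Qa γ) x (xa x.a) (by simp [mem_Qa])
      simp [mem_Qa] at this
      linear_combination this⟩
  obtain ⟨B, hB⟩ : ∃ B : K → K, ∀ x, (φ x).b = B x.b := by
    classical
    refine ⟨fun β => if h : fr β = β then (φ (xb β h)).b else 0, fun x => ?_⟩
    have := key (aut_Qb γ) x (xb x.b x.hb) (by simp [mem_Qb])
    simp [mem_Qb] at this ⊢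
    linear_combination this
  obtain ⟨E, hE⟩ : ∃ E : K → K, ∀ x ∈ Z3 K, (φ x).d = E x.d :=
    ⟨fun δ => (φ (xd δ)).d, fun x hx => by
      have := (key (aut_ch γ 2) x (xd x.d) (inv_mul_Z2 (xd_mem _) hx rfl)).2.2.2
      have h1 := inv (aut_ch γ 3) _ (xd_mem x.d)
      simp [h1.1, h1.2.1] at this
      linear_combination this⟩
  have h4 : ∀ x ∈ Z4 K, (φ x).c = (φ (xc x.c)).c ∧ (φ x).d = (φ (xc x.c)).d + E x.d := fun x hx => by
    have h1 := inv_mul_Z3 (xc_mem x.c) hx rfl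
    have h2 := (key (aut_ch γ 3) _ _ h1).2.2
    have h3 := hE _ h1
    have h5 := inv (aut_ch γ 4) _ (xc_mem x.c)
    simp [h5.1, h5.2] at h2 h3
    exact ⟨by linear_combination h2, by linear_combination h3⟩
  have A0 : A 0 = 0 := by simpa using (hA 1).symm
  have B0 : B 0 = 0 := by simpa using (hB 1).symm
  have fB : ∀ l, fr l = l → fr (B l) = B l := fun l hl => hB (xb l hl) ▸ (φ _).hb
  have iB : ∀ l, fr l = l → B l = 0 → l = 0 := fun l hl e =>
    back (aut_Qb γ⁻¹) (xb l hl) ((hB _).trans e)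
  have b0 : B 1 ≠ 0 := fun e => one_ne_zero (iB 1 fr_one e)
  have r1 : ∀ l, fr l = l → ∀ t, (φ (xc (l * t))).c = B l * A t := fun l hl t => by
    have := (h4 _ (cm_Z4 (xb l hl) (xa t))).1
    rw [hcm, cm_c, cm_c] at this
    simpa [hA, hB, A0, B0] using this.symm
  have r0 : ∀ t, (φ (xc t)).c = B 1 * A t := fun t => by simpa using r1 1 fr_one t
  have a1 : ∀ l t, fr l = l → A (l * t) = B l / B 1 * A t := fun l t hl => by
    field_simp
    rw [mul_comm, ← r0, r1 l hl]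
  have fs : ∀ l, fr l = l → fr (B l / B 1) = B l / B 1 := fun l hl => by
    rw [map_div₀, fB l hl, fB 1 fr_one]
  have r2 : ∀ t c, E (cr t c) = B 1 * cr (A t) (A c) := fun t c => by
    have := hE _ (cm_Z3 (y := xa t) (.inl (xc_mem c)))
    rw [hcm, cm_d1 (inv (aut_ch γ 4) _ (xc_mem c)), cm_d1 (xc_mem c), hA, r0,
      cr_smul (fB 1 fr_one)] at this
    exact this.symm
  have e1 : ∀ l z, fr l = l → E (l * z) = B l / B 1 * E z := fun l z hl => by
    obtain ⟨t, c, rfl⟩ := exists_cr2 z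
    rw [← cr_smul hl, r2, r2, a1 l c hl, cr_smul (fs l hl)]
    ring
  have r3 : ∀ l (hl : fr l = l) t, (φ (xc (l * t))).d + B l / B 1 * E (sh t) =
      cr (A t) (φ (xb l hl)).c + B l * sh (A t) := fun l hl t => by
    have := (h4 _ (cm_Z4 (xb l hl) (xa t))).2
    rw [hcm, cm_c, cm_d', cm_d'] at this
    simpa [hA, hB, A0, B0, e1 l _ hl] using this.symm
  obtain ⟨s, hs⟩ : ∃ s, s = B β / B 1 := ⟨_, rfl⟩
  have s1 : s ^ 2 - s ≠ 0 := by
    have : B β = B (β - 1) + B 1 := by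
      have := hB (xb (β - 1) (by simp [hβ]) * xb 1 fr_one)
      rw [map_mul] at this
      simpa [hB] using this.symm
    rw [pow_two, ← mul_sub_one, hs]
    refine mul_ne_zero (div_ne_zero (fun e => β0 (iB β hβ e)) b0) (sub_ne_zero.2 fun e => β1
      (sub_eq_zero.1 (iB _ (by simp [hβ]) ?_)))
    rw [div_eq_one_iff_eq b0] at e
    linear_combination e - this
  have r4 : ∀ t, (s ^ 2 - s) * (B 1 * sh (A t) - E (sh t)) =
      cr (A t) (φ (xb β hβ)).c - s * cr (A t) (φ (xb 1 fr_one)).c := fun t => by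
    have h1 := r3 β hβ t
    have h2 := r3 1 fr_one (β * t)
    rw [one_mul, a1 β t hβ, sh_smul hβ, pow_two, mul_assoc, e1 β _ hβ, e1 β _ hβ,
      sh_smul (fs β hβ), cr_comm, cr_smul (fs β hβ), cr_comm, ← hs, div_self b0] at h2
    rw [← hs, show B β = s * B 1 by rw [hs, div_mul_cancel₀ _ b0]] at h1
    linear_combination h1 - h2
  have r5 : ∀ t, sh (A t) = E (sh t) / B 1 := fun t => by
    have h1 := r4 t
    have h2 := r4 (β * t)
    rw [a1 β t hβ, sh_smul hβ, pow_two β, mul_assoc β, e1 β _ hβ, e1 β _ hβ, sh_smul (fs β hβ),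
      cr_comm, cr_smul (fs β hβ), cr_comm, cr_comm (_ * _), cr_smul (fs β hβ), cr_comm _ (A t),
      ← hs] at h2
    rw [eq_div_iff b0, ← sub_eq_zero]
    exact mul_left_cancel₀ (mul_ne_zero s1 s1) (by linear_combination h2 - s * h1)
  obtain ⟨ρ, hρ⟩ := exists_str (Q := A) (R := fun z => E z / B 1) (σ := fun l => B l / B 1)
    (fun x y => by simpa [hA] using (hA (xa x * xa y)).symm)
    (fun x y => by
      have h1 := inv (aut_ch γ 3) _ (xd_mem x)
      have := hE _ (xd_mem (x + y))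
      rw [xd_add, map_mul, mul_d, hE _ (xd_mem x), hE _ (xd_mem y), h1.1] at this
      simp at this
      rw [← this, add_div])
    (fun x hx => back (aut_Qa γ⁻¹) (xa x) ((hA _).trans hx)) fs
    (fun m hm => by
      obtain ⟨x, hx⟩ := φ.surjective (xb (m * B 1) (by rw [map_mul, hm, fB 1 fr_one]))
      exact ⟨x.b, x.hb, by rw [← hB, hx, xb_b, mul_div_cancel_right₀ _ b0]⟩)
    a1 (fun l z hl => by rw [e1 l z hl, mul_div_assoc]) r5
  have a0 : A 1 ≠ 0 := fun e => one_ne_zero (back (aut_Qa γ⁻¹) (xa (1 : K)) ((hA _).trans e))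
  refine ⟨⟨Units.mk0 _ a0, Units.mk0 _ b0, ρ, fB 1 fr_one⟩, fun x => (hA x).trans (hρ _),
    fun x => (hB x).trans ?_⟩
  have := a1 x.b 1 x.hb
  rw [mul_one, hρ, mul_comm] at this
  rw [Units.val_mk0, mul_right_cancel₀ a0 this, mul_div_cancel₀ _ b0]

end

/-- the standard automorphisms of `⊤` -/
noncomputable def tauT : Par K →* MulAut (⊤ : Subgroup (US K)) :=
  (MulAut.congr topEquiv.symm).toMonoidHom.comp tau

theorem ef_tauT (t : Par K) (x : US K) : equivFun (tauT t) x = tauF t x := by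
  rw [equivFun_of_mem _ (mem_top x)]; rfl

theorem exists_conj_par {B : Subgroup (MulAut (⊤ : Subgroup (US K)))} (hB : ¬p ∣ Nat.card B) :
    ∃ n, ∀ b ∈ B, ∃ t : Par K, (∀ x, (equivFun (n * b * n⁻¹) x).a = t.a * t.σ x.a) ∧
      ∀ x, (equivFun (n * b * n⁻¹) x).b = t.b * t.σ x.b := by
  by_cases hq : ∀ l : K, fr l = l → l = 0 ∨ l = 1; swap
  · push Not at hq
    obtain ⟨l, hl, l0, l1⟩ := hq
    exact ⟨1, fun b _ => exists_par _ hl l0 l1⟩
  have h2 : (2 : K) = 0 := (hq (-1) (by simp)).elim (by simp) fun e => by linear_combination -e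
  obtain rfl : p = 2 := (Nat.prime_dvd_prime_iff_eq hp.out Nat.prime_two).1
    ((CharP.cast_eq_zero_iff K p 2).1 h2)
  have hb : ∀ (γ : MulAut (⊤ : Subgroup (US K))) x, (equivFun γ x).b = x.b := fun γ x => by
    rcases hq _ x.hb with e | e
    · exact (aut_Qb γ x trivial e).trans e.symm
    · exact e ▸ (hq _ (equivFun γ x).hb).resolve_left fun e' => one_ne_zero
        (e.symm.trans (equivFun_inv_apply γ (mem_top x) ▸ aut_Qb γ⁻¹ _ trivial e'))
  obtain ⟨ρ, hρ⟩ := exists_vb (R := ⊤) (US.a (K := K)) (fun _ _ _ _ => rfl)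
    (fun v => ⟨xa v, trivial, rfl⟩) fun γ x hx => aut_Qa γ x hx
  have hτ : ∀ t y, ρ (tauT t) y = t.a * t.σ y := fun t y =>
    (hρ _ (xa y) trivial).trans (by rw [ef_tauT]; rfl)
  have h8 := card_eight hq
  have hG : Nat.card (K ≃ₗ[ℤ] K) = 168 := by
    let _ : Module (ZMod 2) K := (ZMod.algebra K 2).toModule
    rw [← Nat.card_congr (show (K ≃+ K) ≃ (K ≃ₗ[ℤ] K) from
      ⟨AddEquiv.toIntLinearEquiv, LinearEquiv.toAddEquiv, fun _ => rfl, fun _ => rfl⟩),
      FT.card_linearEquiv_zmod (p := 2) (n := 3) h8]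
    rfl
  obtain ⟨g, hg⟩ := exists_fix_coset (B := B) (Γ := ((tauT (K := K)).range.map ρ).comap ρ) (by
    refine Nat.Coprime.dvd_of_dvd_mul_left (m := 8) (Nat.Coprime.pow_right 3
      ((Nat.Prime.coprime_iff_not_dvd hp.out).2 hB).symm) ?_
    rw [← H1.card_map_of_disjoint_ker (f := ρ) (disjoint_of_coprime_natCard
      (H1.coprime_card_of_isPGroup ((H7.isPGroup_chainStab (isPGroup_top 2) chZ_mono (top_inf_eq _) (n := 5)
        le_rfl).to_le fun γ hγ => mem_chZ γ (fun x => by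
          rw [← hρ γ x trivial, show ρ γ = 1 from hγ]; rfl) (hb γ))
        ((Nat.Prime.coprime_iff_not_dvd hp.out).2 hB).symm))]
    exact (card_subgroup_dvd_card _).trans hG.dvd) (by
    obtain ⟨θ, hθ⟩ := exists_ne K
    have θ0 : θ ≠ 0 := fun e => hθ (by simp [e])
    have : Fact (Nat.Prime 7) := ⟨by norm_num⟩
    have : Fact (Nat.Prime 3) := ⟨by norm_num⟩
    have k : ∀ (r : ℕ) [Fact r.Prime] (t : Par K), t ^ r = 1 → t.a * t.σ θ ≠ θ →
        r ∣ Nat.card ((tauT (K := K)).range.map ρ) := fun r _ t h1 h3 =>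
      (orderOf_eq_prime (x := ρ (tauT t)) (by rw [← map_pow, ← map_pow, h1, map_one, map_one])
        fun e => h3 (by rw [← hτ, e]; rfl)) ▸ orderOf_dvd_natCard _ ⟨_, ⟨t, rfl⟩, rfl⟩
    have h21 := Nat.Coprime.mul_dvd_of_dvd_of_dvd (by norm_num)
      (k 3 ⟨1, 1, fr, by simp⟩ (by ext <;> simp [pow_succ]) (by simpa using hθ))
      (k 7 (dpar θ 1 θ0 one_ne_zero fr_one) (by
        let _ := Fintype.ofFinite K
        have := FiniteField.pow_card_sub_one_eq_one θ θ0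
        rw [← Nat.card_eq_fintype_card, h8] at this
        ext <;> simp [pow_succ] at this ⊢
        linear_combination this) (by simpa [θ0] using fun e => hθ (by simp [e])))
    rw [index_comap]
    refine (Dvd.intro _ (relIndex_mul_index (map_le_range _ _))).trans
      (Nat.dvd_of_mul_dvd_mul_left (show 0 < 3 * 7 by norm_num) ?_)
    exact (Nat.mul_dvd_mul_right h21 _).trans (by rw [card_mul_index, hG]))
  refine ⟨g⁻¹, fun b hb' => ?_⟩
  obtain ⟨_, ⟨t, rfl⟩, ht⟩ := hg b hb'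
  refine ⟨t, fun x => by rw [inv_inv, ← hρ _ x trivial, ← ht, hτ], fun x => ?_⟩
  rw [hb, (hq _ t.hb).resolve_left t.b.ne_zero, one_mul]
  rcases hq _ x.hb with e | e <;> simp [e]

theorem exists_conj_tau {B : Subgroup (MulAut (⊤ : Subgroup (US K)))} (hB : ¬p ∣ Nat.card B) :
    ∃ n, ∀ b ∈ B, ∃ t : Par K, tauT t = n * b * n⁻¹ := by
  obtain ⟨m, hm⟩ := exists_conj_par hB
  obtain ⟨P0, hP⟩ : ∃ P0, P0 = H7.chainStab ⊤ (chZ K) chZ_mono := ⟨_, rfl⟩
  have hn : P0.Normal := ⟨fun δ hδ γ => hP ▸ conj_mem_chainStab chZ_mono (aut_ch γ) (hP ▸ hδ)⟩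
  have hp0 : IsPGroup p P0 :=
    hP ▸ H7.isPGroup_chainStab (isPGroup_top p) chZ_mono (top_inf_eq _) (n := 5) le_rfl
  obtain ⟨C, hC⟩ : ∃ C, C = B.map (MulAut.conj m).toMonoidHom := ⟨_, rfl⟩
  have hcov : ∀ γ ∈ C, ∃ t, (tauT t)⁻¹ * γ ∈ P0 := by
    rw [hC]
    rintro _ ⟨b, hb, rfl⟩
    obtain ⟨t, h1, h2⟩ := hm b hb
    refine ⟨t, hP ▸ mem_chZ _ (fun x => ?_) fun x => ?_⟩
    · rw [equivFun_mul _ _ (mem_top _), ← map_inv, ef_tauT]
      simp [h1 x]
    · rw [equivFun_mul _ _ (mem_top _), ← map_inv, ef_tauT]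
      simp [h2 x]
  have hdis : Disjoint (tauT (K := K)).range P0 := disjoint_def.2 <| by
    rintro _ ⟨t, rfl⟩ ht
    rw [hP, H7.mem_chainStab] at ht
    rw [eq_one_of_tauF (t := t) (fun x => ?_) ?_, map_one]
    · have := (ht 4 (xb 1 fr_one) trivial trivial).2
      simp [ef_tauT] at this
      linear_combination this
    · have := (ht 4 (xa x) trivial trivial).1
      simp [ef_tauT] at this
      linear_combination this
  have hcB : (Nat.card C).Coprime (Nat.card P0) := H1.coprime_card_of_isPGroup hp0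
    (((Nat.Prime.coprime_iff_not_dvd hp.out).2 hB).symm.coprime_dvd_left (hC ▸ card_map_dvd _ _))
  obtain ⟨n, -, hn'⟩ := H1.exists_conj_le_of_coprime (A := (tauT (K := K)).range ⊓ (C ⊔ P0)) (K := P0)
    le_normalizer_of_normal (by
      refine Nat.Coprime.coprime_dvd_left ?_ hcB
      rw [← H1.card_map_of_disjoint_ker (f := QuotientGroup.mk' P0)
        (by rw [QuotientGroup.ker_mk']; exact hdis.mono_left inf_le_left)]
      refine (card_dvd_of_le ((map_mono inf_le_right).trans ?_)).trans (card_map_dvd C (QuotientGroup.mk' P0))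
      rw [Subgroup.map_sup, QuotientGroup.map_mk'_self, sup_bot_eq])
    (B := C) (fun b hb => by
      obtain ⟨t, ht⟩ := hcov b hb
      have h1 : tauT t ∈ C ⊔ P0 := by
        simpa using mul_mem (mem_sup_left hb) (mem_sup_right (inv_mem ht) : _ ∈ C ⊔ P0)
      have h2 : tauT t ∈ (tauT (K := K)).range ⊓ (C ⊔ P0) := ⟨⟨t, rfl⟩, h1⟩
      simpa using mul_mem (mem_sup_right h2) (mem_sup_left ht : _ ∈ P0 ⊔ _))
    hcB (Or.inr (by have := hp0.isNilpotent; infer_instance))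
  refine ⟨n * m, fun b hb => ?_⟩
  obtain ⟨t, ht⟩ := (hn' (H1.conj_mem_conj_smul_iff.2 (hC ▸ mem_map_of_mem _ hb))).1
  exact ⟨t, by rw [ht]; simp [mul_assoc]⟩

theorem exists_std {F : FusionSystem (⊤ : Subgroup (US K))} (hF : F.IsSaturated p) :
    ∃ (E : FusionSystem (⊤ : Subgroup (US K))) (t s : US K → US K), F.IsoVia E t s ∧ Std E := by
  have hS := hF.sylowIn (isPGroup_top p) F.isFullyNormalized_top
  rw [← inn_eq_autInducedBy] at hS
  obtain ⟨B, hB, hc, hsup, -⟩ := H1.exists_complement_of_coprime_relIndex hS.le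
    le_normalizer_of_normal (H1.coprime_card_of_isPGroup hS.isPGroup
      ((Nat.Prime.coprime_iff_not_dvd hp.out).2 hS.not_dvd_relIndex).symm).symm
  obtain ⟨n, hn'⟩ := exists_conj_tau (B := B) (hc ▸ hS.not_dvd_relIndex)
  have hg : GrpIso (⊤ : Subgroup (US K)) ⊤ (equivFun n) (equivFun n⁻¹) :=
    ⟨isHomOn_equivFun _, isHomOn_equivFun _, fun _ _ => trivial, fun _ _ => trivial,
      fun x hx => equivFun_inv_apply n hx, fun x hx => equivFun_apply_inv n hx⟩
  obtain ⟨E, hE⟩ := F.exists_isoVia hg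
  refine ⟨E, _, _, hE, fun f hf => ?_⟩
  obtain ⟨α, hα, e⟩ := (hE.isIso_symm le_rfl le_rfl (by rwa [hg.img_top])).exists_aut
  obtain ⟨i, hi, b, hb, rfl⟩ := (H1.mem_sup_of_le_normalizer le_normalizer_of_normal).1 (hsup.ge hα)
  obtain ⟨w, -, hw⟩ := mem_inn_iff.1 hi
  obtain ⟨t, ht⟩ := hn' b hb
  refine ⟨equivFun n w, t, fun x => ?_⟩
  have h1 := congrArg (equivFun n) (e (equivFun n⁻¹ x) trivial)
  rw [equivFun_apply_inv n (mem_top _), equivFun_apply_inv n (mem_top _), equivFun_mul _ _ (mem_top _),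
    equivFun_of_mem i (mem_top _), hw, (isHomOn_equivFun n).map_conj (mem_top _) (mem_top _)] at h1
  rw [← h1, ← ef_tauT, ht, equivFun_mul _ _ (mem_top _), equivFun_mul _ _ (mem_top _)]

end Cfsg.Agent.D4
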