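import Cfsg.Agent.Lib.D4.Field
import Cfsg.Agent.Lib.H9.SC

/-!
# S5261: the Sylow `p`-subgroup of `³D₄(q)` in coordinates (see notes/TD_helper2.md)

`⟨a, b, c, d, e, f⟩` is `X_{3a+2b}(f) X_{3a+b}(e) X_{2a+b}(d) X_{a+b}(c) X_b(b) X_a(a)`.
-/

set_option autoImplicit false
set_option linter.unusedSectionVars false
set_option linter.unusedVariables false

namespace Cfsg.Agent.D4

open Subgroup
open scoped commutatorElement

@[ext] structure US (K : Type*) [Field K] [TF K] where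
  a : K
  b : K
  c : K
  d : K
  e : K
  f : K
  hb : fr b = b
  he : fr e = e
  hf : fr f = f

variable {K : Type*} [Field K] [hK : TF K]

namespace US

attribute [simp] hb he hf

instance instOneD4 : One (US K) := ⟨⟨0, 0, 0, 0, 0, 0, by simp, by simp, by simp⟩⟩

instance instMulD4 : Mul (US K) := ⟨fun x y =>
  ⟨x.a + y.a, x.b + y.b, x.c + y.c + y.b * x.a, x.d + y.d + cr x.a y.c + y.b * sh x.a,
    x.e + y.e + Tr (x.a * y.d) + Tr (sh x.a * y.c) + y.b * Nm x.a,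
    x.f + y.f - y.b * Tr (sh x.a * y.c) - Tr (x.a * sh y.c) - y.b * y.b * Nm x.a +
      x.b * (y.e + Tr (x.a * y.d) + Tr (sh x.a * y.c) + y.b * Nm x.a) -
      Tr (x.c * (y.d + cr x.a y.c + y.b * sh x.a)),
    by simp, by simp, by simp⟩⟩

instance instInvD4 : Inv (US K) := ⟨fun x =>
  ⟨-x.a, -x.b, -x.c + x.b * x.a, -x.d + cr x.a x.c - x.b * sh x.a,
    -x.e + Tr (x.a * x.d) - Tr (sh x.a * x.c) + x.b * Nm x.a,
    -x.f + x.b * x.e - Tr (x.c * x.d) - x.b * Tr (sh x.a * x.c) + Tr (x.a * sh x.c) +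
      x.b * x.b * Nm x.a, by simp, by simp, by simp⟩⟩

@[simp] theorem one_a : (1 : US K).a = 0 := rfl
@[simp] theorem one_b : (1 : US K).b = 0 := rfl
@[simp] theorem one_c : (1 : US K).c = 0 := rfl
@[simp] theorem one_d : (1 : US K).d = 0 := rfl
@[simp] theorem one_e : (1 : US K).e = 0 := rfl
@[simp] theorem one_f : (1 : US K).f = 0 := rfl
@[simp] theorem mul_a (x y : US K) : (x * y).a = x.a + y.a := rfl
@[simp] theorem mul_b (x y : US K) : (x * y).b = x.b + y.b := rfl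
@[simp] theorem mul_c (x y : US K) : (x * y).c = x.c + y.c + y.b * x.a := rfl
@[simp] theorem mul_d (x y : US K) : (x * y).d = x.d + y.d + cr x.a y.c + y.b * sh x.a := rfl
@[simp] theorem mul_e (x y : US K) :
    (x * y).e = x.e + y.e + Tr (x.a * y.d) + Tr (sh x.a * y.c) + y.b * Nm x.a := rfl
@[simp] theorem mul_f (x y : US K) : (x * y).f =
    x.f + y.f - y.b * Tr (sh x.a * y.c) - Tr (x.a * sh y.c) - y.b * y.b * Nm x.a +
      x.b * (y.e + Tr (x.a * y.d) + Tr (sh x.a * y.c) + y.b * Nm x.a) -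
      Tr (x.c * (y.d + cr x.a y.c + y.b * sh x.a)) := rfl
@[simp] theorem inv_a (x : US K) : x⁻¹.a = -x.a := rfl
@[simp] theorem inv_b (x : US K) : x⁻¹.b = -x.b := rfl
@[simp] theorem inv_c (x : US K) : x⁻¹.c = -x.c + x.b * x.a := rfl
@[simp] theorem inv_d (x : US K) : x⁻¹.d = -x.d + cr x.a x.c - x.b * sh x.a := rfl
@[simp] theorem inv_e (x : US K) :
    x⁻¹.e = -x.e + Tr (x.a * x.d) - Tr (sh x.a * x.c) + x.b * Nm x.a := rfl
@[simp] theorem inv_f (x : US K) : x⁻¹.f =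
    -x.f + x.b * x.e - Tr (x.c * x.d) - x.b * Tr (sh x.a * x.c) + Tr (x.a * sh x.c) +
      x.b * x.b * Nm x.a := rfl

instance instGroupD4 : Group (US K) := Group.ofLeftAxioms
  (fun x y z => by ext <;> simp [Tr, Nm, sh, cr] <;> ring) (fun x => by ext <;> simp)
  (fun x => by ext <;> simp [Tr, Nm, sh, cr] <;> ring)

instance instFiniteD4 : Finite (US K) :=
  Finite.of_injective (fun x : US K => (x.a, x.b, x.c, x.d, x.e, x.f)) fun x y h => by
    simp only [Prod.mk.injEq] at h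
    exact US.ext h.1 h.2.1 h.2.2.1 h.2.2.2.1 h.2.2.2.2.1 h.2.2.2.2.2

end US

open US

variable (K) in
def Qa : Subgroup (US K) where
  carrier := {x | x.a = 0}
  one_mem' := rfl
  mul_mem' := fun {x y} hx hy => by simp_all
  inv_mem' := fun {x} hx => by simp_all

variable (K) in
def Qb : Subgroup (US K) where
  carrier := {x | x.b = 0}
  one_mem' := rfl
  mul_mem' := fun {x y} hx hy => by simp_all
  inv_mem' := fun {x} hx => by simp_all

variable (K) in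
def Z4 : Subgroup (US K) where
  carrier := {x | x.a = 0 ∧ x.b = 0}
  one_mem' := ⟨rfl, rfl⟩
  mul_mem' := fun {x y} hx hy => by simp_all
  inv_mem' := fun {x} hx => by simp_all

variable (K) in
def Z3 : Subgroup (US K) where
  carrier := {x | x.a = 0 ∧ x.b = 0 ∧ x.c = 0}
  one_mem' := ⟨rfl, rfl, rfl⟩
  mul_mem' := fun {x y} hx hy => by simp_all
  inv_mem' := fun {x} hx => by simp_all

variable (K) in
def Z2 : Subgroup (US K) where
  carrier := {x | x.a = 0 ∧ x.b = 0 ∧ x.c = 0 ∧ x.d = 0}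
  one_mem' := ⟨rfl, rfl, rfl, rfl⟩
  mul_mem' := fun {x y} hx hy => by simp_all
  inv_mem' := fun {x} hx => by simp_all

variable (K) in
def Z1 : Subgroup (US K) where
  carrier := {x | x.a = 0 ∧ x.b = 0 ∧ x.c = 0 ∧ x.d = 0 ∧ x.e = 0}
  one_mem' := ⟨rfl, rfl, rfl, rfl, rfl⟩
  mul_mem' := fun {x y} hx hy => by simp_all
  inv_mem' := fun {x} hx => by simp_all

variable {x y : US K}

theorem mem_Qa : x ∈ Qa K ↔ x.a = 0 := Iff.rfl
theorem mem_Qb : x ∈ Qb K ↔ x.b = 0 := Iff.rfl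
theorem mem_Z4 : x ∈ Z4 K ↔ x.a = 0 ∧ x.b = 0 := Iff.rfl
theorem mem_Z3 : x ∈ Z3 K ↔ x.a = 0 ∧ x.b = 0 ∧ x.c = 0 := Iff.rfl
theorem mem_Z2 : x ∈ Z2 K ↔ x.a = 0 ∧ x.b = 0 ∧ x.c = 0 ∧ x.d = 0 := Iff.rfl
theorem mem_Z1 : x ∈ Z1 K ↔ x.a = 0 ∧ x.b = 0 ∧ x.c = 0 ∧ x.d = 0 ∧ x.e = 0 := Iff.rfl

theorem Z1_le_Z2 : Z1 K ≤ Z2 K := fun x h => ⟨h.1, h.2.1, h.2.2.1, h.2.2.2.1⟩
theorem Z2_le_Z3 : Z2 K ≤ Z3 K := fun x h => ⟨h.1, h.2.1, h.2.2.1⟩
theorem Z3_le_Z4 : Z3 K ≤ Z4 K := fun x h => ⟨h.1, h.2.1⟩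
theorem Z4_le_Qa : Z4 K ≤ Qa K := fun x h => h.1
theorem Z4_le_Qb : Z4 K ≤ Qb K := fun x h => h.2
theorem Z3_le_Qa : Z3 K ≤ Qa K := fun x h => h.1
theorem Z3_le_Qb : Z3 K ≤ Qb K := fun x h => h.2.1
theorem Z2_le_Qa : Z2 K ≤ Qa K := fun x h => h.1
theorem Z2_le_Qb : Z2 K ≤ Qb K := fun x h => h.2.1
theorem Z1_le_Qa : Z1 K ≤ Qa K := fun x h => h.1
theorem Z1_le_Qb : Z1 K ≤ Qb K := fun x h => h.2.1

/-! commutators in the form `x⁻¹ * (y * x * y⁻¹)` -/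

/-- the commutator used by `chainStab` -/
abbrev cm {W : Type*} [Group W] (x y : W) : W := x⁻¹ * (y * x * y⁻¹)

theorem cm_a (x y : US K) : (cm x y).a = 0 := by simp
theorem cm_b (x y : US K) : (cm x y).b = 0 := by simp
theorem cm_c (x y : US K) : (cm x y).c = x.b * y.a - y.b * x.a := by simp; ring

theorem cm_d (x y : US K) : (cm x y).d = cr y.a x.c - cr x.a y.c + x.b * sh y.a - y.b * sh x.a -
    cr x.a (x.b * y.a - y.b * x.a) - cr (x.a + y.a) (y.b * x.a) +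
    y.b * (2 * sh x.a + cr x.a y.a) := by
  simp [sh, cr]; ring

theorem cm_Z4 (x y : US K) : cm x y ∈ Z4 K := ⟨cm_a x y, cm_b x y⟩

theorem cm_Z3 (h : x ∈ Z4 K ∨ y ∈ Z4 K ∨ x ∈ Qb K ∧ y ∈ Qb K) : cm x y ∈ Z3 K := by
  refine ⟨cm_a x y, cm_b x y, ?_⟩
  rw [cm_c]
  rcases h with h | h | h <;> simp [mem_Qb.1, h.1, h.2]

theorem cm_Z2 (h : x ∈ Z3 K ∨ y ∈ Z3 K) : cm x y ∈ Z2 K := by
  rcases h with ⟨h1, h2, h3⟩ | ⟨h1, h2, h3⟩ <;> simp [mem_Z2, h1, h2, h3, sh, cr] <;> ring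

theorem cm_Z1 (h : x ∈ Z2 K ∨ y ∈ Z2 K ∨ x ∈ Qa K ∧ y ∈ Qa K) : cm x y ∈ Z1 K := by
  rcases h with ⟨h1, h2, h3, h4⟩ | ⟨h1, h2, h3, h4⟩ | ⟨h1, h2⟩
  · simp [mem_Z1, h1, h2, h3, h4, sh, cr, Tr, Nm]; refine ⟨?_, ?_⟩ <;> ring
  · simp [mem_Z1, h1, h2, h3, h4, sh, cr, Tr, Nm]; refine ⟨?_, ?_⟩ <;> ring
  · simp [mem_Z1, mem_Qa.1 h1, mem_Qa.1 h2]

theorem comm_Z1 (h : x ∈ Z1 K) (y : US K) : x * y = y * x := by
  obtain ⟨h1, h2, h3, h4, h5⟩ := h
  ext <;> simp [h1, h2, h3, h4, h5, add_comm]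

theorem comm_Z2 (h : x ∈ Z2 K) (hy : y ∈ Qb K) : x * y = y * x := by
  obtain ⟨h1, h2, h3, h4⟩ := h
  ext <;> simp [h1, h2, h3, h4, mem_Qb.1 hy, add_comm]

theorem comm_Z3 (h : x ∈ Z3 K) (hy : y ∈ Z3 K) : x * y = y * x := by
  ext <;> simp [h.1, h.2.1, h.2.2, hy.1, hy.2.1, hy.2.2, add_comm]

theorem normal_of_cm {W : Type*} [Group W] {R : Subgroup W} (h : ∀ x ∈ R, ∀ t, cm x t ∈ R) :
    R.Normal := ⟨fun x hx t => by simpa using mul_mem hx (h x hx t)⟩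

theorem normal_of_Z4_le {R : Subgroup (US K)} (h : Z4 K ≤ R) : R.Normal :=
  normal_of_cm fun x _ t => h (cm_Z4 x t)

instance instNormalQa : (Qa K).Normal := normal_of_Z4_le Z4_le_Qa
instance instNormalQb : (Qb K).Normal := normal_of_Z4_le Z4_le_Qb
instance instNormalZ4 : (Z4 K).Normal := normal_of_Z4_le le_rfl
instance instNormalZ3 : (Z3 K).Normal := normal_of_cm fun x h t => cm_Z3 (.inl (Z3_le_Z4 h))
instance instNormalZ2 : (Z2 K).Normal := normal_of_cm fun x h t => cm_Z2 (.inl (Z2_le_Z3 h))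
instance instNormalZ1 : (Z1 K).Normal := normal_of_cm fun x h t => cm_Z1 (.inl (Z1_le_Z2 h))

/-! root elements -/

@[simps] def xa (a : K) : US K := ⟨a, 0, 0, 0, 0, 0, by simp, by simp, by simp⟩
@[simps] def xb (b : K) (h : fr b = b) : US K := ⟨0, b, 0, 0, 0, 0, h, by simp, by simp⟩
@[simps] def xc (c : K) : US K := ⟨0, 0, c, 0, 0, 0, by simp, by simp, by simp⟩
@[simps] def xd (d : K) : US K := ⟨0, 0, 0, d, 0, 0, by simp, by simp, by simp⟩
@[simps] def xe (e : K) (h : fr e = e) : US K := ⟨0, 0, 0, 0, e, 0, by simp, h, by simp⟩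
@[simps] def xf (f : K) (h : fr f = f) : US K := ⟨0, 0, 0, 0, 0, f, by simp, by simp, h⟩

theorem xa_mem (a : K) : xa a ∈ Qb K := rfl
theorem xb_mem (b : K) (h : fr b = b) : xb b h ∈ Qa K := rfl
theorem xc_mem (c : K) : xc c ∈ Z4 K := ⟨rfl, rfl⟩
theorem xd_mem (d : K) : xd d ∈ Z3 K := ⟨rfl, rfl, rfl⟩
theorem xe_mem (e : K) (h : fr e = e) : xe e h ∈ Z2 K := ⟨rfl, rfl, rfl, rfl⟩
theorem xf_mem (f : K) (h : fr f = f) : xf f h ∈ Z1 K := ⟨rfl, rfl, rfl, rfl, rfl⟩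

theorem fr_one : fr (1 : K) = 1 := map_one _

/-- the Weyl element on `Qa` -/
@[simps] def na (x : US K) : US K :=
  ⟨0, x.e, -x.d, x.c, -x.b, x.f - x.b * x.e + Tr (x.c * x.d), by simp, by simp, by simp⟩

/-- the Weyl element on `Qb` -/
@[simps] def nb (x : US K) : US K :=
  ⟨x.c, 0, -x.a, x.d - cr x.a x.c, -x.f - Tr (sh x.c * x.a), x.e - Tr (x.c * sh x.a),
    by simp, by simp, by simp⟩

theorem na_mem (x : US K) : na x ∈ Qa K := rfl
theorem nb_mem (x : US K) : nb x ∈ Qb K := rfl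

theorem na_mul (hx : x ∈ Qa K) (hy : y ∈ Qa K) : na (x * y) = na x * na y := by
  ext <;> simp [mem_Qa.1 hx, Tr] <;> ring

theorem nb_mul (hx : x ∈ Qb K) (hy : y ∈ Qb K) : nb (x * y) = nb x * nb y := by
  ext <;> simp [mem_Qb.1 hx, mem_Qb.1 hy, Tr, sh, cr] <;> ring

theorem na_four (hx : x ∈ Qa K) : na (na (na (na x))) = x := by
  ext <;> simp [mem_Qa.1 hx, Tr]; ring

theorem nb_four (hx : x ∈ Qb K) : nb (nb (nb (nb x))) = x := by
  ext <;> simp [mem_Qb.1 hx, Tr, sh, cr] <;> ring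

theorem isPGroup_US (p : ℕ) [hp : Fact p.Prime] [CharP K p] : IsPGroup p (US K) := by
  have step : ∀ (g : US K → K) (P : Subgroup (US K)), (∀ x ∈ P, ∀ y ∈ P, g (x * y) = g x + g y) →
      g 1 = 0 → ∀ x ∈ P, g (x ^ p) = 0 := fun g P h h1 x hx => by
    have : ∀ n : ℕ, g (x ^ n) = n * g x := fun n => by
      induction n with
      | zero => simp [h1]
      | succ n ih => rw [pow_succ, h _ (pow_mem hx n) _ hx, ih]; push_cast; ring
    rw [this, CharP.cast_eq_zero, zero_mul]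
  intro x
  have h1 : x ^ p ∈ Z4 K := ⟨step US.a ⊤ (fun _ _ _ _ => rfl) rfl x trivial,
    step US.b ⊤ (fun _ _ _ _ => rfl) rfl x trivial⟩
  have h2 : (x ^ p) ^ p ∈ Z1 K := ⟨(pow_mem h1 p).1, (pow_mem h1 p).2,
    step US.c (Z4 K) (fun x hx y hy => by simp [hx.1]) rfl _ h1,
    step US.d (Z4 K) (fun x hx y hy => by simp [hx.1]) rfl _ h1,
    step US.e (Z4 K) (fun x hx y hy => by simp [hx.1]) rfl _ h1⟩
  have h3 := pow_mem h2 p
  refine ⟨3, ?_⟩
  rw [pow_succ, pow_two, pow_mul, pow_mul]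
  exact US.ext h3.1 h3.2.1 h3.2.2.1 h3.2.2.2.1 h3.2.2.2.2
    (step US.f (Z1 K) (fun x hx y hy => by simp [hx.1, hx.2.1, hx.2.2.1]) rfl _ h2)

theorem isPGroup_top (p : ℕ) [hp : Fact p.Prime] [CharP K p] :
    IsPGroup p (⊤ : Subgroup (US K)) := (isPGroup_US p).to_subgroup _

/-! the standard (diagonal and field) automorphisms -/

@[ext] structure Par (K : Type*) [Field K] [TF K] where
  a : Kˣ
  b : Kˣ
  σ : K ≃+* K
  hb : fr (b : K) = b

namespace Par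

attribute [simp] hb

instance instOnePar : One (Par K) := ⟨⟨1, 1, 1, by simp⟩⟩
instance instMulPar : Mul (Par K) := ⟨fun s t =>
  ⟨s.a * Units.map (s.σ : K →* K) t.a, s.b * Units.map (s.σ : K →* K) t.b, s.σ * t.σ, by simp⟩⟩
instance instInvPar : Inv (Par K) := ⟨fun s =>
  ⟨Units.map (s.σ.symm : K →* K) s.a⁻¹, Units.map (s.σ.symm : K →* K) s.b⁻¹, s.σ⁻¹, by simp⟩⟩

@[simp] theorem one_a : ((1 : Par K).a : K) = 1 := rfl
@[simp] theorem one_b : ((1 : Par K).b : K) = 1 := rfl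
@[simp] theorem one_σ (x : K) : (1 : Par K).σ x = x := rfl
@[simp] theorem mul_a (s t : Par K) : ((s * t).a : K) = s.a * s.σ t.a := rfl
@[simp] theorem mul_b (s t : Par K) : ((s * t).b : K) = s.b * s.σ t.b := rfl
@[simp] theorem mul_σ (s t : Par K) (x : K) : (s * t).σ x = s.σ (t.σ x) := rfl
@[simp] theorem inv_a (s : Par K) : (s⁻¹.a : K) = (s.σ.symm s.a)⁻¹ := by
  rw [← map_inv₀, ← Units.val_inv_eq_inv_val]; rfl
@[simp] theorem inv_b (s : Par K) : (s⁻¹.b : K) = (s.σ.symm s.b)⁻¹ := by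
  rw [← map_inv₀, ← Units.val_inv_eq_inv_val]; rfl
@[simp] theorem inv_σ (s : Par K) (x : K) : s⁻¹.σ x = s.σ.symm x := rfl

instance instGroupPar : Group (Par K) := Group.ofLeftAxioms
  (fun x y z => by ext <;> simp [mul_assoc]) (fun x => by ext <;> simp)
  (fun x => by ext <;> simp)

instance instFinitePar : Finite (Par K) :=
  Finite.of_injective (fun t : Par K => (t.a, t.b, (t.σ : K → K))) fun x y h => by
    simp only [Prod.mk.injEq] at h
    exact Par.ext h.1 h.2.1 (DFunLike.coe_injective h.2.2)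

end Par

@[simps] def tauF (t : Par K) (x : US K) : US K :=
  ⟨t.a * t.σ x.a, t.b * t.σ x.b, t.a * t.b * t.σ x.c, sh (t.a : K) * t.b * t.σ x.d,
    Nm (t.a : K) * t.b * t.σ x.e, Nm (t.a : K) * t.b * t.b * t.σ x.f, by simp, by simp, by simp⟩

theorem tauF_mul (t : Par K) (x y : US K) : tauF t (x * y) = tauF t x * tauF t y := by
  ext <;> simp [Tr, Nm, sh, cr] <;> ring

theorem tauF_one (x : US K) : tauF 1 x = x := by ext <;> simp

theorem tauF_tauF (s t : Par K) (x : US K) : tauF (s * t) x = tauF s (tauF t x) := by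
  ext <;> simp [Nm, sh] <;> ring

theorem tauF_inv_left (t : Par K) (x : US K) : tauF t⁻¹ (tauF t x) = x := by
  rw [← tauF_tauF, inv_mul_cancel, tauF_one]

theorem tauF_inv_right (t : Par K) (x : US K) : tauF t (tauF t⁻¹ x) = x := by
  rw [← tauF_tauF, mul_inv_cancel, tauF_one]

/-- the standard automorphisms -/
def tau : Par K →* MulAut (US K) where
  toFun t := ⟨⟨tauF t, tauF t⁻¹, tauF_inv_left t, tauF_inv_right t⟩, tauF_mul t⟩
  map_one' := MulEquiv.ext tauF_one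
  map_mul' s t := MulEquiv.ext (tauF_tauF s t)

@[simp] theorem tau_apply (t : Par K) (x : US K) : tau t x = tauF t x := rfl

theorem eq_one_of_tauF {t : Par K} (ha : ∀ x, t.a * t.σ x = x) (hb : (t.b : K) = 1) : t = 1 := by
  have h1 : (t.a : K) = 1 := by simpa using ha 1
  ext
  · exact h1
  · exact hb
  · next x => simpa [h1] using ha x

/-- the diagonal automorphism with parameters `a, b` -/
@[simps] def dpar (a b : K) (ha : a ≠ 0) (hb : b ≠ 0) (h : fr b = b) : Par K :=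
  ⟨Units.mk0 a ha, Units.mk0 b hb, 1, h⟩

/-- Every automorphism of `S` in the system is standard modulo inner automorphisms. -/
def Std (F : FusionSystem (⊤ : Subgroup (US K))) : Prop :=
  ∀ f, F.IsIso ⊤ ⊤ f → ∃ (s : US K) (t : Par K), ∀ x, f x = s * tauF t x * s⁻¹

end Cfsg.Agent.D4
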