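import Mathlib

/-!
# S5261: a cubic extension of finite fields (see notes/TD_helper2.md)
-/

set_option autoImplicit false
set_option linter.unusedSectionVars false
set_option linter.unusedVariables false

namespace Cfsg.Agent.D4

/-- A finite field with `q ^ 3` elements and the automorphism `x ↦ x ^ q`. -/
class TF (K : Type*) [Field K] where
  fr : K ≃+* K
  fin : Finite K
  ex : ∃ q : ℕ, Nat.card K = q ^ 3 ∧ ∀ x, fr x = x ^ q

export TF (fr)

variable {K : Type*} [Field K] [hK : TF K] {x y t s l : K}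

instance instFiniteTF : Finite K := hK.fin

theorem exists_q : ∃ q : ℕ, 2 ≤ q ∧ Nat.card K = q ^ 3 ∧ ∀ x : K, fr x = x ^ q := by
  obtain ⟨q, h1, h2⟩ := hK.ex
  refine ⟨q, ?_, h1, h2⟩
  have h3 : 1 < Nat.card K := Finite.one_lt_card
  by_contra h
  have : q ≤ 1 := by omega
  interval_cases q <;> omega

@[simp] theorem fr3 (x : K) : fr (fr (fr x)) = x := by
  obtain ⟨q, -, h1, h⟩ := exists_q (K := K)
  let _ := Fintype.ofFinite K
  rw [h, h, h, ← pow_mul, ← pow_mul, show q * (q * q) = Fintype.card K by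
    rw [← Nat.card_eq_fintype_card, h1]; ring, FiniteField.pow_card]

@[simp] theorem fr_map (σ : K ≃+* K) (x : K) : fr (σ x) = σ (fr x) := by
  obtain ⟨q, -, -, h⟩ := exists_q (K := K)
  rw [h, h, map_pow]

variable (K) in
theorem exists_ne : ∃ θ : K, fr θ ≠ θ := by
  classical
  obtain ⟨q, hq, h1, hσ⟩ := exists_q (K := K)
  let _ := Fintype.ofFinite K
  rw [Nat.card_eq_fintype_card] at h1
  by_contra! h
  have h1' := (FiniteField.forall_pow_eq_one_iff K (q - 1)).1 fun x =>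
    Units.ext (mul_right_cancel₀ x.ne_zero (by
      rw [Units.val_pow_eq_pow_val, ← pow_succ, show q - 1 + 1 = q by omega, ← hσ, h]; simp))
  have h2 := Nat.le_of_dvd (by omega) h1'
  rw [h1] at h2
  have : q < q ^ 3 := by nlinarith [mul_pos (show 0 < q by omega) (show 0 < q by omega)]
  omega

def Tr (x : K) : K := x + fr x + fr (fr x)
def Nm (x : K) : K := x * fr x * fr (fr x)
def sh (x : K) : K := fr x * fr (fr x)
def cr (x y : K) : K := fr x * fr (fr y) + fr (fr x) * fr y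

theorem fr_ne_zero (h : x ≠ 0) : fr x ≠ 0 := by simpa using h

theorem fr2_of (h : fr x = x) : fr (fr x) = x := by rw [h, h]

theorem fix_of_fr2 (h : fr (fr x) = x) : fr x = x := by
  have := congrArg fr h
  rwa [fr3, eq_comm] at this

theorem fix_of_fr12 (h : fr (fr x) = fr x) : fr x = x := fr.injective h

@[simp] theorem fr_Tr (x : K) : fr (Tr x) = Tr x := by simp [Tr]; ring
@[simp] theorem fr_Nm (x : K) : fr (Nm x) = Nm x := by simp [Nm]; ring
@[simp] theorem Tr_zero : Tr (0 : K) = 0 := by simp [Tr]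
@[simp] theorem Nm_zero : Nm (0 : K) = 0 := by simp [Nm]
@[simp] theorem sh_zero : sh (0 : K) = 0 := by simp [sh]
@[simp] theorem Nm_one : Nm (1 : K) = 1 := by simp [Nm]
@[simp] theorem sh_one : sh (1 : K) = 1 := by simp [sh]
@[simp] theorem cr_zero (x : K) : cr x 0 = 0 := by simp [cr]
@[simp] theorem zero_cr (x : K) : cr 0 x = 0 := by simp [cr]
@[simp] theorem Nm_eq_zero : Nm x = 0 ↔ x = 0 := by simp [Nm]
@[simp] theorem sh_eq_zero : sh x = 0 ↔ x = 0 := by simp [sh]

theorem Tr_add (x y : K) : Tr (x + y) = Tr x + Tr y := by simp [Tr]; ring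
theorem Tr_neg (x : K) : Tr (-x) = -Tr x := by simp [Tr]; ring
theorem Tr_sub (x y : K) : Tr (x - y) = Tr x - Tr y := by simp [Tr]; ring
theorem Tr_smul (h : fr l = l) (x : K) : Tr (l * x) = l * Tr x := by simp [Tr, h]; ring
theorem Nm_mul (x y : K) : Nm (x * y) = Nm x * Nm y := by simp [Nm]; ring
theorem Nm_smul (h : fr l = l) (x : K) : Nm (l * x) = l ^ 3 * Nm x := by simp [Nm, h]; ring
theorem sh_mul (x y : K) : sh (x * y) = sh x * sh y := by simp [sh]; ring
theorem sh_smul (h : fr l = l) (x : K) : sh (l * x) = l ^ 2 * sh x := by simp [sh, h]; ring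
theorem sh_sh (x : K) : sh (sh x) = Nm x * x := by simp [sh, Nm]; ring
theorem mul_sh (x : K) : x * sh x = Nm x := by simp [sh, Nm]; ring
theorem cr_comm (x y : K) : cr x y = cr y x := by simp [cr]; ring
theorem cr_add (x y z : K) : cr x (y + z) = cr x y + cr x z := by simp [cr]; ring
theorem add_cr (x y z : K) : cr (x + y) z = cr x z + cr y z := by simp [cr]; ring
theorem cr_smul (h : fr l = l) (x y : K) : cr x (l * y) = l * cr x y := by simp [cr, h]; ring
theorem cr_self (x : K) : cr x x = 2 * sh x := by simp [cr, sh]; ring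
theorem map_Tr (σ : K ≃+* K) (x : K) : σ (Tr x) = Tr (σ x) := by simp [Tr]
theorem map_Nm (σ : K ≃+* K) (x : K) : σ (Nm x) = Nm (σ x) := by simp [Nm]
theorem map_sh (σ : K ≃+* K) (x : K) : σ (sh x) = sh (σ x) := by simp [sh]
theorem map_cr (σ : K ≃+* K) (x y : K) : σ (cr x y) = cr (σ x) (σ y) := by simp [cr]

/-- independence of the three conjugations -/
theorem indep3 {a b c : K} (h : ∀ x, a * x + b * fr x + c * fr (fr x) = 0) :
    a = 0 ∧ b = 0 ∧ c = 0 := by
  obtain ⟨θ, hθ⟩ := exists_ne K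
  have n1 : θ - fr θ ≠ 0 := sub_ne_zero.2 hθ.symm
  have n2 : θ - fr (fr θ) ≠ 0 := sub_ne_zero.2 fun e => hθ (fix_of_fr2 e.symm)
  have n3 : fr θ - fr (fr θ) ≠ 0 := sub_ne_zero.2 fun e => hθ (fix_of_fr12 e.symm)
  have h0 := h 1
  have h1 := h θ
  have h2 := h (θ * θ)
  simp only [map_one, map_mul] at h0 h2
  have ha : a * ((θ - fr θ) * (θ - fr (fr θ))) = 0 := by
    linear_combination h2 - (fr θ + fr (fr θ)) * h1 + fr θ * fr (fr θ) * h0
  have ha' := (mul_eq_zero.1 ha).resolve_right (mul_ne_zero n1 n2)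
  have hb : b * (fr θ - fr (fr θ)) = 0 := by
    linear_combination h1 - fr (fr θ) * h0 - (θ - fr (fr θ)) * ha'
  have hb' := (mul_eq_zero.1 hb).resolve_right n3
  exact ⟨ha', hb', by linear_combination h0 - ha' - hb'⟩

theorem eq_zero_of_Tr (h : ∀ y, Tr (x * y) = 0) : x = 0 :=
  (indep3 (a := x) (b := fr x) (c := fr (fr x)) fun y => by simpa [Tr] using h y).1

theorem exists_Tr (hx : x ≠ 0) (hl : fr l = l) : ∃ y, Tr (x * y) = l := by
  obtain ⟨y, hy⟩ : ∃ y, Tr (x * y) ≠ 0 := by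
    by_contra! h
    exact hx (eq_zero_of_Tr h)
  refine ⟨l / Tr (x * y) * y, ?_⟩
  rw [mul_left_comm, Tr_smul (by simp [hl]), div_mul_cancel₀ _ hy]

/-- `1, x, x#` are independent over the fixed field -/
theorem indep_sh (hx : fr x ≠ x) {a b c : K} (ha : fr a = a) (hb : fr b = b) (hc : fr c = c)
    (h : a + b * x + c * sh x = 0) : a = 0 ∧ b = 0 ∧ c = 0 := by
  have h1 := congrArg fr h
  simp only [sh, map_add, map_mul, ha, hb, hc, fr3, map_zero] at h h1
  have h2 : (x - fr x) * (b - c * fr (fr x)) = 0 := by linear_combination h - h1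
  have h3 := (mul_eq_zero.1 h2).resolve_left (sub_ne_zero.2 hx.symm)
  have hc0 : c = 0 := by
    by_contra h0
    have h4 := congrArg fr h3
    simp only [map_sub, map_mul, hb, hc, fr3, map_zero] at h4
    exact hx (fix_of_fr2 (mul_left_cancel₀ h0 (by linear_combination h4 - h3)))
  have hb0 : b = 0 := by simpa [hc0] using h3
  exact ⟨by simpa [hb0, hc0] using h, hb0, hc0⟩

/-- `1, x, x#` span `K` over the fixed field -/
theorem span_sh (hx : fr x ≠ x) (y : K) :
    ∃ a b c : K, fr a = a ∧ fr b = b ∧ fr c = c ∧ y = a + b * x + c * sh x := by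
  have n1 : x - fr x ≠ 0 := sub_ne_zero.2 hx.symm
  have n2 : fr (fr x) - x ≠ 0 := sub_ne_zero.2 fun e => hx (fix_of_fr2 e)
  have n3 : fr x - fr (fr x) ≠ 0 := sub_ne_zero.2 fun e => hx (fix_of_fr12 e.symm)
  obtain ⟨D, hD⟩ : ∃ D, D = (x - fr x) * (fr x - fr (fr x)) * (fr (fr x) - x) := ⟨_, rfl⟩
  have h0 : D ≠ 0 := hD ▸ mul_ne_zero (mul_ne_zero n1 n3) n2
  have h1 : fr D = D := by rw [hD]; simp; ring
  refine ⟨Tr (y * (x * (fr x * fr x - fr (fr x) * fr (fr x)))) / D,
    Tr (y * (x * (fr (fr x) - fr x))) / D, Tr (y * (fr (fr x) - fr x)) / D,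
    by simp [h1], by simp [h1], by simp [h1], ?_⟩
  field_simp
  rw [hD]
  simp [Tr, sh]
  ring

/-- An additive map `K → K` with trivial kernel is onto. -/
theorem surj_of_ker {f : K → K} (ha : ∀ x y, f (x + y) = f x + f y) (h : ∀ x, f x = 0 → x = 0) :
    Function.Surjective f :=
  Finite.surjective_of_injective (f := f)
    ((injective_iff_map_eq_zero (AddMonoidHom.mk' f ha)).2 h)

/-- Two additive maps into the fixed field have a common nonzero zero. -/
theorem no_inj {f g : K → K} (hf : ∀ x y, f (x + y) = f x + f y) (hg : ∀ x y, g (x + y) = g x + g y)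
    (hf' : ∀ x, fr (f x) = f x) (hg' : ∀ x, fr (g x) = g x) : ∃ x, x ≠ 0 ∧ f x = 0 ∧ g x = 0 := by
  obtain ⟨θ, hθ⟩ := exists_ne K
  by_contra! h
  obtain ⟨x, hx⟩ := surj_of_ker (f := fun x => f x + g x * θ)
    (fun x y => by rw [hf, hg]; ring) (fun x hx => by
      have := indep_sh hθ (hf' x) (hg' x) (map_zero _) (by simpa using hx)
      exact by_contra fun h0 => h x h0 this.1 this.2.1) (sh θ)
  have := indep_sh hθ (hf' x) (hg' x) (c := -1) (by simp) (by linear_combination hx)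
  simpa using this.2.2

/-- the orthogonal of `d^⊥` is the line through `d` -/
theorem mem_line_of_perp {d : K} (hd : d ≠ 0) (h : ∀ t, Tr (t * d) = 0 → Tr (t * y) = 0) :
    ∃ l, fr l = l ∧ y = l * d := by
  obtain ⟨t0, h0⟩ := exists_Tr hd (map_one (fr (K := K)))
  refine ⟨Tr (t0 * y), fr_Tr _, sub_eq_zero.1 (eq_zero_of_Tr fun t => ?_)⟩
  have := h (t - Tr (d * t) * t0) (by
    rw [sub_mul, mul_assoc, Tr_sub, Tr_smul (fr_Tr _), mul_comm t0, h0, mul_comm t]; ring)
  rw [sub_mul, mul_assoc, Tr_sub, Tr_smul (fr_Tr _)] at this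
  rw [sub_mul, mul_assoc, Tr_sub, Tr_smul (fr_Tr _), mul_comm y]
  linear_combination this

theorem cr_eq_zero (h : cr t x = 0) : 2 * (t * x) = 0 := by
  by_cases ht : t = 0
  · simp [ht]
  have h1 := congrArg fr h
  have h2 := congrArg fr h1
  simp only [cr, map_add, map_mul, fr3, map_zero] at h h1 h2
  have n1 := fr_ne_zero ht
  have n2 := fr_ne_zero n1
  refine mul_left_cancel₀ (mul_ne_zero n1 n2) ?_
  linear_combination t * fr t * h1 + t * fr (fr t) * h2 - t * t * h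

theorem eq_zero_of_cr (h2 : (2 : K) ≠ 0) (ht : t ≠ 0) (h : cr t x = 0) : x = 0 := by
  simpa [h2, ht] using cr_eq_zero h

theorem cr_surj (h2 : (2 : K) ≠ 0) (ht : t ≠ 0) (y : K) : ∃ x, cr t x = y :=
  surj_of_ker (cr_add t) (fun _ => eq_zero_of_cr h2 ht) y

theorem line_of_cr (h2 : (2 : K) = 0) (ht : t ≠ 0) (h : cr t x = 0) : ∃ l, fr l = l ∧ x = l * t := by
  refine ⟨x / t, fix_of_fr12 ?_, by field_simp⟩
  have n1 := fr_ne_zero ht
  have n2 := fr_ne_zero n1
  simp only [map_div₀]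
  rw [div_eq_div_iff n2 n1]
  simp only [cr] at h
  linear_combination h - fr x * fr (fr t) * h2

/-- roots of the characteristic polynomial -/
theorem eq_conj (h1 : Tr y = Tr x) (h2 : Tr (sh y) = Tr (sh x)) (h3 : Nm y = Nm x) :
    y = x ∨ y = fr x ∨ y = fr (fr x) := by
  have : (y - x) * (y - fr x) * (y - fr (fr x)) = 0 := by
    simp only [Tr, sh, Nm, map_mul, fr3] at h1 h2 h3
    linear_combination y * y * h1 - y * h2 + h3
  simpa [sub_eq_zero, or_assoc] using this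

/-- an automorphism fixing the fixed field of `fr` is a power of `fr` -/
theorem gal {ρ : K ≃+* K} (h : ∀ l, fr l = l → ρ l = l) :
    (∀ y, ρ y = y) ∨ (∀ y, ρ y = fr y) ∨ ∀ y, ρ y = fr (fr y) := by
  obtain ⟨θ, hθ⟩ := exists_ne K
  have key : ∀ τ : K ≃+* K, (∀ l, fr l = l → τ l = l) → ρ θ = τ θ → ∀ y, ρ y = τ y :=
    fun τ h1 h2 y => by
      obtain ⟨a, b, c, ha, hb, hc, rfl⟩ := span_sh hθ y
      simp only [map_add, map_mul, map_sh, h _ ha, h _ hb, h _ hc, h1 _ ha, h1 _ hb, h1 _ hc, h2]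
  rcases eq_conj (x := θ) (y := ρ θ) (by rw [← map_Tr, h _ (fr_Tr _)])
    (by rw [← map_sh, ← map_Tr, h _ (fr_Tr _)]) (by rw [← map_Nm, h _ (fr_Nm _)]) with e | e | e
  · exact .inl (key (RingEquiv.refl K) (fun _ _ => rfl) e)
  · exact .inr (.inl (key fr (fun _ h => h) e))
  · exact .inr (.inr (key (fr.trans fr) (fun _ h => fr2_of h) e))

theorem exists_Nm (hl : fr l = l) : ∃ t, Nm t = l := by
  by_cases h0 : l = 0
  · exact ⟨0, by simp [h0]⟩
  obtain ⟨q, hq, h1, h⟩ := exists_q (K := K)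
  obtain ⟨g, hg⟩ := IsCyclic.exists_monoid_generator (α := Kˣ)
  obtain ⟨m, hm⟩ := hg (Units.mk0 l h0)
  have ho : orderOf g = (q - 1) * (1 + q + q * q) := by
    rw [orderOf_eq_card_of_forall_mem_powers hg, Nat.card_units, h1]
    obtain ⟨r, rfl⟩ : ∃ r, q = r + 1 := ⟨q - 1, by omega⟩
    rw [Nat.add_sub_cancel, Nat.sub_eq_of_eq_add]; ring
  have h2 : g ^ ((q - 1) * m) = 1 := Units.ext (mul_right_cancel₀ h0 (by
    rw [mul_comm (q - 1), pow_mul, show g ^ m = _ from hm, Units.val_pow_eq_pow_val, Units.val_mk0,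
      ← pow_succ, show q - 1 + 1 = q by omega, ← h, hl]; simp))
  obtain ⟨j, rfl⟩ := Nat.dvd_of_mul_dvd_mul_left (show 0 < q - 1 by omega)
    (ho ▸ orderOf_dvd_of_pow_eq_one h2)
  refine ⟨(g : K) ^ j, ?_⟩
  rw [show l = ((g ^ ((1 + q + q * q) * j) : Kˣ) : K) from (congrArg Units.val hm).symm, Nm, h, h,
    Units.val_pow_eq_pow_val]
  ring

variable (K) in
/-- the fixed field -/
def kk : Subfield K where
  carrier := {x | fr x = x}
  mul_mem' := fun {a b} (ha : fr a = a) (hb : fr b = b) => show fr _ = _ by rw [map_mul, ha, hb]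
  one_mem' := map_one _
  add_mem' := fun {a b} (ha : fr a = a) (hb : fr b = b) => show fr _ = _ by rw [map_add, ha, hb]
  zero_mem' := map_zero _
  neg_mem' := fun {a} (ha : fr a = a) => show fr _ = _ by rw [map_neg, ha]
  inv_mem' := fun a (ha : fr a = a) => show fr _ = _ by rw [map_inv₀, ha]

theorem exists_sqrt (h2 : (2 : K) = 0) (hl : fr l = l) : ∃ r, fr r = r ∧ r ^ 2 = l := by
  have hi : ∀ x y : K, x ^ 2 = y ^ 2 → x = y := fun x y h =>
    sub_eq_zero.1 (pow_eq_zero_iff two_ne_zero |>.1 (by linear_combination h + (y * y - x * y) * h2))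
  obtain ⟨r, hr⟩ := Finite.surjective_of_injective (f := fun x : K => x ^ 2) hi l
  exact ⟨r, hi _ _ (by rw [← map_pow]; simp only at hr; rw [hr, hl]), hr⟩

theorem exists_quad (h2 : (2 : K) ≠ 0) {a b c : K} (ha : fr a = a) (hb : fr b = b) (hc : fr c = c)
    (a0 : a ≠ 0) (b0 : b ≠ 0) : ∃ x y, fr x = x ∧ fr y = y ∧ a * x ^ 2 + b * y ^ 2 = c := by
  classical
  let _ := Fintype.ofFinite (kk K)
  have hodd : Fintype.card (kk K) % 2 = 1 := FiniteField.odd_card_of_char_ne_two fun h => h2 (by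
    have := (ringChar.spec (kk K) 2).2 (by rw [h])
    rw [← map_zero (kk K).subtype, ← this, map_natCast]; norm_num)
  let A : kk K := ⟨a, ha⟩
  let B : kk K := ⟨b, hb⟩
  let C : kk K := ⟨c, hc⟩
  have hA : A ≠ 0 := fun h => a0 (congrArg Subtype.val h)
  have hB : B ≠ 0 := fun h => b0 (congrArg Subtype.val h)
  obtain ⟨x, y, h⟩ := FiniteField.exists_root_sum_quadratic
    (f := Polynomial.C A * Polynomial.X ^ 2) (g := Polynomial.C B * Polynomial.X ^ 2 - Polynomial.C C)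
    (Polynomial.degree_C_mul_X_pow 2 hA) (by
      rw [Polynomial.degree_sub_C (by rw [Polynomial.degree_C_mul_X_pow 2 hB]; decide),
        Polynomial.degree_C_mul_X_pow 2 hB]; rfl) hodd
  refine ⟨x, y, x.2, y.2, ?_⟩
  have := congrArg Subtype.val h
  simp [A, B, C] at this
  linear_combination this

theorem exists_Tr_sq (h2 : (2 : K) ≠ 0) (hl : fr l = l) : ∃ r, Tr (r ^ 2) = l := by
  have pol : ∀ x y : K, 2 * Tr (x * y) = Tr ((x + y) ^ 2) - Tr (x ^ 2) - Tr (y ^ 2) := fun x y => by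
    simp [Tr]; ring
  obtain ⟨r, hr⟩ : ∃ r : K, Tr (r ^ 2) ≠ 0 := by
    by_contra! h
    exact one_ne_zero (eq_zero_of_Tr (x := (1 : K)) fun y => by
      have := pol 1 y
      rw [h, h, h] at this
      simpa [h2] using this)
  have r0 : r ≠ 0 := by rintro rfl; simp at hr
  obtain ⟨s, hs, hs'⟩ : ∃ s : K, Tr (s * r) = 0 ∧ Tr (s ^ 2) ≠ 0 := by
    by_contra! h
    obtain ⟨y, y0, hy, -⟩ := no_inj (f := fun y => Tr (y * r)) (g := fun _ => 0)
      (fun x y => by rw [add_mul, Tr_add]) (by simp) (by simp) (by simp)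
    obtain ⟨m, hm, rfl⟩ := mem_line_of_perp (y := y) r0 fun t ht => by
      simpa [h _ ht, h _ hy, h (t + y) (by rw [add_mul, Tr_add, ht, hy, add_zero]), h2] using pol t y
    rw [mul_assoc, Tr_smul hm, ← sq] at hy
    simp [hr] at hy
    simp [hy] at y0
  obtain ⟨x, y, hx, hy, h⟩ := exists_quad h2 (fr_Tr _) (fr_Tr _) hl hr hs'
  refine ⟨x * r + y * s, ?_⟩
  simp only [Tr, map_add, map_mul, map_pow, hx, hy] at h hs ⊢
  linear_combination h + 2 * x * y * hs

/-- `N t + Tr (c t)` has a nontrivial zero unless `c = 0` -/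
theorem eq_zero_of_NT {c : K} (h : ∀ t, t ≠ 0 → Nm t + Tr (c * t) ≠ 0) : c = 0 := by
  by_contra c0
  have n0 : Nm c ≠ 0 := by simpa using c0
  by_cases h2 : (2 : K) = 0
  · obtain ⟨t, ht⟩ := exists_Tr c0 (map_one (fr (K := K)))
    have t0 : t ≠ 0 := by rintro rfl; simp at ht
    have n1 : Nm t ≠ 0 := by simpa using t0
    obtain ⟨r, hr, e⟩ := exists_sqrt h2 (l := (Nm t)⁻¹) (by simp)
    have r0 : r ≠ 0 := by rintro rfl; exact inv_ne_zero n1 (by simpa using e.symm)
    refine h (r * t) (mul_ne_zero r0 t0) ?_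
    rw [Nm_smul hr, mul_left_comm, Tr_smul hr, ht, pow_succ, e]
    field_simp
    linear_combination r * h2
  obtain ⟨r, hr⟩ := exists_Tr_sq h2 (l := -(Nm c)⁻¹) (by simp)
  have r0 : r ≠ 0 := by rintro rfl; exact inv_ne_zero n0 (by simpa using hr)
  have n1 : Nm r ≠ 0 := by simpa using r0
  refine h ((Nm r)⁻¹ * (r ^ 2 * c⁻¹)) (by simp [r0, c0]) ?_
  have e : Nm c⁻¹ = (Nm c)⁻¹ := by simp only [Nm, map_inv₀, mul_inv]
  rw [Nm_smul (by simp), mul_left_comm, Tr_smul (by simp), mul_left_comm, mul_inv_cancel₀ c0, mul_one,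
    hr, Nm_mul, sq, Nm_mul, e]
  field_simp
  ring

/-- The structure group of the cubic norm. -/
theorem exists_str {Q R σ : K → K} (hQ : ∀ x y, Q (x + y) = Q x + Q y)
    (hR : ∀ x y, R (x + y) = R x + R y) (hQ0 : ∀ x, Q x = 0 → x = 0)
    (hσ : ∀ l, fr l = l → fr (σ l) = σ l) (hσ' : ∀ m, fr m = m → ∃ l, fr l = l ∧ σ l = m)
    (hQl : ∀ l x, fr l = l → Q (l * x) = σ l * Q x) (hRl : ∀ l x, fr l = l → R (l * x) = σ l * R x)
    (h : ∀ y, sh (Q y) = R (sh y)) : ∃ ρ : K ≃+* K, ∀ x, Q x = Q 1 * ρ x := by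
  have q1 : Q 1 ≠ 0 := fun e => one_ne_zero (hQ0 1 e)
  wlog h1 : Q 1 = 1 generalizing Q R
  · obtain ⟨ρ, hρ⟩ := this (Q := fun x => (Q 1)⁻¹ * Q x) (R := fun x => sh (Q 1)⁻¹ * R x)
      (fun x y => by rw [hQ, mul_add]) (fun x y => by rw [hR, mul_add])
      (fun x hx => hQ0 x (by simpa [q1] using hx)) (fun l x hl => by rw [hQl l x hl]; ring)
      (fun l x hl => by rw [hRl l x hl]; ring) (fun y => by rw [sh_mul, h]) (by simp [q1])
      (by simp [q1])
    exact ⟨ρ, fun x => by simpa [q1, inv_mul_eq_iff_eq_mul₀ q1] using hρ x⟩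
  have r1 : R 1 = 1 := by simpa [h1] using (h 1).symm
  have qk : ∀ l, fr l = l → Q l = σ l := fun l hl => by simpa [h1] using hQl l 1 hl
  have rk : ∀ l, fr l = l → R l = σ l := fun l hl => by simpa [r1] using hRl l 1 hl
  have qs : ∀ x y, Q (x - y) = Q x - Q y := map_sub (AddMonoidHom.mk' Q hQ)
  have rs : ∀ x y, R (x - y) = R x - R y := map_sub (AddMonoidHom.mk' R hR)
  have hRQ : ∀ x, R x = Q x + (σ (Tr x) - Tr (Q x)) := fun x => by
    have e := h (x + 1)
    have e1 : ∀ x : K, sh (x + 1) = sh x + 1 + (Tr x - x) := fun x => by simp [sh, Tr]; ring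
    rw [hQ, h1, e1, e1, hR, hR, rs, ← h, r1, rk _ (fr_Tr x)] at e
    linear_combination e
  have key : ∀ x y, Q (x * y) = Q x * Q y := fun x y => by
    by_cases hx : fr x = x
    · rw [hQl x y hx, qk x hx]
    have hX : fr (Q x) ≠ Q x := fun e => by
      obtain ⟨l, hl, e'⟩ := hσ' _ e
      have := hQ0 (x - l) (by rw [qs, qk l hl, e', sub_self])
      exact hx (by rw [sub_eq_zero.1 this, hl])
    obtain ⟨e, he⟩ : ∃ e, e = σ (Tr (sh x)) - Tr (Q (sh x)) := ⟨_, rfl⟩
    obtain ⟨e', he'⟩ : ∃ e', e' = σ (Tr x) - Tr (Q x) := ⟨_, rfl⟩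
    have f1 : fr e = e := by simp [he, hσ]
    have f2 : fr e' = e' := by simp [he', hσ]
    have f3 := hσ _ (fr_Nm x)
    have a1 : Q (sh x) = sh (Q x) - e := by rw [h, hRQ, he]; ring
    have a2 := h (sh x)
    rw [a1, sh_sh, hRl _ _ (fr_Nm x), hRQ, ← he'] at a2
    obtain ⟨b1, b2, b3⟩ := indep_sh hX (a := e ^ 2 - e * Tr (sh (Q x)) - σ (Nm x) * e')
      (b := Nm (Q x) - σ (Nm x)) (c := e) (by simp [f1, f2, f3]) (by simp [f3]) f1 (by
        simp only [sh, Tr, Nm, map_sub, map_mul, f1, fr3] at a2 ⊢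
        linear_combination a2)
    have n0 : Nm (Q x) ≠ 0 := fun e => hX (by rw [Nm_eq_zero.1 e, map_zero])
    rw [sub_eq_zero] at b2
    have b4 : e' = 0 := by simpa [b3, ← b2, n0] using b1
    rw [b3, sub_zero] at a1
    have c1 : Q (x * x) = Q x * Q x := by
      have e1 : ∀ x : K, x * x = Tr x * x - Tr (sh x) + sh x := fun x => by simp [sh, Tr]; ring
      rw [e1, e1, hQ, qs, hQl _ _ (fr_Tr _), qk _ (fr_Tr _), a1]
      rw [a1] at he
      linear_combination Q x * (b4 - he') + he - b3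
    obtain ⟨a, b, c, ha, hb, hc, rfl⟩ := span_sh hx y
    rw [show x * (a + b * x + c * sh x) = a * x + b * (x * x) + c * Nm x by rw [← mul_sh]; ring,
      hQ, hQ, hQ, hQ, hQl _ _ ha, hQl _ _ hb, hQl _ _ hc, hQl _ _ hb, hQl _ _ hc, c1, a1,
      qk _ (fr_Nm x), qk _ ha, ← b2, ← mul_sh]
    ring
  let τ : K →+* K :=
    { toFun := Q, map_one' := h1, map_mul' := key, map_add' := hQ
      map_zero' := map_zero (AddMonoidHom.mk' Q hQ) }
  exact ⟨RingEquiv.ofBijective τ ⟨τ.injective, Finite.surjective_of_injective τ.injective⟩,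
    fun x => by rw [h1, one_mul]; rfl⟩

end Cfsg.Agent.D4
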