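import Cfsg.Agent.Lib.D4.Lin2

/-!
# S5261: recognising `SL₂(q³)` on `V` (see notes/TD_helper2.md, section Q_a)
-/

set_option autoImplicit false
set_option linter.unusedSectionVars false
set_option linter.unusedVariables false

namespace Cfsg.Agent.D4

open Subgroup H7

variable {K : Type*} [Field K] [hK : TF K] {p : ℕ} [hp : Fact p.Prime] [CharP K p]
  {T X : Subgroup (VV K ≃ₗ[ℤ] VV K)} {g : VV K ≃ₗ[ℤ] VV K} {x : VV K} {τ τ' : Par K}

theorem exact_lin (e : ∀ x y, BB (g x) (g y) = BB x y) (l : kk K) (x : VV K) :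
    g (l • x) = l • g x := eq_of_BB fun z => by
  obtain ⟨z, rfl⟩ := g.surjective z
  rw [e, BB_smul, BB_smul, e]

/-- an element interchanging the lines through `ve` and `vb` -/
structure Swap (X : Subgroup (VV K ≃ₗ[ℤ] VV K)) (g : VV K ≃ₗ[ℤ] VV K) : Prop where
  mem : g ∈ X
  ex : ∀ x y, BB (g x) (g y) = BB x y
  h1 : ∃ c : kk K, (c : K) ≠ 0 ∧ g ve = c • vb ∧ g vb = (-c⁻¹) • ve

theorem Swap.inv (s : Swap X g) : Swap X g⁻¹ := by
  obtain ⟨c, c0, h1, h2⟩ := s.h1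
  refine ⟨inv_mem s.mem, fun x y => by rw [← s.ex, le_inv', le_inv'], -c, by simpa using c0,
    g.injective ?_, g.injective ?_⟩
  · rw [le_inv', exact_lin s.ex, h2]; ext <;> simp [c0]
  · rw [le_inv', exact_lin s.ex, h1]; ext <;> simp [c0]

theorem Swap.W (s : Swap X g) (hb : x.b = 0) (he : x.e = 0) : (g x).b = 0 ∧ (g x).e = 0 := by
  obtain ⟨c, c0, h1, h2⟩ := s.h1
  have a1 := s.ex x vb
  have a2 := s.ex x ve
  rw [h2] at a1
  rw [h1] at a2
  exact ⟨by simpa [BB, he, c0] using a1, by simpa [BB, hb, c0] using a2⟩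

/-- a cubic polynomial in `tv τ` -/
def PP (c2 c1 c0 : kk K) (τ : Par K) (x : VV K) : VV K :=
  tv τ (tv τ (tv τ x)) - c2 • tv τ (tv τ x) + c1 • tv τ x - c0 • x

theorem Swap.PP (s : Swap X g) (e : ∀ x, g (tv τ x) = tv τ' (g x)) (c2 c1 c0 : kk K) (x : VV K) :
    g (PP c2 c1 c0 τ x) = PP c2 c1 c0 τ' (g x) := by
  simp only [D4.PP, map_sub, map_add, exact_lin s.ex, e]

variable (h : Hyp p T X)
include h

theorem move_conj (hg : g ∈ X) (h1 : ¬InL (g ve)) : ∃ u ∈ X, (∀ x, g (u x) = uu 1 (g x)) ∧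
    (∀ x y, BB (u x) (u y) = BB x y) ∧ ¬InL (u ve) := by
  obtain ⟨u, hu, e⟩ := h.exU 1
  obtain ⟨ζ, hζ⟩ := h.form _ (inv_mem hg)
  refine ⟨g⁻¹ * u * g, mul_mem (mul_mem (inv_mem hg) (h.syl.le hu)) hg, fun x => by
    simp only [LinearEquiv.mul_apply, le_inv', e], fun x y => by
    simp only [LinearEquiv.mul_apply, e]
    rw [hζ, BB_uu, ← hζ, le_inv, le_inv], fun h2 => ?_⟩
  obtain ⟨l, hl⟩ := h.line (inv_mem hg) (x := g ve) (by rw [le_inv]; exact inL_ve)
    (fun e => h1 (by simp [e, InL])) h2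
  exact h1 (h.ti ((Om.of inL_ve).map hg) one_ne_zero (e _ ▸ hl))

theorem exists_swap : ∃ g, Swap X g := by
  obtain ⟨g, hg, h0⟩ := h.ex_move
  obtain ⟨u, hu, -, h1, h2⟩ := move_conj h hg h0
  obtain ⟨t, c, h3⟩ := h.om_form ((Om.of inL_ve).map hu) h2
  obtain ⟨a, ha, e⟩ := h.exU t
  have h4 : ∀ x y, BB ((a * u) x) ((a * u) y) = BB x y := fun x y => by
    simp only [LinearEquiv.mul_apply, e, BB_uu, h1]
  have h5 : (a * u) ve = c • vb := (e _).trans h3
  have hX := mul_mem (h.syl.le ha) hu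
  generalize a * u = f at h4 h5 hX
  obtain ⟨r, c', h6⟩ := h.om_form ((Om.of inL_ve).map (inv_mem hX)) fun h6 => by
    have := congrArg (fun x => (f x).e) (eq_ve h6)
    simp only [le_inv', exact_lin h4, h5] at this
    simp at this
  obtain ⟨b, hb, e'⟩ := h.exU (-r)
  have h7 : ∀ x y, BB ((f * b) x) ((f * b) y) = BB x y := fun x y => by
    simp only [LinearEquiv.mul_apply, e', BB_uu, h4]
  have h8 : (f * b) ve = c • vb := by rw [LinearEquiv.mul_apply, e', uu_inL inL_ve, h5]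
  have h9 : c' • (f * b) vb = ve := by
    rw [← exact_lin h7, LinearEquiv.mul_apply, e', ← h6, uu_uu, neg_add_cancel, uu_zero, le_inv']
  have := h7 (c' • vb) ve
  rw [exact_lin h7, h9, h8] at this
  simp [BB] at this
  have c0 : (c' : K) ≠ 0 := fun e => by simpa [e] using congrArg VV.e h9
  refine ⟨f * b, mul_mem hX (h.syl.le hb), h7, c, by rwa [← neg_ne_zero, this], h8, ?_⟩
  rw [← h9]
  ext <;> simp [← neg_inv, show (c : K) = -c' by rw [← this, neg_neg], c0]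

theorem not_W2 (s : Swap X g) (h0 : ∀ d, (g (vd d)).c = 0) : False := by
  obtain ⟨c, c0, h1, h2⟩ := s.h1
  obtain ⟨c', c0', h1', h2'⟩ := s.inv.h1
  obtain ⟨u, hu, e, h3, h4⟩ := move_conj h s.inv.mem (by simp [h1', InL, c0'])
  obtain ⟨t, m, h5⟩ := h.om_form ((Om.of inL_ve).map hu) h4
  obtain ⟨a, ha, e'⟩ := h.exU t
  have hX := mul_mem s.inv.mem (mul_mem (h.syl.le ha) hu)
  have hL : FixL (g⁻¹ * (a * u) : VV K ≃ₗ[ℤ] VV K) := fun x hx => eq_ve hx ▸ h.inL_smul hX (by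
    simp only [LinearEquiv.mul_apply, e', h5, exact_lin s.inv.ex, h2']
    exact inL_smul (inL_smul inL_ve _) _) _
  have t0 : t ≠ 0 := by
    rintro rfl
    have := congrArg VV.b (e ve)
    rw [← uu_zero (u ve), h5, exact_lin s.inv.ex, h2', h1'] at this
    simp [c0', eq_comm] at this
  obtain ⟨d, hd⟩ := exists_Tr (x := (1 : K)) one_ne_zero (map_one _)
  have hb := (s.W (x := vd d) rfl rfl).1
  have a1 := h.fix3 hX hL hb
  have a2 := h.fix2 hX hL hb (h0 d)
  obtain ⟨y, hy⟩ : ∃ y, y = (g⁻¹ * (a * u)) (g (vd d)) := ⟨_, rfl⟩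
  rw [← hy] at a1 a2
  have a3 : g y = uu t (g (vd d + ve)) := by
    rw [hy, LinearEquiv.mul_apply, le_inv', LinearEquiv.mul_apply, e', ← le_inv' g (u _), e, le_inv]
    congr 2
    rw [one_mul] at hd
    ext <;> simp [hd]
  rw [show y = vd y.d + (⟨y.e, y.he⟩ : kk K) • ve by ext <;> simp [a1, a2], map_add, map_add,
    exact_lin s.ex, h1] at a3
  simpa [h0, hb, c0, t0] using congrArg VV.c a3

theorem conj_tor (s : Swap X g) (h1 : InX X τ) (hσ : ∀ y, τ.σ y = y) : ∃ τ' : Par K,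
    (∀ x, g (tv τ x) = tv τ' (g x)) ∧ ∀ l, fr l = l → τ'.σ l = l := by
  obtain ⟨c, c0, h2, h3⟩ := s.h1
  obtain ⟨a, ha, e⟩ := h1
  obtain ⟨r, τ', -, h4⟩ := h.std' (mul_mem (mul_mem s.mem ha) (inv_mem s.mem))
    (h.fix_conj s.mem (x := vb) (h3 ▸ inL_smul inL_ve _) (fun e => one_ne_zero (congrArg VV.b e))
      ha (l := (⟨τ.b, τ.hb⟩ : kk K)) (by rw [e]; ext <;> simp))
  have k : ∀ x, g (tv τ x) = uu r (tv τ' (g x)) := fun x => by
    rw [← h4, LinearEquiv.mul_apply, LinearEquiv.mul_apply, le_inv, e]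
  have := congrArg VV.c (k ve)
  rw [show tv τ ve = (⟨Nm (τ.a : K) * τ.b, show fr _ = _ by simp⟩ : kk K) • ve by ext <;> simp,
    exact_lin s.ex, h2] at this
  obtain rfl : r = 0 := by simpa [c0] using this
  refine ⟨τ', fun x => (k x).trans (uu_zero _),
    (std_mul (s := 0) (m := Nm (τ.a : K) * τ.b * τ.b) fun y z => ?_).2⟩
  obtain ⟨y, rfl⟩ := g.surjective y
  obtain ⟨z, rfl⟩ := g.surjective z
  rw [← k, ← k, s.ex, s.ex, BB_tv, hσ]

theorem to_W1 (s : Swap X g) (d : K) : (g (vd d)).d = 0 := by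
  obtain ⟨τ, τ', hσ, hσ', e, h1⟩ : ∃ τ τ' : Par K, (∀ y, τ.σ y = y) ∧ (∀ y, τ'.σ y = y) ∧
      (∀ x, g (tv τ x) = tv τ' (g x)) ∧ (τ.a * τ.b - sh (τ.a : K) * τ.b) *
        (τ.a * τ.b - fr (sh (τ.a : K) * τ.b)) * (τ.a * τ.b - fr (fr (sh (τ.a : K) * τ.b))) ≠ 0 := by
    by_cases hq : ∀ l : K, fr l = l → l = 0 ∨ l = 1
    · obtain ⟨a, ha, h1, h2⟩ := h.exists_tor hq
      obtain ⟨τ', e, h3⟩ := conj_tor h s h2 fun _ => rfl
      have n : ∀ y : K, y ≠ 0 → Nm y = 1 := fun y hy =>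
        (hq _ (fr_Nm y)).resolve_left (by simpa using hy)
      have a1 : a ≠ 1 := fun e => h1 (by simp [e])
      have n1 := n a ha
      refine ⟨_, τ', fun _ => rfl, (gal h3).resolve_right fun h4 => ?_, e, ?_⟩
      · have hW := s.W (x := vc 1) rfl rfl
        have n2 := n _ τ'.a.ne_zero
        have n3 := (hq _ τ'.hb).resolve_left τ'.b.ne_zero
        have := s.PP e 0 0 1 (vc 1)
        rw [show PP 0 0 1 τ' (g (vc 1)) = 0 by
          rcases h4 with h4 | h4 <;> ext <;> simp [PP, hW.1, hW.2, h4, n3, sh, Nm] at n2 ⊢ <;> first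
            | linear_combination (g (vc 1)).c * n2
            | linear_combination (g (vc 1)).d * (τ'.a * fr (τ'.a : K) * fr (fr (τ'.a : K)) + 1) * n2,
          map_eq_zero_iff _ g.injective] at this
        have h5 := congrArg VV.c this
        simp [PP] at h5
        have h6 : sh a = a * a := mul_left_cancel₀ ha (by rw [mul_sh, n1]; linear_combination -h5)
        exact one_ne_zero (indep_sh h1 (map_one _) (map_one _) (map_one _) (mul_left_cancel₀
          (sub_ne_zero.2 a1) (by rw [h6]; linear_combination h5))).1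
      · have h2 : (2 : K) = 0 :=
          (hq (-1) (by simp)).elim (by simp) fun e => by linear_combination -e
        simp only [dpar_a, dpar_b, Units.val_mk0, mul_one, sh, map_mul, fr3, Nm] at n1 ⊢
        refine mul_ne_zero (mul_ne_zero (fun e => a1 (sub_eq_zero.1 (pow_eq_zero_iff two_ne_zero |>.1
          (by linear_combination a * e + n1 + (1 - a) * h2)))) fun e => a1 ?_) fun e => a1 ?_
        · simpa using congrArg fr (mul_left_cancel₀ ha
            (show a * fr (fr a) = a * 1 by linear_combination -e))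
        · simpa using congrArg (fun y => fr (fr y)) (mul_left_cancel₀ ha
            (show a * fr a = a * 1 by linear_combination -e))
    · push Not at hq
      obtain ⟨l, hl, l0, l1⟩ := hq
      obtain ⟨τ', e, h3⟩ := conj_tor h s (h.hb l l0 hl) fun _ => rfl
      refine ⟨_, τ', fun _ => rfl, (gal h3).resolve_right fun h4 => ?_, e, ?_⟩
      · have k : ∀ v, (PP ⟨l + 1, show fr _ = _ by simp [hl]⟩ ⟨l, hl⟩ 0 τ' (vc v)).c = 0 :=
          fun v => by
          have hW := s.inv.W (x := vc v) rfl rfl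
          rw [← le_inv' g (vc v), ← s.PP e, show PP _ _ _ _ _ = 0 by
            ext <;> simp [PP, hW.1, hW.2, -LinearEquiv.coe_inv, sh, hl] <;> field_simp <;> ring, map_zero]
          rfl
        have n0 : l * (τ'.a * τ'.b) ≠ 0 := by simp [l0]
        rcases h4 with h4 | h4
        · exact n0 (indep3 (a := Nm (τ'.a * τ'.b : K))
            (c := -(l + 1) * (τ'.a * τ'.b) * fr (τ'.a * τ'.b : K)) fun v => by
            have := k v
            simp [PP, h4, Nm] at this ⊢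
            linear_combination this).2.1
        · exact n0 (indep3 (a := Nm (τ'.a * τ'.b : K))
            (b := -(l + 1) * (τ'.a * τ'.b) * fr (fr (τ'.a * τ'.b : K))) fun v => by
            have := k v
            simp [PP, h4, Nm] at this ⊢
            linear_combination this).2.2
      · have : sh l⁻¹ * l ^ 2 = 1 := by simp [sh, hl]; field_simp
        have h5 : l⁻¹ * l ^ 2 - 1 ≠ 0 := by rwa [pow_two, inv_mul_cancel_left₀ l0, sub_ne_zero]
        simp [this, h5]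
  obtain ⟨α, hα⟩ : ∃ α, α = sh (τ.a : K) * τ.b := ⟨_, rfl⟩
  rw [← hα] at h1
  have k : ∀ (ρ : Par K) x, (∀ y, ρ.σ y = y) → x.b = 0 → x.e = 0 →
      PP ⟨Tr α, fr_Tr _⟩ ⟨Tr (sh α), fr_Tr _⟩ ⟨Nm α, fr_Nm _⟩ ρ x =
      vc ((ρ.a * ρ.b - α) * (ρ.a * ρ.b - fr α) * (ρ.a * ρ.b - fr (fr α)) * x.c) +
      vd ((sh (ρ.a : K) * ρ.b - α) * (sh (ρ.a : K) * ρ.b - fr α) *
        (sh (ρ.a : K) * ρ.b - fr (fr α)) * x.d) := fun ρ x h1 h2 h3 => by
    generalize hs : sh (ρ.a : K) = β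
    ext <;> simp [PP, h1, h2, h3, hs, Tr, Nm, show sh α = fr α * fr (fr α) from rfl] <;> ring
  have k2 : ∀ d, _ = (0 : VV K) := fun d => (k τ' _ hσ' (s.W (x := vd d) rfl rfl).1
    (s.W (x := vd d) rfl rfl).2).symm.trans ((s.PP e _ _ _ _).symm.trans (by
      rw [k τ _ hσ rfl rfl, ← hα, ← map_zero g]; congr 1; ext <;> simp))
  by_contra h2
  have h3 := congrArg VV.d (k2 d)
  simp only [VV.add_d, vc_d, vd_d, zero_add, VV.zero_d] at h3
  refine not_W2 h s fun d => by_contra fun h4 => h1 ?_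
  have h5 := congrArg VV.c (k2 d)
  simp only [VV.add_c, vc_c, vd_c, add_zero, VV.zero_c] at h5
  have := s.PP e ⟨Tr α, fr_Tr _⟩ ⟨Tr (sh α), fr_Tr _⟩ ⟨Nm α, fr_Nm _⟩ (vc 1)
  rw [k τ' _ hσ' (s.W (x := vc 1) rfl rfl).1 (s.W (x := vc 1) rfl rfl).2, k τ _ hσ rfl rfl,
    (mul_eq_zero.1 h3).resolve_right h2, (mul_eq_zero.1 h5).resolve_right h4, zero_mul, zero_mul,
    show vc (0 : K) + vd 0 = 0 by ext <;> simp, map_eq_zero_iff _ g.injective] at this
  simpa only [VV.add_c, vc_c, vd_c, add_zero, VV.zero_c, mul_one] using congrArg VV.c this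

theorem exists_nt : ∃ g ∈ X, ∃ τ, ∀ x, g x = nv (tv τ x) := by
  obtain ⟨g, s⟩ := exists_swap h
  obtain ⟨c, c0, h1, h2⟩ := s.h1
  have a1 : ∀ y, g (vd y) = vc (g (vd y)).c := fun y => by
    ext <;> simp [s.W (x := vd y) rfl rfl, to_W1 h s]
  have a2 : ∀ y, g (vc y) = vd (g (vc y)).d := fun y => by
    ext <;> simp [s.W (x := vc y) rfl rfl]
    refine eq_zero_of_Tr fun d => ?_
    have := s.ex (vc y) (g⁻¹ (vd d))
    rw [le_inv'] at this
    simpa [BB, to_W1 h s.inv, -LinearEquiv.coe_inv] using this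
  have a3 : ∀ x, g x = (⟨x.b, x.hb⟩ : kk K) • (-c⁻¹) • ve + vd (g (vc x.c)).d + vc (g (vd x.d)).c +
      (⟨x.e, x.he⟩ : kk K) • c • vb := fun x => by
    rw [← a1, ← a2, ← h1, ← h2, ← exact_lin s.ex, ← exact_lin s.ex, ← map_add, ← map_add, ← map_add]
    congr 1
    ext <;> simp
  have l1 : ∀ l y (hl : fr l = l), g (vd (l * y)) = (⟨l, hl⟩ : kk K) • g (vd y) := fun l y hl =>
    (congrArg g (by ext <;> simp)).trans (exact_lin s.ex ⟨l, hl⟩ (vd y))
  have l2 : ∀ l y (hl : fr l = l), g (vc (l * y)) = (⟨l, hl⟩ : kk K) • g (vc y) := fun l y hl =>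
    (congrArg g (by ext <;> simp)).trans (exact_lin s.ex ⟨l, hl⟩ (vc y))
  have a4 : ∀ y, sh (g (vd y)).c = c * (g (vc (sh y))).d := fun y => by
    by_cases y0 : y = 0
    · rw [y0, sh_zero, show vd (0 : K) = 0 from rfl, show vc (0 : K) = 0 from rfl]; simp
    have n0 : Nm y ≠ 0 := by simpa using y0
    have n1 : Nm (sh y) = Nm y ^ 2 := by simp [Nm, sh]; ring
    have e := a3 (uu (sh y) vb)
    obtain ⟨r, l, hl⟩ := h.om_form ((h.om_uu ((h.om_smul ((Om.of inL_ve).map s.mem) c⁻¹)) (sh y)).map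
      s.mem) (x := g (uu (sh y) (c⁻¹ • g ve))) fun h0 => by
        rw [show c⁻¹ • g ve = vb by rw [h1]; ext <;> simp [c0], e] at h0
        simpa [c0, y0] using h0.1
    rw [show c⁻¹ • g ve = vb by rw [h1]; ext <;> simp [c0], e] at hl
    have b1 := congrArg VV.b hl
    have b2 := congrArg VV.c hl
    have b3 := congrArg VV.d hl
    simp [sh_sh, l1, n1] at b1 b2 b3
    have b4 : (g (vd y)).c = -(Nm y * c) * r := mul_left_cancel₀ n0 (by linear_combination b2)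
    rw [b4, ← mul_assoc, cr_smul (by simp), cr_self] at b3
    rw [b4, sh_smul (by simp)]
    linear_combination -(c : K) * b3
  obtain ⟨ρ, hρ⟩ := exists_str (Q := fun y => (g (vd y)).c) (R := fun y => c * (g (vc y)).d) (σ := id)
    (fun x y => by rw [show vd (x + y) = vd x + vd y by ext <;> simp, map_add]; rfl)
    (fun x y => by rw [show vc (x + y) = vc x + vc y by ext <;> simp, map_add, VV.add_d, mul_add])
    (fun x hx => congrArg VV.d (g.injective (show g (vd x) = g 0 by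
      rw [a1, map_zero, show (g (vd x)).c = 0 from hx]; rfl)))
    (fun _ h => h) (fun m h => ⟨m, h, rfl⟩) (fun l x hl => by simp [l1 l x hl])
    (fun l x hl => by simp [l2 l x hl]; ring) a4
  obtain ⟨m, hm⟩ : ∃ m, m = (g (vd 1)).c := ⟨_, rfl⟩
  simp only [← hm] at hρ
  have m0 : m ≠ 0 := fun e => one_ne_zero (congrArg VV.d (g.injective (show g (vd 1) = g 0 by
    rw [a1, map_zero, ← hm, e]; rfl)))
  have r1 : ∀ l, fr l = l → ρ l = l := fun l hl => mul_left_cancel₀ m0 (by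
    rw [← hρ, ← mul_one l, l1 l 1 hl, smul_c, ← hm]; ring)
  have a5 : ∀ z, (g (vc z)).d = -ρ z / m := fun z => by
    rw [eq_div_iff m0, ← sub_eq_zero]
    refine eq_zero_of_Tr fun y => ?_
    obtain ⟨y, rfl⟩ := ρ.surjective y
    have := s.ex (vc z) (vd y)
    rw [a1, a2, hρ] at this
    simp only [BB, vc_b, vc_c, vc_d, vc_e, vd_b, vd_c, vd_d, vd_e, mul_zero, zero_mul, Tr_zero,
      sub_self, zero_add, add_zero, zero_sub] at this
    rw [sub_mul, Tr_sub, mul_assoc, this, neg_mul, Tr_neg, ← map_mul, ← map_Tr, r1 _ (fr_Tr _),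
      sub_self]
  have a6 : (c : K) = -Nm m := by
    have := a4 1
    rw [sh_one, a5, ← hm, map_one] at this
    rw [← mul_sh, this]
    field_simp
  have n0 : Nm m ≠ 0 := by simpa using m0
  refine ⟨g, s.mem, ⟨Units.mk0 (sh m) (by simpa using m0), Units.mk0 (-(Nm m)⁻¹) (by simpa using m0),
    ρ, by simp⟩, fun x => ?_⟩
  rw [a3, a5, hρ]
  ext <;> simp [a6, r1, sh_sh]
  · rw [show Nm (sh m) = Nm m ^ 2 by simp [Nm, sh]; ring]; field_simp
  · left; field_simp
  · rw [← mul_sh]; field_simp [sh_eq_zero.not.2 m0]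
  · ring

theorem exists_hn (ν : K) (h0 : ν ≠ 0) : ∃ g ∈ X, ∀ x, g x = tv (dpar (ν ^ 2) (Nm ν)⁻¹
    (pow_ne_zero 2 h0) (by simpa using h0) (by simp)) (nv x) := by
  obtain ⟨g, hg, τ, e⟩ := exists_nt h
  obtain ⟨r, hr⟩ := τ.σ.surjective (-ν⁻¹ / τ.a)
  obtain ⟨u, hu, e1⟩ := h.exU r
  obtain ⟨w, hw, e2⟩ := h.exU (-ν)
  refine ⟨w * (g * u * g⁻¹) * w, mul_mem (mul_mem (h.syl.le hw) (mul_mem (mul_mem hg (h.syl.le hu))
    (inv_mem hg))) (h.syl.le hw), fun x => ?_⟩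
  have k : ∀ y, (g * u * g⁻¹) y = nv (uu (-ν⁻¹) (-nv y)) := fun y => by
    obtain ⟨y, rfl⟩ := g.surjective y
    rw [LinearEquiv.mul_apply, LinearEquiv.mul_apply, le_inv, e1, e, e, tv_uu, hr,
      mul_div_cancel₀ _ τ.a.ne_zero]
    congr 2
    ext <;> simp
  have n1 := fr_ne_zero h0
  have n2 := fr_ne_zero n1
  rw [LinearEquiv.mul_apply, LinearEquiv.mul_apply, k, e2, e2]
  ext <;> simp [Tr, Nm, sh, cr] <;> field_simp <;> ring

theorem lin_n : ∃ g ∈ X, ∀ x, g x = nv x := by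
  obtain ⟨g, hg, e⟩ := exists_hn h 1 one_ne_zero
  exact ⟨g, hg, fun x => by rw [e]; ext <;> simp⟩

theorem lin_h (ν : K) (h0 : ν ≠ 0) : ∃ g ∈ X, ∀ x, g x = tv (dpar (ν ^ 2) (Nm ν)⁻¹
    (pow_ne_zero 2 h0) (by simpa using h0) (by simp)) x := by
  obtain ⟨g, hg, e⟩ := exists_hn h ν h0
  obtain ⟨n, hn, e'⟩ := lin_n h
  exact ⟨g * n⁻¹, mul_mem hg (inv_mem hn), fun x => by
    rw [LinearEquiv.mul_apply, e, ← e', le_inv']⟩

theorem lin_move {g : VV K ≃ₗ[ℤ] VV K} (hg : g ∈ X) (hL : ¬ FixL g) :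
    ∃ t, FixL fun x => nv (uu t (g x)) := by
  obtain ⟨t, l, e⟩ := h.om_form ((Om.of inL_ve).map hg) fun h0 =>
    hL fun x hx => eq_ve hx ▸ h.inL_smul hg h0 _
  refine ⟨t, fun x hx => show InL (nv _) from ?_⟩
  obtain ⟨m, hm⟩ := h.semi hg ⟨x.e, x.he⟩
  rw [show g x = m • g ve from (congrArg g (eq_ve hx)).trans (hm _), uu_smul, e]
  simp [InL]

end Cfsg.Agent.D4
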