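import Cfsg.Agent.Lib.D4.Field
import Cfsg.Agent.Lib.H7.SylowIn

/-!
# S5261: the twisted semifield lemma (see notes/TD_helper2.md, section Quad)
-/

set_option autoImplicit false
set_option linter.unusedSectionVars false
set_option linter.unusedVariables false

namespace Cfsg.Agent.D4

open Subgroup H7

section Generic

variable {V : Type*} [AddCommGroup V] [Finite V] {A B C : AddSubgroup V} {p : ℕ} [hp : Fact p.Prime]

instance instFiniteLE : Finite (V ≃ₗ[ℤ] V) := Finite.of_injective _ DFunLike.coe_injective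

theorem le_inv (g : V ≃ₗ[ℤ] V) (x : V) : g⁻¹ (g x) = x := g.symm_apply_apply x

theorem le_inv' (g : V ≃ₗ[ℤ] V) (x : V) : g (g⁻¹ x) = x := g.apply_symm_apply x

theorem inv_of_mul {G : Type*} [Group G] [Finite G] {P : G → Prop} (h1 : P 1)
    (hm : ∀ a b, P a → P b → P (a * b)) {g : G} (h : P g) : P g⁻¹ :=
  inv_mem_of_pow_mem (M := { carrier := {g | P g}, one_mem' := h1, mul_mem' := hm _ _ }) h

/-- the stabilizer of the chain `0 ≤ A ≤ B ≤ C ≤ ⊤` -/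
def cst (hAB : A ≤ B) (hBC : B ≤ C) : Subgroup (V ≃ₗ[ℤ] V) :=
  let M : Submonoid (V ≃ₗ[ℤ] V) :=
    { carrier := {g | (∀ x ∈ A, g x = x) ∧ (∀ x ∈ B, g x - x ∈ A) ∧ (∀ x ∈ C, g x - x ∈ B) ∧
        ∀ x, g x - x ∈ C}
      one_mem' := by simp
      mul_mem' := fun {g h} ⟨g1, g2, g3, g4⟩ ⟨h1, h2, h3, h4⟩ =>
        ⟨fun x hx => by rw [LinearEquiv.mul_apply, h1 x hx, g1 x hx],
          fun x hx => by simpa using A.add_mem (g2 (h x) (by
            simpa using B.add_mem (hAB (h2 x hx)) hx)) (h2 x hx),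
          fun x hx => by simpa using B.add_mem (g3 (h x) (by
            simpa using C.add_mem (hBC (h3 x hx)) hx)) (h3 x hx),
          fun x => by simpa using C.add_mem (g4 (h x)) (h4 x)⟩ }
  { M with inv_mem' := fun h => inv_mem_of_pow_mem (M := M) h }

theorem mem_cst {hAB : A ≤ B} {hBC : B ≤ C} {g : V ≃ₗ[ℤ] V} : g ∈ cst hAB hBC ↔
    (∀ x ∈ A, g x = x) ∧ (∀ x ∈ B, g x - x ∈ A) ∧ (∀ x ∈ C, g x - x ∈ B) ∧ ∀ x, g x - x ∈ C :=
  Iff.rfl

theorem isPGroup_cst (hV : ∀ v : V, p • v = 0) (hAB : A ≤ B) (hBC : B ≤ C) :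
    IsPGroup p (cst hAB hBC) := by
  rintro ⟨g, g1, g2, g3, g4⟩
  refine ⟨2, Subtype.ext (LinearEquiv.toLinearMap_injective ?_)⟩
  obtain ⟨f, hf⟩ : ∃ f : Module.End ℤ V, f = (g : V →ₗ[ℤ] V) - 1 := ⟨_, rfl⟩
  have hf' : ∀ x, f x = g x - x := fun x => by rw [hf]; rfl
  have h4 : f ^ 4 = 0 := LinearMap.ext fun x => by
    have := g1 _ (g2 _ (g3 _ (g4 x)))
    simp only [← hf'] at this
    simp only [pow_succ, pow_zero, Module.End.mul_apply, Module.End.one_apply, LinearMap.zero_apply]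
    rw [hf', this, sub_self]
  have hp0 : (p : Module.End ℤ V) = 0 := LinearMap.ext fun x => by simpa using hV x
  obtain ⟨r, hr⟩ := (Commute.one_right f).exists_add_pow_prime_pow_eq hp.out 2
  obtain ⟨m, hm⟩ := Nat.exists_eq_add_of_le (show 4 ≤ p ^ 2 by nlinarith [hp.out.two_le])
  rw [hp0, hf, sub_add_cancel, ← hf, hm, pow_add f, h4] at hr
  have e : ∀ n : ℕ, ((g ^ n : V ≃ₗ[ℤ] V) : Module.End ℤ V) = (g : Module.End ℤ V) ^ n := fun n =>
    map_pow (LinearEquiv.automorphismGroup.toLinearMapMonoidHom (R := ℤ) (M := V)) g n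
  rw [SubgroupClass.coe_pow, e, hm, hr]
  simp; rfl

theorem mem_of_cst {T X : Subgroup (V ≃ₗ[ℤ] V)} (hS : SylowIn p T X) (hV : ∀ v : V, p • v = 0)
    {hAB : A ≤ B} {hBC : B ≤ C} (hT : T ≤ cst hAB hBC) {g : V ≃ₗ[ℤ] V} (hg : g ∈ X)
    (h : g ∈ cst hAB hBC) : g ∈ T :=
  (hS.eq_of_le (isPGroup_cst hV hAB hBC).to_inf_left (le_inf hT hS.le) inf_le_right).le ⟨h, hg⟩

/-- the commutator space and the fixed space -/
def rg (g : V ≃ₗ[ℤ] V) : AddSubgroup V := ((g : V →ₗ[ℤ] V) - 1).range.toAddSubgroup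

def fx (g : V ≃ₗ[ℤ] V) : AddSubgroup V := ((g : V →ₗ[ℤ] V) - 1).ker.toAddSubgroup

theorem mem_rg {g : V ≃ₗ[ℤ] V} {x : V} : x ∈ rg g ↔ ∃ y, g y - y = x := Iff.rfl

theorem mem_fx {g : V ≃ₗ[ℤ] V} {x : V} : x ∈ fx g ↔ g x = x := sub_eq_zero

end Generic

variable {K : Type*} [Field K] [hK : TF K] {p : ℕ} [hp : Fact p.Prime] [CharP K p]

theorem eq_zero_of_cr_all {v : K} (h : ∀ r, cr r v = 0) : v = 0 := by
  simpa using (indep3 (a := 0) (b := fr (fr v)) (c := fr v) fun r => by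
    have := h r
    simp only [cr] at this
    linear_combination this).2.2

theorem cr_mem {s v : K} (hs : s ≠ 0) (h : cr s v = 0) (r : K) : ∃ y, cr s y = cr r v := by
  by_cases h2 : (2 : K) = 0
  · obtain ⟨l, hl, rfl⟩ := line_of_cr h2 hs h
    exact ⟨l * r, by rw [cr_smul hl, cr_smul hl, cr_comm]⟩
  · exact ⟨0, by simp [eq_zero_of_cr h2 hs h]⟩

/-- twice the inverse of `v ↦ τ⁻¹ × v` -/
def Li (τ w : K) : K := -(sh τ / τ) * w + fr (fr τ) * fr w + fr τ * fr (fr w)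

theorem cr_Li {t : K} (ht : t ≠ 0) (w : K) : cr t (Li t⁻¹ w) = 2 * w := by
  have n1 := fr_ne_zero ht
  have n2 := fr_ne_zero n1
  simp [cr, Li, sh]
  field_simp
  ring

theorem quad {T X : Subgroup ((K × K) ≃ₗ[ℤ] (K × K))} (hS : SylowIn p T X)
    (hT : ∀ g, g ∈ T ↔ ∃ t, ∀ x, g x = (x.1, x.2 + cr t x.1)) :
    ∀ g ∈ X, ∀ w, (g (0, w)).1 = 0 := by
  have hV : ∀ v : K × K, p • v = 0 := fun v => by ext <;> simp
  let W : AddSubgroup (K × K) := (AddMonoidHom.fst K K).ker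
  have hW : ∀ x, x ∈ W ↔ x.1 = 0 := fun x => Iff.rfl
  let G : ((K × K) ≃ₗ[ℤ] (K × K)) → Prop := fun g => ∀ x ∈ W, g x ∈ W
  have gm : ∀ a b, G a → G b → G (a * b) := fun a b ha hb x hx => ha _ (hb x hx)
  have gi : ∀ g, G g → G g⁻¹ := fun g => inv_of_mul (fun x hx => hx) gm
  have ex : ∀ t, ∃ u ∈ T, ∀ x, u x = (x.1, x.2 + cr t x.1) := fun t =>
    ⟨⟨⟨⟨fun x => (x.1, x.2 + cr t x.1), fun x y => by ext <;> simp [cr_add]; ring⟩,
      fun n x => (AddMonoidHom.mk' (fun x : K × K => (x.1, x.2 + cr t x.1)) fun x y => by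
        ext <;> simp [cr_add]; ring).map_zsmul n x⟩, fun x => (x.1, x.2 - cr t x.1),
      fun x => by simp, fun x => by simp⟩, (hT _).2 ⟨t, fun _ => rfl⟩, fun _ => rfl⟩
  choose u uT hu using ex
  have t1 : T ≤ cst (A := W) le_rfl (le_refl W) := fun g hg => by
    obtain ⟨t, ht⟩ := (hT g).1 hg
    exact ⟨fun x hx => by rw [ht]; ext <;> simp [(hW x).1 hx], fun x _ => by simp [ht, hW],
      fun x _ => by simp [ht, hW], fun x => by simp [ht, hW]⟩
  have hN : ∀ g ∈ X, G g → ∀ a ∈ T, g * a * g⁻¹ ∈ T := fun g hg h a ha => by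
    have k : ∀ x, (g * a * g⁻¹) x - x ∈ W := fun x => by
      have := h _ ((t1 ha).2.2.2 (g⁻¹ x))
      rwa [map_sub, le_inv'] at this
    exact mem_of_cst hS hV t1 (mul_mem (mul_mem hg (hS.le ha)) (inv_mem hg))
      ⟨fun x hx => by rw [LinearEquiv.mul_apply, LinearEquiv.mul_apply, (t1 ha).1 _ (gi g h x hx),
        le_inv'], fun x _ => k x, fun x _ => k x, k⟩
  have st : ∀ a ∈ T, a ≠ 1 → ∃ h : rg a ≤ fx a, T ≤ cst h le_rfl := fun a ha h1 => by
    obtain ⟨s, hs⟩ := (hT a).1 ha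
    have s0 : s ≠ 0 := by rintro rfl; exact h1 (LinearEquiv.ext fun x => by simp [hs])
    have k : ∀ b ∈ T, ∀ x ∈ rg a, b x = x := by
      rintro b hb _ ⟨y, rfl⟩
      exact (t1 hb).1 _ ((t1 ha).2.2.2 y)
    have k2 : ∀ b ∈ T, ∀ x ∈ fx a, b x - x ∈ rg a := fun b hb x hx => by
      obtain ⟨r, hr⟩ := (hT b).1 hb
      obtain ⟨y, hy⟩ := cr_mem s0 (v := x.1) (by simpa [hs] using congrArg Prod.snd (mem_fx.1 hx)) r
      exact mem_rg.2 ⟨(y, 0), by ext <;> simp [hs, hr, hy]⟩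
    exact ⟨fun x hx => mem_fx.2 (k a ha x hx), fun b hb => ⟨k b hb, k2 b hb,
      fun x hx => mem_fx.2 (k a ha _ (k2 b hb x hx)),
      fun x => mem_fx.2 ((t1 ha).1 _ ((t1 hb).2.2.2 x))⟩⟩
  have se : ∀ g ∈ X, ∀ t, t ≠ 0 → G (g⁻¹ * u t * g) → G g := fun g hg t ht h => by
    have hX : ∀ a ∈ T, g⁻¹ * a * g ∈ X := fun a ha => mul_mem (mul_mem (inv_mem hg) (hS.le ha)) hg
    obtain ⟨k, hk⟩ := hS.isPGroup ⟨u t, uT t⟩
    have h1 : g⁻¹ * u t * g ∈ T := hS.mem_of_mem_normalizer (hX _ (uT t)) (k := k)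
      (mem_normalizer_fintype (hN _ (hX _ (uT t)) h)) (by
        rw [← MulAut.conj_inv_apply, ← map_pow, show u t ^ p ^ k = 1 from congrArg Subtype.val hk,
          map_one])
    have n1 : u t ≠ 1 := fun e => ht (eq_zero_of_cr_all fun r => by
      simpa [e, cr_comm] using (congrArg Prod.snd (hu t (r, 0))).symm)
    obtain ⟨c1, c2⟩ := st _ (uT t) n1
    obtain ⟨d1, d2⟩ := st _ h1 (fun e => n1 (by simpa [mul_assoc] using congrArg (g * · * g⁻¹) e))
    have e1 : ∀ x, g⁻¹ x ∈ rg (g⁻¹ * u t * g) ↔ x ∈ rg (u t) := fun x =>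
      ⟨fun ⟨y, hy⟩ => mem_rg.2 ⟨g y, by simpa using congrArg g hy⟩,
        fun ⟨y, hy⟩ => mem_rg.2 ⟨g⁻¹ y, by simp [← hy]⟩⟩
    have e2 : ∀ x, g⁻¹ x ∈ fx (g⁻¹ * u t * g) ↔ x ∈ fx (u t) := fun x => by simp [mem_fx]
    intro x hx
    refine eq_zero_of_cr_all fun r => ?_
    obtain ⟨b1, b2, -, b4⟩ := c2 (uT r)
    have k : ∀ x, (g⁻¹ * u r * g) x - x = g⁻¹ (u r (g x) - g x) := fun x => by simp
    have := (t1 (mem_of_cst hS hV d2 (hX _ (uT r))
      ⟨fun x hx => by simp [b1 _ ((e1 (g x)).1 (by simpa using hx))],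
        fun x hx => k x ▸ (e1 _).2 (b2 _ ((e2 (g x)).1 (by simpa using hx))),
        fun x hx => d1 (k x ▸ (e1 _).2 (b2 _ ((e2 (g x)).1 (by simpa using hx)))),
        fun x => k x ▸ (e2 _).2 (b4 _)⟩)).1 x hx
    simpa [hu] using congrArg (fun y => (g y).2) this
  by_contra! hb
  obtain ⟨g, hg, w, hw⟩ := hb
  let Nr : ((K × K) ≃ₗ[ℤ] (K × K)) → AddSubgroup (K × K) → Prop := fun g U => ∀ x ∈ U, g x ∈ U
  obtain ⟨U, ⟨hUW, g0, hg0, b0, n0⟩, hmax⟩ := Set.Finite.exists_maximal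
    (s := {U | U ≤ W ∧ ∃ g ∈ X, ¬ G g ∧ Nr g U}) (Set.toFinite _)
    ⟨⊥, bot_le, g, hg, fun h => hw (h (0, w) rfl), fun x hx => by simpa using hx⟩
  have key : ∀ g ∈ X, ¬ G g → Nr g U → ∀ z ∈ W, z ∉ U → ∀ t, t ≠ 0 → (0, cr t (g z).1) ∉ U :=
    fun g hg hb hn z hz hzU t ht h => by
      have hi : Nr g⁻¹ U := inv_of_mul (P := fun g => Nr g U) (fun x hx => hx)
        (fun a b ha hb x hx => ha _ (hb x hx)) hn
      refine hb (se g hg t ht (by_contra fun hb' => hzU (hmax (y := U ⊔ AddSubgroup.zmultiples z)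
        ⟨sup_le hUW (by simpa using hz), _, mul_mem (mul_mem (inv_mem hg) (hS.le (uT t))) hg, hb',
          fun x hx => ?_⟩ le_sup_left
        (AddSubgroup.mem_sup_right (AddSubgroup.mem_zmultiples z)))))
      obtain ⟨y, hy, _, ⟨n, rfl⟩, rfl⟩ := AddSubgroup.mem_sup.1 hx
      rw [map_add, map_zsmul]
      refine add_mem (AddSubgroup.mem_sup_left (hi _ ?_)) (zsmul_mem ?_ n)
      · show u t (g y) ∈ U
        rw [(t1 (uT t)).1 _ (hUW (hn y hy))]; exact hn y hy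
      · have := add_mem (AddSubgroup.mem_sup_left (T := AddSubgroup.zmultiples z) (hi _ h))
          (AddSubgroup.mem_sup_right (AddSubgroup.mem_zmultiples z))
        rwa [show g⁻¹ (0, cr t (g z).1) + z = (g⁻¹ * u t * g) z by
          rw [LinearEquiv.mul_apply, LinearEquiv.mul_apply, hu, ← le_inv g z, ← map_add, le_inv]
          congr 1; ext <;> simp [add_comm]] at this
  obtain ⟨z, hz, hzU⟩ : ∃ z ∈ W, z ∉ U := by
    by_contra! h
    exact b0 fun x hx => hUW (n0 x (h x hx))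
  have k0 := key g0 hg0 b0 n0 z hz hzU
  have v0 : (g0 z).1 ≠ 0 := fun e => k0 1 one_ne_zero (by rw [e, cr_zero]; exact U.zero_mem)
  have h2 : (2 : K) ≠ 0 := fun e => k0 _ v0 (by rw [cr_self, e, zero_mul]; exact U.zero_mem)
  have hU : U = ⊥ := eq_bot_iff.2 fun x hx => by
    obtain ⟨t, ht⟩ := cr_surj h2 v0 x.2
    have e : x = (0, x.2) := Prod.ext (hUW hx) rfl
    by_cases t0 : t = 0
    · rw [e, ← ht, t0, cr_zero]; rfl
    · exact (k0 t t0 (by rwa [cr_comm, ht, ← e])).elim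
  subst hU
  have dich : ∀ g ∈ X, ¬ G g → ∀ c, (g (0, c)).1 = 0 → c = 0 := fun g hg hb c hc => by
    by_contra c0
    exact key g hg hb (fun x hx => by simpa using hx) (0, c) rfl (by simp [Prod.ext_iff, c0]) 1
      one_ne_zero (by simp [hc, Prod.ext_iff])
  have form : ∀ r w, (g0 * u r * g0⁻¹) (0, w) = (0, w) + g0 (0, cr r (g0⁻¹ (0, w)).1) := fun r w => by
    rw [LinearEquiv.mul_apply, LinearEquiv.mul_apply, hu]
    conv_rhs => rw [← le_inv' g0 (0, w), ← map_add, le_inv]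
    congr 1; ext <;> simp
  have ex : ∀ r, ∃ τ, (∀ w, 2 * (g0 (0, cr r (g0⁻¹ (0, w)).1)).1 = Li τ w) ∧ (τ = 0 → r = 0) :=
    fun r => by
      by_cases r0 : r = 0
      · exact ⟨0, fun w => by simp [r0, Li, Prod.mk_zero_zero], fun _ => r0⟩
      have m1 := mul_mem (mul_mem hg0 (hS.le (uT r))) (inv_mem hg0)
      have b1 : ¬ G (g0 * u r * g0⁻¹) := fun h =>
        b0 (by simpa using gi _ (se g0⁻¹ (inv_mem hg0) r r0 (by simpa using h)))
      obtain ⟨t, ht⟩ := cr_surj h2 (fun e => one_ne_zero (dich _ m1 b1 1 e)) 1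
      have t0 : t ≠ 0 := by rintro rfl; simp at ht
      have m2 := mul_mem (inv_mem (mul_mem (hS.le (uT t)) hg0)) m1
      have hG : G ((u t * g0)⁻¹ * (g0 * u r * g0⁻¹)) := by_contra fun hb' =>
        one_ne_zero (dich _ m2 hb' 1 (by
          rw [LinearEquiv.mul_apply, show (g0 * u r * g0⁻¹) (0, 1) =
            (u t * g0) (0, cr r (g0⁻¹ (0, 1)).1) from ?_, le_inv]
          rw [form, cr_comm] at ht
          rw [form, LinearEquiv.mul_apply, hu]
          ext <;> simp_all [add_comm]))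
      refine ⟨t⁻¹, fun w => sub_eq_zero.1 (eq_zero_of_cr h2 t0 ?_), fun e => (t0 (inv_eq_zero.1 e)).elim⟩
      obtain ⟨y, hy⟩ : ∃ y, y = ((u t * g0)⁻¹ * (g0 * u r * g0⁻¹)) (0, w) := ⟨_, rfl⟩
      have y1 : y = (0, y.2) := Prod.ext (hy ▸ hG (0, w) rfl) rfl
      have y2 := congrArg (u t * g0) hy
      rw [LinearEquiv.mul_apply _ (_ * _), le_inv', form, y1, LinearEquiv.mul_apply, hu] at y2
      have y3 := dich g0 hg0 b0 (y.2 - cr r (g0⁻¹ (0, w)).1) (by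
        rw [show ((0 : K), y.2 - cr r (g0⁻¹ (0, w)).1) = (0, y.2) - (0, cr r (g0⁻¹ (0, w)).1) by simp,
          map_sub]
        simpa [sub_eq_zero] using congrArg Prod.fst y2)
      rw [sub_eq_zero.1 y3] at y2
      have y4 := congrArg Prod.snd y2
      simp only [Prod.snd_add] at y4
      rw [sub_eq_add_neg, cr_add, ← neg_one_mul, cr_smul (map_ofNat _ 2), cr_smul (by simp), cr_Li t0]
      linear_combination 2 * y4
  choose τ hτ hτ0 using ex
  have add : ∀ r s, sh (τ (r + s)) / τ (r + s) = sh (τ r) / τ r + sh (τ s) / τ s ∧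
      τ (r + s) = τ r + τ s := fun r s => by
    have := indep3 (a := sh (τ (r + s)) / τ (r + s) - (sh (τ r) / τ r + sh (τ s) / τ s))
      (b := fr (fr (τ r + τ s - τ (r + s)))) (c := fr (τ r + τ s - τ (r + s))) fun w => by
        have e := hτ (r + s) w
        rw [add_cr, show ((0 : K), cr r (g0⁻¹ (0, w)).1 + cr s (g0⁻¹ (0, w)).1) =
          (0, cr r (g0⁻¹ (0, w)).1) + (0, cr s (g0⁻¹ (0, w)).1) by simp, map_add, Prod.fst_add, mul_add,
          hτ, hτ] at e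
        simp only [Li, map_sub, map_add] at e ⊢
        linear_combination e
    exact ⟨sub_eq_zero.1 this.1, (sub_eq_zero.1 ((map_eq_zero _).1 this.2.2)).symm⟩
  obtain ⟨θ, hθ⟩ := exists_ne K
  obtain ⟨r, hr⟩ := surj_of_ker (fun r s => (add r s).2) hτ0 1
  obtain ⟨s, hs⟩ := surj_of_ker (fun r s => (add r s).2) hτ0 θ
  have e := (add r s).1
  rw [(add r s).2, hr, hs] at e
  have n1 : θ ≠ 0 := by rintro rfl; simp at hθ
  have n2 : 1 + θ ≠ 0 := fun h => hθ (by rw [eq_neg_of_add_eq_zero_right h]; simp)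
  simp only [sh, map_add, map_one] at e
  field_simp at e
  have : (θ - fr θ) * (θ - fr (fr θ)) = 0 := by linear_combination -e
  rcases mul_eq_zero.1 this with h | h
  · exact hθ (sub_eq_zero.1 h).symm
  · exact hθ (fix_of_fr2 (sub_eq_zero.1 h).symm)

end Cfsg.Agent.D4
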