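import Cfsg.Agent.Lib.D4.Defs
import Cfsg.Agent.Lib.D4.Quad

/-!
# S5261: the module `V = Qa / Z1` (see notes/TD_helper2.md, section Q_a)
-/

set_option autoImplicit false
set_option linter.unusedSectionVars false
set_option linter.unusedVariables false

namespace Cfsg.Agent.D4

open Subgroup H7

@[ext] structure VV (K : Type*) [Field K] [TF K] where
  b : K
  c : K
  d : K
  e : K
  hb : fr b = b
  he : fr e = e

variable {K : Type*} [Field K] [hK : TF K]

namespace VV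

attribute [simp] hb he

instance instZeroVV : Zero (VV K) := ⟨⟨0, 0, 0, 0, by simp, by simp⟩⟩
instance instAddVV : Add (VV K) :=
  ⟨fun x y => ⟨x.b + y.b, x.c + y.c, x.d + y.d, x.e + y.e, by simp, by simp⟩⟩
instance instNegVV : Neg (VV K) := ⟨fun x => ⟨-x.b, -x.c, -x.d, -x.e, by simp, by simp⟩⟩

@[simp] theorem zero_b : (0 : VV K).b = 0 := rfl
@[simp] theorem zero_c : (0 : VV K).c = 0 := rfl
@[simp] theorem zero_d : (0 : VV K).d = 0 := rfl
@[simp] theorem zero_e : (0 : VV K).e = 0 := rfl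
@[simp] theorem add_b (x y : VV K) : (x + y).b = x.b + y.b := rfl
@[simp] theorem add_c (x y : VV K) : (x + y).c = x.c + y.c := rfl
@[simp] theorem add_d (x y : VV K) : (x + y).d = x.d + y.d := rfl
@[simp] theorem add_e (x y : VV K) : (x + y).e = x.e + y.e := rfl
@[simp] theorem neg_b (x : VV K) : (-x).b = -x.b := rfl
@[simp] theorem neg_c (x : VV K) : (-x).c = -x.c := rfl
@[simp] theorem neg_d (x : VV K) : (-x).d = -x.d := rfl
@[simp] theorem neg_e (x : VV K) : (-x).e = -x.e := rfl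

instance instAddCommGroupVV : AddCommGroup (VV K) :=
  { AddGroup.ofLeftAxioms (G := VV K) (fun x y z => by ext <;> simp [add_assoc])
      (fun x => by ext <;> simp) (fun x => by ext <;> simp) with
    add_comm := fun x y => by ext <;> simp [add_comm] }

@[simp] theorem sub_b (x y : VV K) : (x - y).b = x.b - y.b := by simp [sub_eq_add_neg]
@[simp] theorem sub_c (x y : VV K) : (x - y).c = x.c - y.c := by simp [sub_eq_add_neg]
@[simp] theorem sub_d (x y : VV K) : (x - y).d = x.d - y.d := by simp [sub_eq_add_neg]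
@[simp] theorem sub_e (x y : VV K) : (x - y).e = x.e - y.e := by simp [sub_eq_add_neg]

instance instFiniteVV : Finite (VV K) :=
  Finite.of_injective (fun x : VV K => (x.b, x.c, x.d, x.e)) fun x y h => by
    simp only [Prod.mk.injEq] at h
    exact VV.ext h.1 h.2.1 h.2.2.1 h.2.2.2

end VV

/-- the projection `Qa → V` -/
@[simps] def pv (x : US K) : VV K := ⟨x.b, x.c, x.d, x.e, x.hb, x.he⟩

/-- conjugation by `xa t` -/
@[simps] def uu (t : K) (x : VV K) : VV K :=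
  ⟨x.b, x.c + x.b * t, x.d + cr t x.c + x.b * sh t,
    x.e + Tr (t * x.d) + Tr (sh t * x.c) + x.b * Nm t, by simp, by simp⟩

/-- the commutator form -/
def BB (x y : VV K) : K := x.b * y.e - x.e * y.b - Tr (x.c * y.d) + Tr (x.d * y.c)

/-- the squaring form -/
def qq (x : VV K) : K := x.b * x.e - Tr (x.c * x.d)

@[simps] def tv (t : Par K) (x : VV K) : VV K :=
  ⟨t.b * t.σ x.b, t.a * t.b * t.σ x.c, sh (t.a : K) * t.b * t.σ x.d, Nm (t.a : K) * t.b * t.σ x.e,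
    by simp, by simp⟩

@[simps] def nv (x : VV K) : VV K := ⟨x.e, -x.d, x.c, -x.b, by simp, by simp⟩

/-- the line `ℓ = Z2 / Z1` -/
def InL (x : VV K) : Prop := x.b = 0 ∧ x.c = 0 ∧ x.d = 0

/-- `g` normalizes `ℓ` -/
def FixL (g : VV K → VV K) : Prop := ∀ x, InL x → InL (g x)

theorem pv_mul {x y : US K} (hx : x ∈ Qa K) : pv (x * y) = pv x + pv y := by
  ext <;> simp [mem_Qa.1 hx]

theorem pv_conj (t : US K) {x : US K} (hx : x ∈ Qa K) : pv (t * x * t⁻¹) = uu t.a (pv x) := by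
  ext <;> simp [mem_Qa.1 hx, Tr, Nm, sh, cr] <;> ring

theorem pv_tauF (t : Par K) (x : US K) : pv (tauF t x) = tv t (pv x) := rfl

theorem pv_na (x : US K) : pv (na x) = nv (pv x) := rfl

theorem cm_f_Qa {x y : US K} (hx : x ∈ Qa K) (hy : y ∈ Qa K) : (cm x y).f = BB (pv y) (pv x) := by
  simp [mem_Qa.1 hx, mem_Qa.1 hy, BB, Tr]; ring

theorem sq_f_Qa {x : US K} (hx : x ∈ Qa K) : (x * x).f = 2 * x.f + qq (pv x) := by
  simp [mem_Qa.1 hx, qq]; ring

/-- The basic hypotheses on the image `X` of `Aut_F(Qa)` in `Aut(V)`. -/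
structure Hyp0 (p : ℕ) (T X : Subgroup (VV K ≃ₗ[ℤ] VV K)) : Prop where
  syl : SylowIn p T X
  hT : ∀ g, g ∈ T ↔ ∃ t, ∀ x, g x = uu t x
  form : ∀ g ∈ X, ∃ ζ : K → K, ∀ x y, BB (g x) (g y) = ζ (BB x y)

structure Hyp (p : ℕ) (T X : Subgroup (VV K ≃ₗ[ℤ] VV K)) : Prop extends Hyp0 p T X where
  sq : (2 : K) = 0 → ∀ g ∈ X, ∀ x, qq x = 0 → qq (g x) = 0
  std : ∀ g ∈ X, (∀ u ∈ T, g * u * g⁻¹ ∈ T) → ∃ s t, ∀ x, g x = uu s (tv t x)
  hb : ∀ (l : K) (h0 : l ≠ 0) (h : fr l = l), ∃ g ∈ X, ∀ x,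
    g x = tv (dpar l⁻¹ (l ^ 2) (inv_ne_zero h0) (pow_ne_zero 2 h0) (by simp [h])) x
  ex : ¬ ∀ g ∈ X, ∀ u ∈ T, g * u * g⁻¹ ∈ T

@[simp] theorem fr_kk (l : kk K) : fr (l : K) = l := l.2

instance instSMulVV : SMul (kk K) (VV K) :=
  ⟨fun l x => ⟨l * x.b, l * x.c, l * x.d, l * x.e, by simp, by simp⟩⟩

@[simp] theorem smul_b (l : kk K) (x : VV K) : (l • x).b = l * x.b := rfl
@[simp] theorem smul_c (l : kk K) (x : VV K) : (l • x).c = l * x.c := rfl
@[simp] theorem smul_d (l : kk K) (x : VV K) : (l • x).d = l * x.d := rfl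
@[simp] theorem smul_e (l : kk K) (x : VV K) : (l • x).e = l * x.e := rfl

@[simps] def ve : VV K := ⟨0, 0, 0, 1, by simp, by simp⟩
@[simps] def vb : VV K := ⟨1, 0, 0, 0, by simp, by simp⟩
@[simps] def vc (v : K) : VV K := ⟨0, v, 0, 0, by simp, by simp⟩
@[simps] def vd (w : K) : VV K := ⟨0, 0, w, 0, by simp, by simp⟩

@[simp] theorem fr_BB (x y : VV K) : fr (BB x y) = BB x y := by simp [BB]

theorem BB_smul (l : kk K) (x y : VV K) : BB (l • x) y = l * BB x y := by simp [BB, Tr]; ring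

theorem BB_smul' (l : kk K) (x y : VV K) : BB x (l • y) = l * BB x y := by simp [BB, Tr]; ring

theorem BB_sub' (x y z : VV K) : BB x (y - z) = BB x y - BB x z := by simp [BB, Tr]; ring

theorem BB_swap (x y : VV K) : BB y x = -BB x y := by simp [BB, Tr]; ring

theorem BB_uu (t : K) (x y : VV K) : BB (uu t x) (uu t y) = BB x y := by
  simp [BB, Tr, cr, sh, Nm]; ring

theorem BB_tv (t : Par K) (x y : VV K) :
    BB (tv t x) (tv t y) = Nm (t.a : K) * t.b * t.b * t.σ (BB x y) := by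
  simp [BB, Tr, cr, sh, Nm]; ring

theorem uu_uu (s t : K) (x : VV K) : uu s (uu t x) = uu (s + t) x := by
  ext <;> simp [Tr, cr, sh, Nm] <;> ring

theorem uu_zero (x : VV K) : uu 0 x = x := by ext <;> simp

theorem uu_smul (t : K) (l : kk K) (x : VV K) : uu t (l • x) = l • uu t x := by
  ext <;> simp [Tr, cr, sh, Nm] <;> ring

theorem tv_uu (s : Par K) (t : K) (x : VV K) : tv s (uu t x) = uu (s.a * s.σ t) (tv s x) := by
  ext <;> simp [Tr, cr, sh, Nm] <;> ring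

theorem tv_tv (s t : Par K) (x : VV K) : tv s (tv t x) = tv (s * t) x := by
  ext <;> simp [Nm, sh] <;> ring

theorem tv_one (x : VV K) : tv 1 x = x := by ext <;> simp

theorem eq_of_BB {x y : VV K} (h : ∀ z, BB x z = BB y z) : x = y := by
  ext
  · simpa [BB] using h ve
  · exact sub_eq_zero.1 (eq_zero_of_Tr fun w => by
      rw [sub_mul, Tr_sub, sub_eq_zero]; simpa [BB] using h (vd w))
  · exact sub_eq_zero.1 (eq_zero_of_Tr fun w => by
      rw [sub_mul, Tr_sub, sub_eq_zero]; simpa [BB] using h (vc w))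
  · simpa [BB] using h vb

theorem exists_BB {x : VV K} (hx : x ≠ 0) : ∃ z, BB x z = 1 := by
  by_contra! h
  refine hx (eq_of_BB fun z => ?_)
  by_contra h0
  have h1 : BB x z ≠ 0 := by simpa [BB] using h0
  exact h ((⟨(BB x z)⁻¹, show fr _ = _ by simp⟩ : kk K) • z) (by rw [BB_smul', inv_mul_cancel₀ h1])

theorem mem_of_perp {x y : VV K} (hy : y ≠ 0) (h : ∀ z, BB y z = 0 → BB x z = 0) :
    ∃ l : kk K, x = l • y := by
  obtain ⟨z, hz⟩ := exists_BB hy
  refine ⟨⟨BB x z, fr_BB _ _⟩, eq_of_BB fun w => ?_⟩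
  have := h (w - (⟨BB y w, fr_BB _ _⟩ : kk K) • z) (by rw [BB_sub', BB_smul', hz]; simp)
  rw [BB_sub', BB_smul'] at this
  rw [BB_smul]
  linear_combination this

theorem inL_smul {x : VV K} (h : InL x) (l : kk K) : InL (l • x) := by
  simp [InL, h.1, h.2.1, h.2.2]

theorem eq_ve {x : VV K} (h : InL x) : x = (⟨x.e, x.he⟩ : kk K) • ve := by
  ext <;> simp [h.1, h.2.1, h.2.2]

theorem inL_ve : InL (ve : VV K) := ⟨rfl, rfl, rfl⟩

theorem uu_inL {x : VV K} (h : InL x) (t : K) : uu t x = x := by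
  ext <;> simp [h.1, h.2.1, h.2.2]

variable {p : ℕ} [hp : Fact p.Prime] [CharP K p] {T X : Subgroup (VV K ≃ₗ[ℤ] VV K)}
  {g : VV K ≃ₗ[ℤ] VV K}

theorem Hyp0.perp (h : Hyp0 p T X) (hg : g ∈ X) {x y : VV K} (e : BB x y = 0) :
    BB (g x) (g y) = 0 := by
  obtain ⟨ζ, hζ⟩ := h.form g hg
  have := hζ 0 0
  rw [map_zero] at this
  rw [hζ, e, ← show BB (0 : VV K) 0 = 0 by simp [BB], ← this]

theorem Hyp0.perp' (h : Hyp0 p T X) (hg : g ∈ X) {x y : VV K} (e : BB x (g⁻¹ y) = 0) :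
    BB (g x) y = 0 := by
  simpa only [le_inv'] using h.perp hg e

theorem Hyp0.semi (h : Hyp0 p T X) (hg : g ∈ X) (l : kk K) :
    ∃ m : kk K, ∀ x, g (l • x) = m • g x := by
  obtain ⟨ζ, hζ⟩ := h.form g hg
  have k : ∀ x, x ≠ 0 → ∃ m : kk K, g (l • x) = m • g x ∧ (m : K) = ζ l / ζ 1 := fun x hx => by
    obtain ⟨m, hm⟩ := mem_of_perp (x := g (l • x)) (y := g x) (by simpa using hx) fun z hz =>
      h.perp' hg (by rw [BB_smul, ← le_inv g x, h.perp (inv_mem hg) hz, mul_zero])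
    obtain ⟨y, hy⟩ := exists_BB hx
    have h1 : ζ 1 ≠ 0 := fun e => by
      have := h.perp (inv_mem hg) (x := g x) (y := g y) (by rw [hζ, hy, e])
      rw [le_inv, le_inv, hy] at this
      exact one_ne_zero this
    have := hζ (l • x) y
    rw [hm, BB_smul, BB_smul, hζ, hy, mul_one] at this
    exact ⟨m, hm, by rw [← this, mul_div_cancel_right₀ _ h1]⟩
  obtain ⟨m, -, hm⟩ := k ve fun e => one_ne_zero (congrArg VV.e e)
  refine ⟨m, fun x => ?_⟩
  by_cases hx : x = 0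
  · rw [hx, show l • (0 : VV K) = 0 by ext <;> simp, map_zero]; ext <;> simp
  · obtain ⟨m', h1, h2⟩ := k x hx
    rw [h1, show m' = m from Subtype.ext (h2.trans hm.symm)]

theorem Hyp0.exU (h : Hyp0 p T X) (t : K) : ∃ u ∈ T, ∀ x, u x = uu t x :=
  ⟨(AddEquiv.mk' ⟨uu t, uu (-t), fun x => by rw [uu_uu, neg_add_cancel, uu_zero],
    fun x => by rw [uu_uu, add_neg_cancel, uu_zero]⟩ fun x y => by
      ext <;> simp [Tr, cr, sh, Nm] <;> ring).toIntLinearEquiv, (h.hT _).2 ⟨t, fun _ => rfl⟩,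
    fun _ => rfl⟩

theorem fixL_inv (hL : FixL g) : FixL (g⁻¹ : VV K ≃ₗ[ℤ] VV K) :=
  inv_of_mul (P := fun g : VV K ≃ₗ[ℤ] VV K => FixL g) (fun x hx => hx)
    (fun a b ha hb x hx => ha _ (hb x hx)) hL

theorem Hyp0.fix3 (h : Hyp0 p T X) (hg : g ∈ X) (hL : FixL g) {x : VV K} (hx : x.b = 0) :
    (g x).b = 0 := by
  have h1 := fixL_inv hL _ inL_ve
  simpa [BB] using h.perp' hg (x := x) (y := ve) (by rw [BB, hx, h1.1, h1.2.1, h1.2.2]; simp)

theorem Hyp0.fix2 (h : Hyp0 p T X) (hg : g ∈ X) (hL : FixL g) {x : VV K} (hx : x.b = 0)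
    (hx' : x.c = 0) : (g x).c = 0 := by
  let M : Subgroup (VV K ≃ₗ[ℤ] VV K) :=
    { carrier := {g | g ∈ X ∧ FixL g}
      one_mem' := ⟨one_mem X, fun x hx => hx⟩
      mul_mem' := fun ha hb => ⟨mul_mem ha.1 hb.1, fun x hx => ha.2 _ (hb.2 x hx)⟩
      inv_mem' := fun ha => ⟨inv_mem ha.1, fixL_inv ha.2⟩ }
  let f : M → K × K → K × K := fun g y => ((g.1 (vc y.1 + vd y.2)).c, (g.1 (vc y.1 + vd y.2)).d)
  have k : ∀ (g : M) (x : VV K), x.b = 0 → f g (x.c, x.d) = ((g.1 x).c, (g.1 x).d) := fun g x hx => by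
    have := g.2.2 (x - (vc x.c + vd x.d)) (by simp [InL, hx])
    rw [map_sub] at this
    exact Prod.ext (sub_eq_zero.1 ((VV.sub_c _ _).symm.trans this.2.1)).symm
      (sub_eq_zero.1 ((VV.sub_d _ _).symm.trans this.2.2)).symm
  have fm : ∀ (g g' : M) y, f (g * g') y = f g (f g' y) := fun g g' y =>
    (k g _ (h.fix3 g'.2.1 g'.2.2 (by simp))).symm
  have f1 : ∀ y, f 1 y = y := fun y => by simp [f]
  let π : M →* (K × K) ≃ₗ[ℤ] (K × K) := MonoidHom.mk' (fun g => (AddEquiv.mk' ⟨f g, f g⁻¹,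
    fun y => by rw [← fm, inv_mul_cancel, f1], fun y => by rw [← fm, mul_inv_cancel, f1]⟩
    fun y z => by
      have : vc (y + z).1 + vd (y + z).2 = vc y.1 + vd y.2 + (vc z.1 + vd z.2) := by ext <;> simp
      show f g _ = f g _ + f g _
      dsimp only [f]
      rw [this, map_add]; rfl).toIntLinearEquiv) fun a b => LinearEquiv.ext (fm a b)
  have hTM : T ≤ M := fun u hu => ⟨h.syl.le hu, fun x hx => by
    obtain ⟨t, ht⟩ := (h.hT u).1 hu
    rwa [ht, uu_inL hx]⟩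
  have fu : ∀ (u : M) t, (∀ x, u.1 x = uu t x) → ∀ y, π u y = (y.1, y.2 + cr t y.1) :=
    fun u t ht y => by
      show f u y = _
      simp [f, ht, add_comm]
  have := quad ((h.syl.mono_right hTM fun a ha => ha.1).map_subgroupOf le_rfl π) (fun a => ⟨by
    rintro ⟨u, hu, rfl⟩
    obtain ⟨t, ht⟩ := (h.hT u).1 hu
    exact ⟨t, fu u t ht⟩, fun ⟨t, ht⟩ => by
      obtain ⟨u, hu, e⟩ := h.exU t
      exact ⟨⟨u, hTM hu⟩, hu, LinearEquiv.ext fun y => (fu _ t e y).trans (ht y).symm⟩⟩)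
    _ ⟨⟨g, hg, hL⟩, ⟨hg, hL⟩, rfl⟩ x.d
  rw [← hx'] at this
  exact (congrArg Prod.fst (k ⟨g, hg, hL⟩ x hx)).symm.trans (this.trans hx')

theorem Hyp0.norm (h : Hyp0 p T X) {g : VV K ≃ₗ[ℤ] VV K} (hg : g ∈ X) (hL : FixL g) :
    ∀ u ∈ T, g * u * g⁻¹ ∈ T := by
  let A : AddSubgroup (VV K) :=
    { carrier := {x | InL x}
      zero_mem' := ⟨rfl, rfl, rfl⟩
      add_mem' := fun ha hb => by simp_all [InL]
      neg_mem' := fun ha => by simp_all [InL] }
  let B : AddSubgroup (VV K) :=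
    { carrier := {x | x.b = 0 ∧ x.c = 0}
      zero_mem' := ⟨rfl, rfl⟩
      add_mem' := fun ha hb => by simp_all
      neg_mem' := fun ha => by simp_all }
  let C : AddSubgroup (VV K) :=
    { carrier := {x | x.b = 0}
      zero_mem' := rfl
      add_mem' := fun ha hb => by simp_all
      neg_mem' := fun ha => by simp_all }
  have hAB : A ≤ B := fun x hx => ⟨hx.1, hx.2.1⟩
  have hBC : B ≤ C := fun x hx => hx.1
  have hT : T ≤ cst hAB hBC := fun u hu => by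
    obtain ⟨t, ht⟩ := (h.hT u).1 hu
    exact ⟨fun x hx => by rw [ht, uu_inL hx], fun x hx => show InL _ by simp [InL, ht, hx.1, hx.2],
      fun x (hx : x.b = 0) => show _ ∧ _ by simp [ht, hx], fun x => show _ = _ by simp [ht]⟩
  intro u hu
  have hB : ∀ g ∈ X, FixL g → ∀ x ∈ B, g x ∈ B := fun g hg hL x hx =>
    ⟨h.fix3 hg hL hx.1, h.fix2 hg hL hx.1 hx.2⟩
  have k : ∀ x, (g * u * g⁻¹) x - x = g (u (g⁻¹ x) - g⁻¹ x) := fun x => by simp
  obtain ⟨u1, u2, u3, u4⟩ := hT hu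
  refine mem_of_cst h.syl (fun v => ?_) hT (mul_mem (mul_mem hg (h.syl.le hu)) (inv_mem hg))
    ⟨fun x hx => by
      rw [LinearEquiv.mul_apply, LinearEquiv.mul_apply, u1 _ (fixL_inv hL x hx), le_inv'],
    fun x hx => k x ▸ hL _ (u2 _ (hB _ (inv_mem hg) (fixL_inv hL) x hx)),
    fun x hx => k x ▸ hB _ hg hL _ (u3 _ (h.fix3 (inv_mem hg) (fixL_inv hL) hx)),
    fun x => k x ▸ h.fix3 hg hL (u4 _)⟩
  have : ∀ n : ℕ, n • v = (⟨n, show fr _ = _ by simp⟩ : kk K) • v := fun n => by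
    induction n with
    | zero => ext <;> simp
    | succ n ih => rw [succ_nsmul, ih]; ext <;> simp [add_mul]
  rw [this]; ext <;> simp

end Cfsg.Agent.D4
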