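import Cfsg.Agent.Lib.D4.Lin1
import Cfsg.Agent.Lib.H6.Invol

/-!
# S5261: the orbit of the line `ℓ` (see notes/TD_helper2.md, section Q_a)
-/

set_option autoImplicit false
set_option linter.unusedSectionVars false
set_option linter.unusedVariables false

namespace Cfsg.Agent.D4

open Subgroup H7

variable {K : Type*} [Field K] [hK : TF K] {p : ℕ} [hp : Fact p.Prime] [CharP K p]
  {T X : Subgroup (VV K ≃ₗ[ℤ] VV K)} {g : VV K ≃ₗ[ℤ] VV K} {x y : VV K} {t : K} {l : kk K}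

theorem exists_r (h2 : (2 : K) ≠ 0) (h3 : (3 : K) ≠ 0) {c : K} (hc : fr c = c) :
    ∃ r, Tr r = 0 ∧ Tr (sh r) = c := by
  obtain ⟨η, h0, h1⟩ : ∃ η : K, Tr η = 0 ∧ Tr (sh η) ≠ 0 := by
    by_contra! h
    obtain ⟨θ, hθ⟩ := exists_ne K
    have h0 : Tr (θ - fr θ) = 0 := by simp [Tr]
    obtain ⟨η, hη⟩ : ∃ η, η = θ - fr θ := ⟨_, rfl⟩
    rw [← hη] at h0
    obtain ⟨l, hl, e⟩ := mem_line_of_perp (y := η) one_ne_zero fun t ht => by
      rw [mul_one] at ht
      have a1 := h _ h0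
      have a2 := h _ ht
      have a3 := h (η + t) (by rw [Tr_add, h0, ht, add_zero])
      simp [Tr, sh] at a1 a2 a3 h0 ht ⊢
      linear_combination a1 + a2 - a3 + (t + fr t + fr (fr t)) * h0
    rw [e, mul_one, Tr, hl, hl] at h0
    have : l = 0 := (mul_eq_zero.1 (show 3 * l = 0 by linear_combination h0)).resolve_left h3
    exact hθ (by linear_combination hη - e - this)
  obtain ⟨x, y, hx, hy, e⟩ := exists_quad h2 (a := Tr (sh η)) (b := 3 * Tr (sh η)) (by simp)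
    (by simp [map_ofNat]) hc h1 (mul_ne_zero h3 h1)
  refine ⟨x * η + y * (fr η - fr (fr η)), ?_, ?_⟩ <;> simp [Tr, sh, hx, hy] at e h0 ⊢
  · linear_combination x * h0
  · linear_combination e - y ^ 2 * (η + fr η + fr (fr η)) * h0

theorem inL_of_perp (h : ∀ y, y.b = 0 → BB x y = 0) : InL x :=
  ⟨by simpa [BB] using h ve rfl, eq_zero_of_Tr fun w => by simpa [BB] using h (vd w) rfl,
    eq_zero_of_Tr fun w => by simpa [BB] using h (vc w) rfl⟩

theorem inL_ne (h : InL x) (h0 : x ≠ 0) : x.e ≠ 0 := fun e => h0 (VV.ext h.1 h.2.1 h.2.2 e)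

theorem b_of_perp (h : InL x) (h0 : x ≠ 0) (e : BB x y = 0) : y.b = 0 := by
  simpa [BB, h.1, h.2.1, h.2.2, inL_ne h h0] using e

theorem std_mul {s m : K} {τ : Par K}
    (e : ∀ y z, BB (uu s (tv τ y)) (uu s (tv τ z)) = m * BB y z) :
    Nm (τ.a : K) * τ.b * τ.b = m ∧ ∀ μ, fr μ = μ → τ.σ μ = μ := by
  have k : ∀ μ, fr μ = μ → Nm (τ.a : K) * τ.b * τ.b * τ.σ μ = m * μ := fun μ hμ => by
    have := e vb ((⟨μ, hμ⟩ : kk K) • ve)
    rwa [BB_uu, BB_tv, show BB vb ((⟨μ, hμ⟩ : kk K) • ve) = μ by simp [BB]] at this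
  have h1 : Nm (τ.a : K) * τ.b * τ.b = m := by simpa using k 1 (map_one _)
  exact ⟨h1, fun μ hμ => mul_left_cancel₀ (by simp) ((k μ hμ).trans (h1 ▸ rfl))⟩

/-- the vectors on the lines conjugate to `ℓ` -/
def Om (X : Subgroup (VV K ≃ₗ[ℤ] VV K)) (x : VV K) : Prop := ∃ g ∈ X, InL (g x)

theorem Om.map (hx : Om X x) (hg : g ∈ X) : Om X (g x) := by
  obtain ⟨a, ha, h⟩ := hx
  exact ⟨a * g⁻¹, mul_mem ha (inv_mem hg), by rwa [LinearEquiv.mul_apply, le_inv]⟩

theorem Om.of (hx : InL x) : Om X x := ⟨1, one_mem X, hx⟩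

/-- the standard automorphisms in `X` -/
def InX (X : Subgroup (VV K ≃ₗ[ℤ] VV K)) (τ : Par K) : Prop := ∃ g ∈ X, ∀ x, g x = tv τ x

theorem InX.mul {s τ : Par K} (h1 : InX X s) (h2 : InX X τ) : InX X (s * τ) := by
  obtain ⟨a, ha, e⟩ := h1
  obtain ⟨b, hb, e'⟩ := h2
  exact ⟨a * b, mul_mem ha hb, fun x => by rw [LinearEquiv.mul_apply, e, e', tv_tv]⟩

theorem InX.inv {τ : Par K} (h : InX X τ) : InX X τ⁻¹ := by
  obtain ⟨a, ha, e⟩ := h
  exact ⟨a⁻¹, inv_mem ha, fun x => a.injective (by rw [le_inv', e, tv_tv, mul_inv_cancel, tv_one])⟩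

namespace Hyp0

variable (h : Hyp0 p T X)
include h

theorem inL_smul (hg : g ∈ X) (hx : InL (g x)) (l : kk K) : InL (g (l • x)) := by
  obtain ⟨m, hm⟩ := h.semi hg l
  exact hm x ▸ D4.inL_smul hx m

theorem om_smul (hx : Om X x) (l : kk K) : Om X (l • x) := by
  obtain ⟨a, ha, e⟩ := hx
  exact ⟨a, ha, h.inL_smul ha e l⟩

theorem om_uu (hx : Om X x) (t : K) : Om X (uu t x) := by
  obtain ⟨u, hu, e⟩ := h.exU t
  exact e x ▸ hx.map (h.syl.le hu)

theorem line (hg : g ∈ X) (hx : InL (g x)) (x0 : x ≠ 0) (hy : InL (g y)) : ∃ l : kk K, y = l • x :=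
  mem_of_perp x0 fun z hz => by
    have := b_of_perp hx (by simpa using x0) (h.perp hg hz)
    simpa only [le_inv] using h.perp (inv_mem hg) (x := g y) (y := g z)
      (by simp [BB, hy.1, hy.2.1, hy.2.2, this])

theorem fix_conj (hg : g ∈ X) (hx : InL (g x)) (x0 : x ≠ 0) {a : VV K ≃ₗ[ℤ] VV K} (ha : a ∈ X)
    (e : a x = l • x) : FixL (g * a * g⁻¹ : VV K ≃ₗ[ℤ] VV K) := fun z hz => by
  obtain ⟨m, hm⟩ := h.line hg hx x0 (y := g⁻¹ z) (by rwa [le_inv'])
  rw [LinearEquiv.mul_apply, hm]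
  exact h.inL_smul (mul_mem hg ha) (by rw [LinearEquiv.mul_apply, e]; exact h.inL_smul hg hx l) m

theorem conjT (hg : g ∈ X) (hx : InL (g x)) (x0 : x ≠ 0) (ht : t ≠ 0) (e : uu t x = l • x) :
    ∃ s, s ≠ 0 ∧ ∀ y, g (uu t y) = uu s (g y) := by
  obtain ⟨u, hu, hu'⟩ := h.exU t
  have hX := mul_mem (mul_mem hg (h.syl.le hu)) (inv_mem hg)
  obtain ⟨k, hk⟩ := h.syl.isPGroup ⟨u, hu⟩
  obtain ⟨s, hs⟩ := (h.hT _).1 (h.syl.mem_of_mem_normalizer hX (k := k) (mem_normalizer_fintype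
    (h.norm hX (h.fix_conj hg hx x0 (h.syl.le hu) ((hu' x).trans e)))) (by
      rw [conj_pow, show u ^ p ^ k = 1 from congrArg Subtype.val hk, mul_one, mul_inv_cancel]))
  have k : ∀ y, g (uu t y) = uu s (g y) := fun y => by
    rw [← hs, LinearEquiv.mul_apply, LinearEquiv.mul_apply, le_inv, hu']
  refine ⟨s, ?_, k⟩
  rintro rfl
  simpa [ht] using congrArg VV.c (g.injective ((k vb).trans (uu_zero _)))

theorem n2_odd (h2 : (2 : K) ≠ 0) (hx : Om X x) (hb : x.b = 0) (hc : x.c = 0) : InL x := by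
  refine ⟨hb, hc, by_contra fun hd => ?_⟩
  obtain ⟨g, hg, hx⟩ := hx
  obtain ⟨z, hz⟩ := exists_Tr (x := sh x.d) (by simpa using hd) (map_one _)
  obtain ⟨r, r0, h1, h3⟩ := no_inj (f := fun r => Tr (r * x.d)) (g := fun r => Tr (r * z))
    (fun a b => by rw [add_mul, Tr_add]) (fun a b => by rw [add_mul, Tr_add]) (by simp) (by simp)
  obtain ⟨s, s0, hs⟩ := h.conjT hg hx (fun e => hd (by simp [e])) r0 (l := 1)
    (by ext <;> simp [hb, hc, h1])
  obtain ⟨v, hv⟩ := exists_Tr (x := 2 * sh s) (by simp [h2, s0]) (g x).he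
  obtain ⟨y, hy⟩ := g.surjective (vc v)
  have e : x = uu r (uu r y - y) - (uu r y - y) := g.injective (by
    rw [map_sub, hs, map_sub, hs, hy]
    ext <;> simp [hx.1, hx.2.1, hx.2.2]
    rw [← hv]; simp [Tr, cr, sh, map_ofNat]; ring)
  have e1 : x.d = (2 * y.b) * sh r := by rw [e]; simp [cr, sh]; ring
  rw [e1, sh_smul (by simp [map_ofNat]), sh_sh, mul_assoc, mul_assoc,
    Tr_smul (by simp [map_ofNat]), Tr_smul (by simp), h3] at hz
  simp at hz

theorem ti (hx : Om X x) (ht : t ≠ 0) (e : uu t x = l • x) : InL x := by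
  by_cases h2 : (2 : K) = 0
  · by_cases x0 : x = 0
    · simp [x0, InL]
    obtain ⟨g, hg, hx⟩ := hx
    obtain ⟨s, s0, hs⟩ := h.conjT hg hx x0 ht e
    have k : ∀ (t : K) (y : VV K), BB y (uu t y) = y.b ^ 2 * Nm t := fun t y => by
      simp [BB, Tr, cr, sh, Nm]
      linear_combination (y.b * (t * y.d + fr t * fr y.d + fr (fr t) * fr (fr y.d)) -
        (t * fr y.c * fr (fr y.c) + fr t * fr (fr y.c) * y.c + fr (fr t) * y.c * fr y.c)) * h2
    refine inL_of_perp fun y hy => ?_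
    have := h.perp hg (x := y) (y := uu t y) (by simp [k, hy])
    rw [hs, k] at this
    simpa only [le_inv] using h.perp (inv_mem hg) (x := g x) (y := g y)
      (by simp [BB, hx.1, hx.2.1, hx.2.2, show (g y).b = 0 by simpa [s0] using this])
  · have e1 := congrArg VV.b e
    have e2 := congrArg VV.c e
    have e3 := congrArg VV.d e
    simp only [uu_b, uu_c, uu_d, smul_b, smul_c, smul_d] at e1 e2 e3
    have hb : x.b = 0 := by_contra fun hb => by
      rw [show (l : K) = 1 from mul_right_cancel₀ hb (by rw [← e1, one_mul])] at e2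
      simp [hb, ht] at e2
    refine h.n2_odd h2 hx hb (by_contra fun hc => hc (eq_zero_of_cr h2 ht ?_))
    rw [show (l : K) = 1 from mul_right_cancel₀ hc (by rw [← e2, hb]; ring)] at e3
    simpa [hb] using e3

theorem n2 (hx : Om X x) (hb : x.b = 0) (hc : x.c = 0) : InL x := by
  obtain ⟨r, r0, h1, -⟩ := no_inj (f := fun r => Tr (r * x.d)) (g := fun r => Tr (r * x.d))
    (fun a b => by rw [add_mul, Tr_add]) (fun a b => by rw [add_mul, Tr_add]) (by simp) (by simp)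
  exact h.ti hx r0 (l := 1) (by ext <;> simp [hb, hc, h1])

end Hyp0

namespace Hyp

variable (h : Hyp p T X)
include h

theorem om_qq (h2 : (2 : K) = 0) (hx : Om X x) : qq x = 0 := by
  obtain ⟨g, hg, hx⟩ := hx
  simpa only [le_inv] using h.sq h2 _ (inv_mem hg) (g x) (by simp [qq, hx.1, hx.2.1])

theorem n3_two (h2 : (2 : K) = 0) (hx : Om X x) (hb : x.b = 0) : InL x := by
  have k : ∀ y, Om X y → y.b = 0 → ¬InL y → ∀ z, InL z → Om X (y + z) := fun y hy hb h1 z hz => by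
    have hc : y.c ≠ 0 := fun e => h1 (h.n2 hy hb e)
    have n0 : Nm y.c ≠ 0 := by simpa using hc
    obtain ⟨r, hr, e⟩ := exists_sqrt h2 (l := z.e / Nm y.c) (by simp)
    have hq := h.om_qq h2 hy
    rw [eq_div_iff n0] at e
    convert h.om_uu hy (r * y.c) using 1
    ext <;> simp [hz.1, hz.2.1, hz.2.2, hb, qq, Tr, sh, cr, Nm, hr] at hq e ⊢
    · linear_combination (r * fr y.c * fr (fr y.c)) * h2
    · linear_combination -e + r * hq - r ^ 2 * (y.c * fr y.c * fr (fr y.c)) * h2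
  by_contra h1
  refine h1 (h.n2 hx hb (eq_zero_of_cr_all fun t => by_contra fun ht => ?_))
  obtain ⟨g, hg, hx'⟩ := id hx
  have x0 : x ≠ 0 := fun e => h1 (by simp [e, InL])
  have := (k _ ((h.om_uu hx t).map hg) (b_of_perp hx' (by simpa using x0) (h.perp hg (by
    simp [BB, Tr, cr, sh, Nm, hb]
    linear_combination -(t * fr x.c * fr (fr x.c) + fr t * fr (fr x.c) * x.c +
      fr (fr t) * x.c * fr x.c) * h2))) (fun e => by
    obtain ⟨l, hl⟩ := h.line hg hx' x0 e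
    exact h1 (h.ti hx (fun e => ht (by simp [e])) hl)) (-g x)
    (by simp [InL, hx'.1, hx'.2.1, hx'.2.2])).map (inv_mem hg)
  rw [← sub_eq_add_neg, ← map_sub, le_inv] at this
  simpa [hb, ht] using (h.n2 this (by simp) (by simp [hb])).2.2

theorem fixd (hg : g ∈ X) (hx : InL (g x)) (x0 : x ≠ 0) (l0 : (l : K) ≠ 0) (l1 : (l : K) ≠ 1)
    (hl : ∀ y, g (l • y) = l • g y) (hb : x.b = 0) (hd : x.d = 0) (he : (l : K) ^ 2 = 1 ∨ x.e = 0)
    {d : K} (h0 : Tr (x.c * d) = 0) : (g (vd d)).b = 0 ∧ (g (vd d)).c = 0 ∧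
      ((l : K) ^ 2 = 1 ∨ (g (vd d)).d = 0) := by
  obtain ⟨a, ha, e⟩ := h.hb l l0 (fr_kk l)
  have e1 : a x = l • x := by
    rw [e]
    ext <;> simp [hb, hd, Nm]
    · left; field_simp
    · refine he.imp_left fun he => ?_
      field_simp
      linear_combination -he
  have hX := mul_mem (mul_mem hg ha) (inv_mem hg)
  obtain ⟨s, τ, hs⟩ := h.std _ hX (h.norm hX (h.fix_conj hg hx x0 ha e1))
  have k : ∀ y, g (a y) = uu s (tv τ (g y)) := fun y => by
    rw [← hs, LinearEquiv.mul_apply, LinearEquiv.mul_apply, le_inv]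
  obtain ⟨h1, h2⟩ := std_mul (s := s) (τ := τ) (m := l) fun y z => by
    obtain ⟨y, rfl⟩ := g.surjective y
    obtain ⟨z, rfl⟩ := g.surjective z
    obtain ⟨ζ, hζ⟩ := h.form g hg
    rw [← k, ← k, ← BB_smul, ← hl, hζ, hζ, e, e, BB_tv, BB_smul]
    congr 1
    simp [Nm]
    left; field_simp
  have h3 := congrArg VV.e (k x)
  rw [e1, hl] at h3
  simp [hx.1, hx.2.1, hx.2.2, h2, inL_ne hx (by simpa using x0)] at h3
  have b1 : (τ.b : K) = 1 := mul_left_cancel₀ l0 (by rw [← h3] at h1; rw [h1, mul_one])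
  have a1 : Nm (τ.a : K) = l := by rw [h3, b1, mul_one]
  have h4 := k (vd d)
  rw [show a (vd d) = vd d by rw [e]; ext <;> simp [sh]; field_simp] at h4
  have c1 := b_of_perp hx (by simpa using x0) (h.perp hg (y := vd d) (by simp [BB, h0]))
  have c2 : (g (vd d)).c = 0 := by
    have := congrArg Nm (congrArg VV.c h4)
    simp only [uu_c, tv_c, tv_b, c1, map_zero, mul_zero, zero_mul, add_zero, b1, mul_one, Nm_mul,
      a1, ← map_Nm, h2 _ (fr_Nm _)] at this
    exact Nm_eq_zero.1 (by_contra fun n => l1 (mul_right_cancel₀ n (by rw [← this, one_mul])))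
  refine ⟨c1, c2, ?_⟩
  have := congrArg Nm (congrArg VV.d h4)
  simp only [uu_d, tv_c, tv_b, tv_d, c1, c2, map_zero, mul_zero, zero_mul, add_zero, b1, mul_one,
    Nm_mul, ← map_Nm, h2 _ (fr_Nm _), cr_zero,
    show Nm (sh (τ.a : K)) = l ^ 2 by rw [← a1]; simp [Nm, sh]; ring] at this
  exact or_iff_not_imp_left.2 fun n1 =>
    Nm_eq_zero.1 (by_contra fun n => n1 (mul_right_cancel₀ n (by rw [← this, one_mul])))

theorem n3 (hx : Om X x) (hb : x.b = 0) : InL x := by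
  by_cases h2 : (2 : K) = 0
  · exact h.n3_two h2 hx hb
  refine h.n2 hx hb (by_contra fun hc => ?_)
  obtain ⟨t, ht⟩ := cr_surj h2 hc (-x.d)
  obtain ⟨z, hz, b0, c0, d0⟩ : ∃ z, Om X z ∧ z.b = 0 ∧ z.c ≠ 0 ∧ z.d = 0 :=
    ⟨_, h.om_uu hx t, hb, by simpa [hb] using hc, by simp [hb, cr_comm t, ht]⟩
  obtain ⟨g, hg, hz'⟩ := id hz
  have z0 : z ≠ 0 := fun e => c0 (by simp [e])
  have n0 : Nm z.c ≠ 0 := by simpa using c0
  by_cases h3 : (3 : K) = 0 ∨ z.e ≠ 0
  · obtain ⟨r, r0, h4, h5⟩ : ∃ r, r ≠ 0 ∧ Tr r = 0 ∧ Tr (sh r) = 3 * z.e / (2 ^ 2 * Nm z.c) := by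
      by_cases h3' : (3 : K) = 0
      · exact ⟨1, one_ne_zero, by simp [Tr]; linear_combination h3',
          by simp [Tr, h3']; linear_combination h3'⟩
      · obtain ⟨r, h4, h5⟩ := exists_r h2 h3' (c := 3 * z.e / (2 ^ 2 * Nm z.c)) (by simp [map_ofNat])
        exact ⟨r, fun e => div_ne_zero (mul_ne_zero h3' (h3.resolve_left h3'))
          (mul_ne_zero (pow_ne_zero 2 h2) n0) (by rw [← h5, e]; simp), h4, h5⟩
    obtain ⟨a, ha, e⟩ := h.hb 2 h2 (map_ofNat _ 2)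
    have h6 := (h.om_uu (h.om_smul (hz.map ha) ⟨2⁻¹, show fr _ = _ by simp [map_ofNat]⟩)
      (z.c * r)).map hg
    rw [eq_div_iff (by simp [h2, n0])] at h5
    rw [show uu _ _ = z + vd (cr (z.c * r) z.c) by
      rw [e]
      ext <;> simp [b0, d0, Tr, sh, cr, Nm, map_ofNat] at h5 ⊢ <;> field_simp
      linear_combination h5] at h6
    obtain ⟨h7, h8, -⟩ := h.fixd hg hz' z0 (l := -1) (by simp) (fun e => h2 (by
      simp at e; linear_combination -e)) (fun y => by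
        rw [show ∀ y : VV K, (-1 : kk K) • y = -y from fun y => by ext <;> simp, map_neg]
        ext <;> simp) b0 d0 (.inl (by simp)) (d := cr (z.c * r) z.c) (by
      simp [Tr, cr] at h4 ⊢
      linear_combination 2 * z.c * fr z.c * fr (fr z.c) * h4)
    obtain ⟨l, hl⟩ := h.line hg hz' z0 (h.n2 h6 (by simp [hz'.1, h7]) (by simp [hz'.2.1, h8]))
    have := congrArg VV.d hl
    simp only [VV.add_d, d0, smul_d, vd_d, zero_add, mul_zero] at this
    exact c0 (eq_zero_of_cr h2 (mul_ne_zero c0 r0) this)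
  · rw [not_or, not_not] at h3
    obtain ⟨d, hd, h4, -⟩ := no_inj (f := fun r => Tr (z.c * r)) (g := fun r => Tr (z.c * r))
      (fun a b => by rw [mul_add, Tr_add]) (fun a b => by rw [mul_add, Tr_add]) (by simp) (by simp)
    obtain ⟨h5, h6, h7⟩ := h.fixd hg hz' z0 (l := ⟨2, map_ofNat (fr : K ≃+* K) 2⟩) h2
      (fun e => one_ne_zero (α := K) (by simp at e; linear_combination e)) (fun y => by
        rw [show ∀ y : VV K, (⟨2, map_ofNat (fr : K ≃+* K) 2⟩ : kk K) • y = y + y from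
          fun y => by ext <;> simp [two_mul], map_add]
        ext <;> simp [two_mul]) b0 d0 (.inr h3.2) h4
    obtain ⟨l, hl⟩ := h.line hg hz' z0 ⟨h5, h6, h7.resolve_left fun e => h3.1 (by
      simp only at e; linear_combination e)⟩
    exact hd (by simpa [d0] using congrArg VV.d hl)

theorem n3' (hx : Om X x) (x0 : x ≠ 0) (hy : Om X y) (e : BB x y = 0) : ∃ l : kk K, y = l • x := by
  obtain ⟨g, hg, hx⟩ := hx
  exact h.line hg hx x0 (h.n3 (hy.map hg) (b_of_perp hx (by simpa using x0) (h.perp hg e)))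

theorem ex_move : ∃ g ∈ X, ¬InL (g ve) := by
  by_contra! h1
  exact h.ex fun g hg => h.norm hg fun x hx => eq_ve hx ▸ h.inL_smul hg (h1 g hg) _

theorem std' (hg : g ∈ X) (hL : FixL g) : ∃ s τ, InX X τ ∧ ∀ x, g x = uu s (tv τ x) := by
  obtain ⟨s, τ, e⟩ := h.std g hg (h.norm hg hL)
  obtain ⟨u, hu, hu'⟩ := h.exU (-s)
  exact ⟨s, τ, ⟨u * g, mul_mem (h.syl.le hu) hg, fun x => by
    rw [LinearEquiv.mul_apply, hu', e, uu_uu, neg_add_cancel, uu_zero]⟩, e⟩

theorem exists_par (h2 : (2 : K) = 0) (ht : t ≠ 0) : ∃ τ : Par K, τ.a = t ∧ InX X τ := by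
  obtain rfl : p = 2 := (Nat.prime_dvd_prime_iff_eq hp.out Nat.prime_two).1
    ((CharP.cast_eq_zero_iff K p 2).1 h2)
  obtain ⟨g, hg, h0⟩ := h.ex_move
  obtain ⟨u, hu, hu'⟩ := h.exU t
  obtain ⟨w, hw, hw'⟩ := h.exU 1
  have k : ∀ (a : VV K ≃ₗ[ℤ] VV K) s, (∀ x, a x = uu s x) → a * a = 1 := fun a s e =>
    LinearEquiv.ext fun x => by
      rw [LinearEquiv.mul_apply, e, e, uu_uu, ← two_mul, h2, zero_mul, uu_zero]; rfl
  have j2 : (g * w * g⁻¹) * (g * w * g⁻¹) = 1 := by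
    rw [conj_mul, k w 1 hw', mul_one, mul_inv_cancel]
  have hX := mul_mem (h.syl.le hu) (mul_mem (mul_mem hg (h.syl.le hw)) (inv_mem hg))
  have one : ∀ x : VV K, x = (1 : kk K) • x := fun x => by ext <;> simp
  rcases Nat.even_or_odd (orderOf (u * (g * w * g⁻¹))) with e | e
  · obtain ⟨m, -, o, c1, c2⟩ := H6.exists_central_involution (k u t hu') j2 e
    have hz := pow_mem hX m
    generalize (u * (g * w * g⁻¹)) ^ m = z at o c1 c2 hz
    obtain ⟨r, hr⟩ := (h.hT z).1 (h.syl.mem_of_mem_normalizer hz (k := 1) (mem_normalizer_fintype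
      (h.norm hz fun x hx => h.ti ((Om.of hx).map hz) ht (by
        rw [← one, ← hu', ← LinearEquiv.mul_apply, ← c1.eq, LinearEquiv.mul_apply, hu',
          uu_inL hx]))) (by rw [pow_one, ← o, pow_orderOf_eq_one]))
    have r0 : r ≠ 0 := by
      rintro rfl
      rw [show z = 1 from LinearEquiv.ext fun x => (hr x).trans (uu_zero x), orderOf_one] at o
      omega
    have h1 : InL (g⁻¹ (z (g ve))) := h.ti ((((Om.of inL_ve).map hg).map hz).map (inv_mem hg))
      one_ne_zero (g.injective (by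
        rw [← one, ← hw', le_inv']
        refine (DFunLike.congr_fun c2.eq (g ve)).symm.trans ?_
        simp only [LinearEquiv.mul_apply, le_inv, hw', uu_inL inL_ve]))
    obtain ⟨l, hl⟩ := h.line (inv_mem hg) (x := g ve) (by rw [le_inv]; exact inL_ve)
      (fun e => h0 (by simp [e, InL])) h1
    exact absurd (h.ti ((Om.of inL_ve).map hg) r0 (hr _ ▸ hl)) h0
  · obtain ⟨m, hm⟩ := H6.exists_pow_conj_of_odd (k u t hu') j2 e
    have hz := mul_mem (pow_mem hX m) hg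
    have e1 : ∀ x, ((u * (g * w * g⁻¹)) ^ m * g) (uu 1 x) =
        uu t (((u * (g * w * g⁻¹)) ^ m * g) x) := fun x => by
      generalize (u * (g * w * g⁻¹)) ^ m = z at hm
      rw [← hu', ← hm, ← hw']
      simp only [LinearEquiv.mul_apply, le_inv]
    obtain ⟨s, τ, h1, h3⟩ := h.std' hz fun x hx => h.ti ((Om.of hx).map hz) ht
      (by rw [← one, ← e1, uu_inL hx])
    have := congrArg VV.c (e1 vb)
    simp only [h3, tv_uu, uu_uu] at this
    exact ⟨τ, by simpa [add_comm t] using this, h1⟩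

theorem exists_tor (hq : ∀ l : K, fr l = l → l = 0 ∨ l = 1) :
    ∃ (a : K) (ha : a ≠ 0), fr a ≠ a ∧ InX X (dpar a 1 ha one_ne_zero (map_one _)) := by
  have h2 : (2 : K) = 0 := (hq (-1) (by simp)).elim (by simp) fun e => by linear_combination -e
  choose τ h1 h3 using fun t : Kˣ => h.exists_par h2 t.ne_zero
  have : ∀ t, ∃ i : Fin 3, ∀ y, (τ t).σ y = (fr : K → K)^[i] y := fun t => by
    rcases gal (ρ := (τ t).σ) fun l hl => (hq l hl).elim (by rintro rfl; simp) (by rintro rfl; simp)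
      with e | e | e
    exacts [⟨0, e⟩, ⟨1, e⟩, ⟨2, e⟩]
  choose i hi using this
  obtain ⟨q, hq2, hc, -⟩ := exists_q (K := K)
  obtain ⟨s, t, hne, e⟩ : ∃ s t, s ≠ t ∧ i s = i t := by
    by_contra! hi
    have := Nat.card_le_card_of_injective i fun s t e => by_contra fun n => hi s t n e
    rw [Nat.card_units, hc] at this
    have := Nat.pow_le_pow_left hq2 3
    simp at *
    omega
  have hσ : ∀ y, (τ s).σ ((τ t).σ.symm y) = y := fun y => by
    rw [hi, e, ← hi, RingEquiv.apply_symm_apply]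
  refine ⟨s / t, by simp, fun e => (hq _ e).elim (by simp) fun e => hne
    (Units.ext (by rwa [div_eq_one_iff_eq t.ne_zero] at e)), ?_⟩
  convert (h3 s).mul (h3 t).inv using 1
  ext
  · simp [h1, hσ, div_eq_mul_inv]
  · exact ((hq _ (τ s * (τ t)⁻¹).hb).resolve_left (Units.ne_zero _)).symm
  · exact (hσ _).symm

theorem om_form (hx : Om X x) (h1 : ¬InL x) : ∃ t, ∃ l : kk K, uu t x = l • vb := by
  have hb : x.b ≠ 0 := fun e => h1 (h.n3 hx e)
  have k : ∀ x y, Om X x → Om X y → x.b = 1 → x.c = 0 → y.b = 1 → y.c = 0 → ∀ t, t ≠ 0 →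
      Nm t + Tr ((x.d + y.d) * t) + (y.e - x.e) ≠ 0 := fun x y hx hy a1 a2 a3 a4 t ht e => by
    obtain ⟨l, hl⟩ := h.n3' hx (fun e => by simp [e] at a1) (h.om_uu hy t) (by
      simp [BB, a1, a2, a3, a4, Tr] at e ⊢
      linear_combination e)
    simpa [a2, a3, a4, ht] using congrArg VV.c hl
  obtain ⟨z, hz, z1, z2, e⟩ : ∃ z, Om X z ∧ z.b = 1 ∧ z.c = 0 ∧
      uu (-x.c / x.b) x = (⟨x.b, x.hb⟩ : kk K) • z :=
    ⟨_, h.om_smul (h.om_uu hx (-x.c / x.b)) ⟨x.b⁻¹, show fr _ = _ by simp⟩, by simp [hb],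
      by simp; right; field_simp; ring, by ext <;> simp [hb]⟩
  refine ⟨_, _, e.trans (congrArg _ ?_)⟩
  by_cases h2 : (2 : K) = 0
  · have z3 : ∀ z, Om X z → z.b = 1 → z.c = 0 → z.e = 0 := fun z hz z1 z2 => by
      simpa [qq, z1, z2] using h.om_qq h2 hz
    obtain ⟨a, b, ha, hb, hb', h3, g, hg, e⟩ : ∃ a b ha hb hb', sh a ≠ 1 ∧
        InX X (dpar a b ha hb hb') := by
      by_cases hq : ∀ l : K, fr l = l → l = 0 ∨ l = 1
      · obtain ⟨a, ha, h3, h4⟩ := h.exists_tor hq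
        exact ⟨a, 1, ha, _, _, fun e => h3 (by
          rw [show a = Nm a by rw [← mul_sh, e, mul_one], fr_Nm]), h4⟩
      · push Not at hq
        obtain ⟨l, hl, l0, l1⟩ := hq
        refine ⟨_, _, _, _, _, fun e => l1 ?_, h.hb l l0 hl⟩
        simp only [sh, map_inv₀, hl] at e
        field_simp at e
        exact sub_eq_zero.1 (pow_eq_zero_iff two_ne_zero |>.1
          (by linear_combination -e + (1 - l) * h2))
    have h4 := h.om_smul (hz.map hg) ⟨b⁻¹, show fr _ = _ by simp [hb']⟩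
    have h5 := eq_zero_of_NT fun t ht => by
      simpa only [z3 z hz z1 z2, z3 _ h4 (by simp [e, z1, hb]) (by simp [e, z2]), sub_self,
        add_zero] using k _ _ hz h4 z1 z2 (by simp [e, z1, hb]) (by simp [e, z2]) t ht
    simp only [e, smul_d, tv_d, dpar_a, dpar_b, dpar_σ, Units.val_mk0, RingAut.one_apply] at h5
    field_simp at h5
    ext <;> simp [z1, z2, z3 z hz z1 z2]
    exact (mul_eq_zero.1 (show z.d * (sh a - 1) = 0 by
      linear_combination h5 - z.d * h2)).resolve_right (sub_ne_zero.2 h3)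
  · have z3 : z.d = 0 := (mul_eq_zero.1 ((two_mul _).trans (eq_zero_of_NT fun t ht => by
      simpa only [sub_self, add_zero] using k _ _ hz hz z1 z2 z1 z2 t ht))).resolve_left h2
    obtain ⟨a, ha, e⟩ := h.hb (-1) (by simp) (by simp)
    obtain ⟨t, ht⟩ := exists_Nm (l := 2 * z.e) (by simp [map_ofNat])
    ext <;> simp [z1, z2, z3]
    by_contra z4
    refine k _ _ hz (hz.map ha) z1 z2 (by simp [e, z1]) (by simp [e, z2]) t
      (by rintro rfl; simp [h2, z4] at ht) ?_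
    rw [ht]
    simp [e, z3, Nm]
    ring

end Hyp

end Cfsg.Agent.D4
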