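import Cfsg.Agent.Lib.D4.Lin1
import Cfsg.Agent.Lib.U5.QB

/-!
# S5261: commutators and invariant subgroups (see notes/TD_helper2.md)
-/

set_option autoImplicit false
set_option linter.unusedSectionVars false
set_option linter.unusedVariables false

namespace Cfsg.Agent.D4

open Subgroup Cfsg Cfsg.FusionSystem US
open U5 (Inv Loc SE invS mem_invS ef_mul ef_inv ef_one ef_ce ef_cm ef_inj ef_eq_one ef_comm ef_conj
  cm_eq_one mem_norm_of_cm ch3 ch3_mono)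

variable {K : Type*} [Field K] [hK : TF K] {R : Subgroup (US K)} {γ : MulAut R} {x y : US K}

/-- `h_β(l)` -/
abbrev hpar (l : K) (h0 : l ≠ 0) (h : fr l = l) : Par K :=
  dpar l⁻¹ (l ^ 2) (inv_ne_zero h0) (pow_ne_zero 2 h0) (by simp [h])

/-- `h_α(ν)` -/
abbrev kpar (ν : K) (h0 : ν ≠ 0) : Par K :=
  dpar (ν ^ 2) (Nm ν)⁻¹ (pow_ne_zero 2 h0) (by simpa using h0) (by simp)

theorem cm_d' (x y : US K) : (cm x y).d = cr y.a x.c - cr x.a y.c + y.b * sh x.a +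
    x.b * (sh y.a - cr x.a y.a) := by
  simp [sh, cr]; ring

theorem cm_d1 (hx : x ∈ Z4 K) : (cm x y).d = cr y.a x.c := by rw [cm_d']; simp [hx.1, hx.2]

theorem cm_d2 (hy : y ∈ Z4 K) : (cm x y).d = -cr x.a y.c := by rw [cm_d']; simp [hy.1, hy.2]

theorem cm_db (hx : x ∈ Qb K) (hy : y ∈ Qb K) : (cm x y).d = cr y.a x.c - cr x.a y.c := by
  rw [cm_d']; simp [mem_Qb.1 hx, mem_Qb.1 hy]

theorem cm_e1 (hx : x ∈ Z4 K) : (cm x y).e = Tr (sh y.a * x.c) + Tr (y.a * x.d) := by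
  simp [hx.1, hx.2, Tr, Nm, sh, cr]; ring

theorem cm_e2 (hy : y ∈ Z4 K) : (cm x y).e = Tr (sh x.a * y.c) - Tr (x.a * y.d) := by
  simp [hy.1, hy.2, Tr, Nm, sh, cr]; ring

theorem cm_f2 (hy : y ∈ Z4 K) :
    (cm x y).f = Tr (x.a * sh y.c) - x.b * y.e + Tr (x.c * y.d) - Tr (x.d * y.c) := by
  simp [hy.1, hy.2, Tr, Nm, sh, cr]; ring

theorem cm_e3 (hx : x ∈ Z3 K) : (cm x y).e = Tr (y.a * x.d) := by
  rw [cm_e1 (Z3_le_Z4 hx)]; simp [hx.2.2]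

theorem cm_f3 (hx : x ∈ Z3 K) :
    (cm x y).f = y.b * Tr (y.a * x.d) - Tr (y.c * x.d) + y.b * x.e := by
  simp [hx.1, hx.2.1, hx.2.2, Tr, Nm, sh, cr]; ring

theorem cm_e4 (hy : y ∈ Z3 K) : (cm x y).e = -Tr (x.a * y.d) := by
  rw [cm_e2 (Z3_le_Z4 hy)]; simp [hy.2.2]

theorem cm_f4 (hy : y ∈ Z3 K) : (cm x y).f = Tr (x.c * y.d) - x.b * y.e := by
  rw [cm_f2 (Z3_le_Z4 hy)]; simp [hy.2.2]; ring

theorem comm_iff_cm {W : Type*} [Group W] {x y : W} : x * y = y * x ↔ cm x y = 1 := by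
  rw [cm, inv_mul_eq_one, eq_mul_inv_iff_mul_eq]

theorem cm_mem' {W : Type*} [Group W] {R : Subgroup W} {x y : W} (hx : x ∈ R) (hy : y ∈ R) :
    cm x y ∈ R := mul_mem (inv_mem hx) (mul_mem (mul_mem hy hx) (inv_mem hy))

theorem eq_one_of_Z1 (h : x ∈ Z1 K) (hf : x.f = 0) : x = 1 :=
  US.ext h.1 h.2.1 h.2.2.1 h.2.2.2.1 h.2.2.2.2 hf

theorem ext_Z1 (hx : x ∈ Z1 K) (hy : y ∈ Z1 K) (h : x.f = y.f) : x = y :=
  US.ext (hx.1.trans hy.1.symm) (hx.2.1.trans hy.2.1.symm) (hx.2.2.1.trans hy.2.2.1.symm)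
    (hx.2.2.2.1.trans hy.2.2.2.1.symm) (hx.2.2.2.2.trans hy.2.2.2.2.symm) h

theorem mem_Z1_of (h : x ∈ Z2 K) (he : x.e = 0) : x ∈ Z1 K := ⟨h.1, h.2.1, h.2.2.1, h.2.2.2, he⟩
theorem mem_Z2_of (h : x ∈ Z3 K) (he : x.d = 0) : x ∈ Z2 K := ⟨h.1, h.2.1, h.2.2, he⟩
theorem mem_Z3_of (h : x ∈ Z4 K) (he : x.c = 0) : x ∈ Z3 K := ⟨h.1, h.2, he⟩

theorem inv_mul_Z1 (hx : x ∈ Z2 K) (hy : y ∈ Z2 K) (h : x.e = y.e) : x⁻¹ * y ∈ Z1 K :=
  mem_Z1_of (mul_mem (inv_mem hx) hy) (by simp [hx.1, h])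

theorem inv_mul_Z2 (hx : x ∈ Z3 K) (hy : y ∈ Z3 K) (h : x.d = y.d) : x⁻¹ * y ∈ Z2 K :=
  mem_Z2_of (mul_mem (inv_mem hx) hy) (by simp [hx.1, h])

theorem inv_mul_Z3 (hx : x ∈ Z4 K) (hy : y ∈ Z4 K) (h : x.c = y.c) : x⁻¹ * y ∈ Z3 K :=
  mem_Z3_of (mul_mem (inv_mem hx) hy) (by simp [hx.1, h])

theorem mem_Qb_of_comm (h : ∀ z ∈ Z2 K, x * z = z * x) : x ∈ Qb K := by
  have := congrArg US.f (comm_iff_cm.1 (h _ (xe_mem 1 fr_one)))
  rw [cm_f4 (Z2_le_Z3 (xe_mem 1 fr_one))] at this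
  simpa [mem_Qb] using this

theorem mem_Qa_of_cm (h : ∀ z ∈ Z3 K, cm x z ∈ Z1 K) : x ∈ Qa K :=
  eq_zero_of_Tr fun d => by
    have := (h _ (xd_mem d)).2.2.2.2
    rw [cm_e4 (xd_mem d)] at this
    simpa using this

theorem mem_Z3_of_comm (hx : x ∈ Z4 K) (h : ∀ z ∈ Z3 K, x * z = z * x) : x ∈ Z3 K :=
  mem_Z3_of hx (eq_zero_of_Tr fun d => by
    have := congrArg US.f (comm_iff_cm.1 (h _ (xd_mem d)))
    rw [cm_f4 (xd_mem d)] at this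
    simpa using this)

theorem mem_Z2_of_comm (h : ∀ z ∈ Z4 K, x * z = z * x) : x ∈ Z2 K := by
  have h1 := mem_Qa_of_cm (x := x) fun z hz => by
    rw [comm_iff_cm.1 (h z (Z3_le_Z4 hz))]; exact one_mem _
  have h2 : x ∈ Z4 K := ⟨h1, mem_Qb_of_comm fun z hz => h z (Z3_le_Z4 (Z2_le_Z3 hz))⟩
  have h3 := mem_Z3_of_comm h2 fun z hz => h z (Z3_le_Z4 hz)
  refine mem_Z2_of h3 (eq_zero_of_Tr fun c => ?_)
  have := congrArg US.f (comm_iff_cm.1 (h _ (xc_mem c)))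
  rw [cm_f3 h3] at this
  simpa [mul_comm] using this

theorem mem_Z1_of_comm (h : ∀ z ∈ Qa K, x * z = z * x) : x ∈ Z1 K := by
  have h2 := mem_Z2_of_comm fun z hz => h z (Z4_le_Qa hz)
  have := congrArg US.f (comm_iff_cm.1 (h _ (xb_mem 1 fr_one)))
  rw [cm_f3 (Z2_le_Z3 h2)] at this
  exact mem_Z1_of h2 (by simpa using this)

theorem inv_Z1 (hR : Qa K ≤ R) (γ : MulAut R) : Inv γ (Z1 K) := fun x hx hZ =>
  mem_Z1_of_comm fun z hz => ef_comm γ hx (hR hz) (comm_Z1 hZ _)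

theorem inv_Qb (hR : Z2 K ≤ R) (h : Inv γ (Z2 K)) : Inv γ (Qb K) := fun x hx hQ =>
  mem_Qb_of_comm fun z hz => ef_comm γ hx (hR hz) (comm_Z2 (h.inv z (hR hz) hz) hQ).symm

theorem inv_Z2_of_Z4 (hR : Z4 K ≤ R) (h : Inv γ (Z4 K)) : Inv γ (Z2 K) := fun x hx hZ =>
  mem_Z2_of_comm fun z hz => ef_comm γ hx (hR hz) (comm_Z2 hZ (h.inv z (hR hz) hz).2)

theorem inv_Qa (hR : Z3 K ≤ R) (h1 : Inv γ (Z1 K)) {Y : Subgroup (US K)} (h : Inv γ Y)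
    (h3 : Z3 K ≤ Y) (h4 : Y ≤ Qa K) : Inv γ (Qa K) := fun x hx hQ =>
  mem_Qa_of_cm fun z hz => h1.cm hx (hR hz) (cm_Z1 (.inr (.inr ⟨hQ, h4 (h.inv z (hR hz) (h3 hz))⟩)))

theorem Inv.inf {W : Type*} [Group W] {R C D : Subgroup W} {γ : MulAut R} (h1 : Inv γ C)
    (h2 : Inv γ D) : Inv γ (C ⊓ D) := fun x hx h => ⟨h1 x hx h.1, h2 x hx h.2⟩

/-- the elements of `R ⊓ C` centralizing `R ⊓ D` modulo the normal subgroup `Z` -/
def cmod {W : Type*} [Group W] (C D Z : Subgroup W) [hZ : Z.Normal] : Subgroup W where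
  carrier := {x | x ∈ C ∧ ∀ y ∈ D, cm x y ∈ Z}
  one_mem' := ⟨one_mem _, fun y _ => by simp [cm]⟩
  mul_mem' := fun {a b} ha hb => ⟨mul_mem ha.1 hb.1, fun y hy => by
    have := mul_mem (hZ.conj_mem _ (ha.2 y hy) b⁻¹) (hb.2 y hy)
    convert this using 1
    simp only [cm]; group⟩
  inv_mem' := fun {a} ha => ⟨inv_mem ha.1, fun y hy => by
    have := inv_mem (hZ.conj_mem _ (ha.2 y hy) a)
    convert this using 1
    simp only [cm]; group⟩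

theorem inv_cmod {W : Type*} [Group W] [Finite W] {R C D Z : Subgroup W} [Z.Normal] {γ : MulAut R}
    (hD : D ≤ R) (h1 : Inv γ C) (h2 : Inv γ D) (h3 : Inv γ Z) : Inv γ (cmod C D Z) :=
  fun x hx h => ⟨h1 x hx h.1, fun y hy => h3.cm hx (hD hy) (h.2 _ (h2.inv y (hD hy) hy))⟩

theorem sq_c (h2 : (2 : K) = 0) (x : US K) : (x * x).c = x.b * x.a := by
  simp only [mul_c]; linear_combination x.c * h2

theorem sq_d (h2 : (2 : K) = 0) (x : US K) : (x * x).d = cr x.a x.c + x.b * sh x.a := by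
  simp only [mul_d]; linear_combination x.d * h2

theorem sq_Z4 (h2 : (2 : K) = 0) (x : US K) : x * x ∈ Z4 K :=
  ⟨by simp only [mul_a]; linear_combination x.a * h2, by simp only [mul_b]; linear_combination x.b * h2⟩

theorem four_Z1 (h2 : (2 : K) = 0) (x : US K) : x * x * (x * x) ∈ Z1 K := by
  have h := sq_Z4 h2 x
  generalize x * x = y at h
  have h' := sq_Z4 h2 y
  refine ⟨h'.1, h'.2, by simp [sq_c h2, h.1], by simp [sq_d h2, h.1], ?_⟩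
  simp only [mul_e, h.1, zero_mul, sh_zero, Tr_zero, Nm_zero]
  linear_combination y.e * h2

theorem four_f (h2 : (2 : K) = 0) (x : US K) : (x * x * (x * x)).f = x.b ^ 2 * Nm x.a := by
  rw [sq_f_Qa (sq_Z4 h2 x).1, qq, pv_b, pv_c, pv_d, (sq_Z4 h2 x).2, sq_c h2, sq_d h2, h2]
  simp only [Tr, sh, cr, Nm, map_mul, map_add, fr3, US.hb]
  linear_combination (-x.b * (x.a * fr x.a * fr (fr x.c) + x.a * fr (fr x.a) * fr x.c +
    fr x.a * fr (fr x.a) * x.c) - 2 * x.b ^ 2 * x.a * fr x.a * fr (fr x.a)) * h2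

theorem four_eq_one (h2 : (2 : K) = 0) : x * x * (x * x) = 1 ↔ x.a = 0 ∨ x.b = 0 :=
  ⟨fun h => by simpa [four_f h2, or_comm] using congrArg US.f h, fun h =>
    eq_one_of_Z1 (four_Z1 h2 x) (by rcases h with h | h <;> simp only [four_f h2, h] <;> simp)⟩

variable {p : ℕ} [hp : Fact p.Prime] {M A : Subgroup (MulAut R)}

theorem Z1_le (h : Loc p R M A) : Z1 K ≤ R := fun x hx => h.cent x fun r _ => (comm_Z1 hx r).symm

variable (K) in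
/-- the upper central series -/
def chZ : ℕ → Subgroup (US K)
  | 0 => ⊥
  | 1 => Z1 K
  | 2 => Z2 K
  | 3 => Z3 K
  | 4 => Z4 K
  | _ + 5 => ⊤

theorem chZ_mono : Monotone (chZ K) := monotone_nat_of_le_succ fun n =>
  match n with
  | 0 => bot_le
  | 1 => Z1_le_Z2
  | 2 => Z2_le_Z3
  | 3 => Z3_le_Z4
  | 4 => le_top
  | _ + 5 => le_rfl

theorem chZ_cm (t : US K) (i : ℕ) (x : US K) (hx : x ∈ chZ K (i + 1)) : cm x t ∈ chZ K i :=
  match i, hx with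
  | 0, hx => cm_eq_one (comm_Z1 hx t)
  | 1, hx => cm_Z1 (.inl hx)
  | 2, hx => cm_Z2 (.inl hx)
  | 3, hx => cm_Z3 (.inl hx)
  | 4, _ => cm_Z4 x t
  | _ + 5, _ => trivial

theorem isIso_tauF {F : FusionSystem (⊤ : Subgroup (US K))} {f : US K → US K} (hf : F.IsIso ⊤ ⊤ f)
    {s : US K} {t : Par K} (e : ∀ x, f x = s * tauF t x * s⁻¹) : F.IsIso ⊤ ⊤ (tauF t) :=
  (((F.isMor_conj le_rfl (mem_top s⁻¹)).comp' hf.mor
    fun _ _ => trivial).congr fun x _ => by rw [e]; group).isIso_top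

theorem exists_res {F : FusionSystem (⊤ : Subgroup (US K))} {f : US K → US K} (hf : F.IsIso ⊤ ⊤ f)
    (hm : ∀ x ∈ R, f x ∈ R) : ∃ k ∈ F.autGroup R, ∀ x ∈ R, equivFun k x = f x :=
  ((hf.mor.mono le_top).isIso_self hm).exists_aut

end Cfsg.Agent.D4
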