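import Cfsg.Agent.Lib.D4.Defs
import Cfsg.Agent.Lib.LT.Mod2

/-!
# S5261: the model `³D₄(q) ⋊ H` (see notes/TD_helper2.md, section Model)
-/

set_option autoImplicit false
set_option linter.unusedSectionVars false
set_option linter.unusedVariables false

namespace Cfsg.Agent.D4

open Subgroup Cfsg.Lie Cfsg.Agent.LT Cfsg.Agent.LT.Mat

universe u

namespace Md

def sw : List (ℕ × MP) :=
    [(23, [(true, [11])]), (22, [(true, [10])]), (17, [(false, [7])]), (20, [(true, [8])]), (21,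
    [(true, [9])]), (19, [(true, [4])]), (16, [(false, [5])]), (15, [(false, [6])]), (14, [(false,
    [3])]), (18, [(false, [0])]), (13, [(false, [1])]), (12, [(false, [2])])]

def sw' : List (ℕ × MP) :=
    [(23, [(true, [23])]), (22, [(true, [22])]), (17, [(false, [19])]), (20, [(true, [20])]), (21,
    [(true, [21])]), (19, [(true, [16])]), (16, [(false, [17])]), (15, [(false, [18])]), (14,
    [(false, [15])]), (18, [(false, [12])]), (13, [(false, [13])]), (12, [(false, [14])])]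

def swm : List (ℕ × MP) :=
    [(23, [(true, [11]), (true, [23]), (true, [3, 22]), (false, [4, 19]), (false, [5, 20]),
    (false, [6, 21]), (true, [0, 3, 19]), (false, [0, 5, 18]), (false, [0, 6, 17]), (false, [0,
    17, 18]), (true, [1, 3, 20]), (false, [1, 4, 18]), (false, [1, 6, 16]), (false, [1, 16, 18]),
    (true, [2, 3, 21]), (false, [2, 4, 17]), (false, [2, 5, 16]), (false, [2, 16, 17]), (true, [0,
    1, 3, 18]), (false, [0, 1, 6, 15]), (false, [0, 1, 15, 18]), (true, [0, 2, 3, 17]), (false,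
    [0, 2, 5, 15]), (false, [0, 2, 15, 17]), (true, [1, 2, 3, 16]), (false, [1, 2, 4, 15]),
    (false, [1, 2, 15, 16]), (true, [0, 1, 2, 3, 15]), (false, [0, 1, 2, 15, 15])]), (22, [(true,
    [10]), (true, [22]), (true, [0, 19]), (true, [1, 20]), (true, [2, 21]), (true, [0, 1, 18]),
    (true, [0, 2, 17]), (true, [1, 2, 16]), (true, [0, 1, 2, 15])]), (17, [(false, [7]), (false,
    [19]), (false, [1, 18]), (false, [2, 17]), (false, [1, 2, 15])]), (20, [(true, [8]), (true,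
    [20]), (true, [0, 18]), (true, [2, 16]), (true, [0, 2, 15])]), (21, [(true, [9]), (true,
    [21]), (true, [0, 17]), (true, [1, 16]), (true, [0, 1, 15])]), (19, [(true, [4]), (true,
    [16]), (true, [0, 15])]), (16, [(false, [5]), (false, [17]), (false, [1, 15])]), (15, [(false,
    [6]), (false, [18]), (false, [2, 15])]), (14, [(false, [3]), (false, [15])]), (18, [(false,
    [0]), (false, [12])]), (13, [(false, [1]), (false, [13])]), (12, [(false, [2]), (false,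
    [14])])]

def swa : List (ℕ × MP) :=
    [(23, [(true, [11])]), (22, [(true, [10])]), (17, [(false, [7])]), (20, [(true, [8])]), (21,
    [(true, [9])]), (19, [(true, [4])]), (16, [(false, [5])]), (15, [(false, [6])]), (14, [(false,
    [3])])]

def swna : List (ℕ × MP) :=
    [(23, [(true, [11]), (false, [3, 10]), (true, [4, 7]), (true, [5, 8]), (true, [6, 9])]), (22,
    [(false, [3])]), (17, [(false, [4])]), (20, [(true, [5])]), (21, [(true, [6])]), (19, [(false,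
    [7])]), (16, [(true, [8])]), (15, [(true, [9])]), (14, [(false, [10])])]

def swb : List (ℕ × MP) :=
    [(23, [(true, [11])]), (22, [(true, [10])]), (17, [(false, [7])]), (20, [(true, [8])]), (21,
    [(true, [9])]), (19, [(true, [4])]), (16, [(false, [5])]), (15, [(false, [6])]), (18, [(false,
    [0])]), (13, [(false, [1])]), (12, [(false, [2])])]

def swnb : List (ℕ × MP) :=
    [(23, [(true, [10]), (false, [0, 1, 6]), (false, [0, 2, 5]), (false, [1, 2, 4])]), (22,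
    [(false, [11]), (false, [0, 5, 6]), (false, [1, 4, 6]), (false, [2, 4, 5])]), (17, [(false,
    [7]), (true, [1, 6]), (true, [2, 5])]), (20, [(true, [8]), (false, [0, 6]), (false, [2, 4])]),
    (21, [(true, [9]), (false, [0, 5]), (false, [1, 4])]), (19, [(false, [0])]), (16, [(true,
    [1])]), (15, [(true, [2])]), (18, [(false, [4])]), (13, [(false, [5])]), (12, [(false, [6])])]

def sws : List (ℕ × MP) :=
    [(23, [(true, [11])]), (22, [(true, [10])]), (20, [(true, [7])]), (21, [(true, [8])]), (17,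
    [(false, [9])]), (16, [(false, [4])]), (15, [(false, [5])]), (19, [(true, [6])]), (14,
    [(false, [3])]), (13, [(false, [0])]), (12, [(false, [1])]), (18, [(false, [2])])]

def swr : List (ℕ × MP) :=
    [(23, [(true, [11])]), (22, [(true, [10])]), (17, [(false, [9])]), (20, [(true, [7])]), (21,
    [(true, [8])]), (19, [(true, [6])]), (16, [(false, [4])]), (15, [(false, [5])]), (14, [(false,
    [3])]), (18, [(false, [2])]), (13, [(false, [0])]), (12, [(false, [1])])]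

/-- conjugation of a symbolic word by `n_i` -/
def cw (i : ℕ) (w : List (ℕ × MP)) : List (ℕ × MP) :=
  w.map fun a => ((nD cD4 i).w a.1, bif Nat.beq ((nD cD4 i).e a.1) 0 then a.2 else mneg a.2)

theorem chk_mul : ∀ i < chevD4.rank, colEq chevD4 cD4 0 (sw ++ sw') swm i = true := by
  decide +kernel

theorem chk_na : ∀ i < chevD4.rank, colEq chevD4 cD4 0 (cw 3 (cw 2 (cw 0 swna))) swa i = true := by
  decide +kernel

theorem chk_nb : ∀ i < chevD4.rank, colEq chevD4 cD4 0 (cw 1 swb) swnb i = true := by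
  decide +kernel

theorem chk_s : ∀ i < chevD4.rank, colEq chevD4 cD4 0 sws swr i = true := by
  decide +kernel

/-- the graph automorphism on the roots -/
def ro : Fin chevD4.nroots → Fin chevD4.nroots := tf (m := 24) (n := 24) roD4

/-- the simple roots -/
def jj (i : Fin 4) : Fin chevD4.rank := i

theorem ro_sa : ∀ i j : Fin 4, (i.val, j.val) ∈ [(0, 2), (1, 1), (2, 3), (3, 0)] →
    ro (okD4.rs.sa (jj i)) = okD4.rs.sa (jj j) ∧
    ro (okD4.rs.ng (okD4.rs.sa (jj i))) = okD4.rs.ng (okD4.rs.sa (jj j)) ∧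
    epsD4 (okD4.rs.sa (jj i)) = 1 ∧ epsD4 (okD4.rs.ng (okD4.rs.sa (jj i))) = 1 := by
  have : ∀ i j : Fin 4, (i.val, j.val) ∈ [(0, 2), (1, 1), (2, 3), (3, 0)] →
      tf (n := 24) roD4 (tf (n := 24) [18, 14, 13, 12] i : Fin 24) = tf [18, 14, 13, 12] j ∧
      tf (n := 24) roD4 (tf (n := 24) [18, 14, 13, 12] i : Fin 24).rev =
        (tf (n := 24) [18, 14, 13, 12] j).rev ∧
      epsD4 (tf (n := 24) [18, 14, 13, 12] i) = 1 ∧
      epsD4 (tf (n := 24) [18, 14, 13, 12] i).rev = 1 := by decide +kernel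
  rw [saD4_eq]
  exact this

variable {K : Type u} [Field K]

theorem ev_nil (v : List K) : ev v [] = 0 := rfl

theorem evM_nil (v : List K) : evM v [] = 1 := rfl

/-- the normal form of the elements of `U` -/
def W (a0 a1 a2 b c0 c1 c2 d0 d1 d2 e f : K) : chevD4.group K :=
  okD4.wN [(23, -f), (22, -e), (17, d0), (20, -d1), (21, -d2), (19, -c0), (16, c1), (15, c2), (14, b),
    (18, a0), (13, a1), (12, a2)]

theorem W_mem (a0 a1 a2 b c0 c1 c2 d0 d1 d2 e f : K) : W a0 a1 a2 b c0 c1 c2 d0 d1 d2 e f ∈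
    LT.US (okD4.xG K) {r | 0 ≤ okD4.rs.rt r} :=
  okD4.wN_mem fun a ha r hr => okD4.pos_of (by
    rw [hr]
    simp only [List.mem_cons, List.not_mem_nil, or_false] at ha
    rcases ha with rfl | rfl | rfl | rfl | rfl | rfl | rfl | rfl | rfl | rfl | rfl | rfl <;>
      dsimp only <;> decide +kernel)

section
variable (p : ℕ) [hp : Fact p.Prime] [CharP K p] [Finite K]
include p

theorem W_mul (a0 a1 a2 b c0 c1 c2 d0 d1 d2 e f a0' a1' a2' b' c0' c1' c2' d0' d1' d2' e' f' : K) :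
    W a0 a1 a2 b c0 c1 c2 d0 d1 d2 e f * W a0' a1' a2' b' c0' c1' c2' d0' d1' d2' e' f' =
    W (a0 + a0') (a1 + a1') (a2 + a2') (b + b') (c0 + c0' + a0 * b') (c1 + c1' + a1 * b') (c2 + c2'
      + a2 * b') (d0 + d0' + a1 * c2' + a2 * c1' + a1 * a2 * b') (d1 + d1' + a0 * c2' + a2 * c0' +
      a0 * a2 * b') (d2 + d2' + a0 * c1' + a1 * c0' + a0 * a1 * b') (e + e' + a0 * d0' + a1 * d1' +
      a2 * d2' + a0 * a1 * c2' + a0 * a2 * c1' + a1 * a2 * c0' + a0 * a1 * a2 * b') (f + f' + b * e'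
      - c0 * d0' - c1 * d1' - c2 * d2' + a0 * b * d0' - a0 * c1 * c2' - a0 * c2 * c1' - a0 * c1' *
      c2' + a1 * b * d1' - a1 * c0 * c2' - a1 * c2 * c0' - a1 * c0' * c2' + a2 * b * d2' - a2 * c0 *
      c1' - a2 * c1 * c0' - a2 * c0' * c1' + a0 * a1 * b * c2' - a0 * a1 * c2 * b' - a0 * a1 * b' *
      c2' + a0 * a2 * b * c1' - a0 * a2 * c1 * b' - a0 * a2 * b' * c1' + a1 * a2 * b * c0' - a1 * a2
      * c0 * b' - a1 * a2 * b' * c0' + a0 * a1 * a2 * b * b' - a0 * a1 * a2 * b' * b') := by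
  have := okD4.wN_eq (p := p) Int.cast_zero (by decide +kernel) chk_mul
    [a0, a1, a2, b, c0, c1, c2, d0, d1, d2, e, f, a0', a1', a2', b', c0', c1', c2', d0', d1', d2',
      e', f'] (by simp)
  rw [W, W, W, ← okD4.wN_append]
  convert this using 2 <;> simp [sw, sw', swm, ev_cons, evM_cons, ev_nil, evM_nil]
  refine ⟨?_, ?_, ?_, ?_, ?_, ?_, ?_, ?_⟩ <;> ring

theorem W_inj {a0 a1 a2 b c0 c1 c2 d0 d1 d2 e f a0' a1' a2' b' c0' c1' c2' d0' d1' d2' e' f' : K}
    (h : W a0 a1 a2 b c0 c1 c2 d0 d1 d2 e f = W a0' a1' a2' b' c0' c1' c2' d0' d1' d2' e' f') :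
    a0 = a0' ∧ a1 = a1' ∧ a2 = a2' ∧ b = b' ∧ c0 = c0' ∧ c1 = c1' ∧ c2 = c2' ∧ d0 = d0' ∧
      d1 = d1' ∧ d2 = d2' ∧ e = e' ∧ f = f' := by
  have := okD4.wN_inj (p := p) [(23, -f, -f'), (22, -e, -e'), (17, d0, d0'), (20, -d1, -d1'),
    (21, -d2, -d2'), (19, -c0, -c0'), (16, c1, c1'), (15, c2, c2'), (14, b, b'), (18, a0, a0'),
    (13, a1, a1'), (12, a2, a2')] (by simp only [List.map]; decide +kernel)
    (by simp only [List.map]; decide) h
  simp only [List.forall_mem_cons, neg_inj] at this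
  tauto

theorem exists_W {g : chevD4.group K} (hg : g ∈ LT.US (okD4.xG K) {r | 0 ≤ okD4.rs.rt r}) :
    ∃ a0 a1 a2 b c0 c1 c2 d0 d1 d2 e f, g = W a0 a1 a2 b c0 c1 c2 d0 d1 d2 e f := by
  have := (okD4.bn (F := K) p)
  let M : Submonoid (chevD4.group K) :=
    { carrier := {g | ∃ a0 a1 a2 b c0 c1 c2 d0 d1 d2 e f, g = W a0 a1 a2 b c0 c1 c2 d0 d1 d2 e f}
      one_mem' := ⟨0, 0, 0, 0, 0, 0, 0, 0, 0, 0, 0, 0, by
        simp [W, okD4.wN_cons, okD4.wN_nil, okD4.xN_zero]⟩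
      mul_mem' := by
        rintro _ _ ⟨a0, a1, a2, b, c0, c1, c2, d0, d1, d2, e, f, rfl⟩
          ⟨a0', a1', a2', b', c0', c1', c2', d0', d1', d2', e', f', rfl⟩
        exact ⟨_, _, _, _, _, _, _, _, _, _, _, _, W_mul p ..⟩ }
  let N : Subgroup (chevD4.group K) := { M with inv_mem' := fun h => H7.inv_mem_of_pow_mem (M := M) h }
  refine (US_le (K := N)).2 (fun r hr t => ?_) hg
  have h : ∀ r : Fin 24, (∀ j, 0 ≤ tr (l := 4) rtD4 r j) →
      r.val ∈ [23, 22, 17, 20, 21, 19, 16, 15, 14, 18, 13, 12] := by decide +kernel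
  have h1 := h r fun j => (congrFun (congrFun rtD4_eq r) j) ▸ hr j
  rw [← okD4.xN_val]
  simp only [List.mem_cons, List.not_mem_nil, or_false] at h1
  rcases h1 with e | e | e | e | e | e | e | e | e | e | e | e <;> rw [e]
  exacts [⟨0, 0, 0, 0, 0, 0, 0, 0, 0, 0, 0, -t, by simp [W, okD4.wN_cons, okD4.wN_nil, okD4.xN_zero]⟩,
    ⟨0, 0, 0, 0, 0, 0, 0, 0, 0, 0, -t, 0, by simp [W, okD4.wN_cons, okD4.wN_nil, okD4.xN_zero]⟩,
    ⟨0, 0, 0, 0, 0, 0, 0, t, 0, 0, 0, 0, by simp [W, okD4.wN_cons, okD4.wN_nil, okD4.xN_zero]⟩,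
    ⟨0, 0, 0, 0, 0, 0, 0, 0, -t, 0, 0, 0, by simp [W, okD4.wN_cons, okD4.wN_nil, okD4.xN_zero]⟩,
    ⟨0, 0, 0, 0, 0, 0, 0, 0, 0, -t, 0, 0, by simp [W, okD4.wN_cons, okD4.wN_nil, okD4.xN_zero]⟩,
    ⟨0, 0, 0, 0, -t, 0, 0, 0, 0, 0, 0, 0, by simp [W, okD4.wN_cons, okD4.wN_nil, okD4.xN_zero]⟩,
    ⟨0, 0, 0, 0, 0, t, 0, 0, 0, 0, 0, 0, by simp [W, okD4.wN_cons, okD4.wN_nil, okD4.xN_zero]⟩,
    ⟨0, 0, 0, 0, 0, 0, t, 0, 0, 0, 0, 0, by simp [W, okD4.wN_cons, okD4.wN_nil, okD4.xN_zero]⟩,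
    ⟨0, 0, 0, t, 0, 0, 0, 0, 0, 0, 0, 0, by simp [W, okD4.wN_cons, okD4.wN_nil, okD4.xN_zero]⟩,
    ⟨t, 0, 0, 0, 0, 0, 0, 0, 0, 0, 0, 0, by simp [W, okD4.wN_cons, okD4.wN_nil, okD4.xN_zero]⟩,
    ⟨0, t, 0, 0, 0, 0, 0, 0, 0, 0, 0, 0, by simp [W, okD4.wN_cons, okD4.wN_nil, okD4.xN_zero]⟩,
    ⟨0, 0, t, 0, 0, 0, 0, 0, 0, 0, 0, 0, by simp [W, okD4.wN_cons, okD4.wN_nil, okD4.xN_zero]⟩]

theorem sig_W {σ : chevD4.group K →* chevD4.group K} {φ : K →+* K}
    (hσ : ∀ r t, σ (okD4.xG K r t) = okD4.xG K (ro r) (epsD4 r * φ t))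
    (a0 a1 a2 b c0 c1 c2 d0 d1 d2 e f : K) : σ (W a0 a1 a2 b c0 c1 c2 d0 d1 d2 e f) =
    W (φ a2) (φ a0) (φ a1) (φ b) (φ c2) (φ c0) (φ c1) (φ d2) (φ d0) (φ d1) (φ e) (φ f) := by
  have := okD4.wN_eq (p := p) Int.cast_zero (by decide +kernel) chk_s
    [φ a0, φ a1, φ a2, φ b, φ c0, φ c1, φ c2, φ d0, φ d1, φ d2, φ e, φ f] (by simp)
  have h : ∀ r : Fin 24, (tf (n := 24) roD4 r).val = roD4.getD r 0 := by decide
  rw [W, W, okD4.map_wN (ρ := fun r => roD4.getD r 0)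
    (τ := fun r t => (Sig.etaD4L.getD r 1 : ℤ) * φ t)
    (fun r t => (hσ r t).trans ((okD4.xN_val _ _).symm.trans
      (congrArg (okD4.xN · _) (h r)))) (by simp [chevD4])]
  convert this using 2 <;> simp [sws, swr, ev_cons, evM_cons, ev_nil, evM_nil, roD4, Sig.etaD4L]

theorem conj_cw (i' : Fin 4) (i : ℕ) (hi : i' = i) (w : List (ℕ × MP))
    (hw : (w.all fun a => a.1 < 24) = true)
    (v : List K) : (MulAut.conj (nt okD4.rs (okD4.xG K) (jj i') 1)).toMonoidHom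
      (okD4.wN (w.map fun a => (a.1, ev v a.2))) =
      okD4.wN ((cw i w).map fun a => (a.1, ev v a.2)) := by
  subst hi
  generalize hi : (i' : ℕ) = i
  rw [okD4.map_wN (ρ := fun r => (nD cD4 i).w r) (τ := fun r t => (-1) ^ (nD cD4 i).e r * t)
    (fun r t => hi ▸ okD4.conj_n (jj i') r t) (fun a ha => by
      obtain ⟨b, hb, rfl⟩ := List.mem_map.1 ha
      exact of_decide_eq_true (List.all_eq_true.1 hw b hb)), cw, List.map_map, List.map_map]
  congr 2
  funext a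
  have : (nD cD4 i).e a.1 < 2 := Nat.mod_lt _ (by decide)
  obtain e | e : (nD cD4 i).e a.1 = 0 ∨ (nD cD4 i).e a.1 = 1 := by omega
  · simp [e]
  · simp [e, ev_mneg, Nat.beq]

end

variable [hK : TF K] (p : ℕ) [hp : Fact p.Prime] [CharP K p]

/-- the embedding of the coordinate group -/
def emb : US K →* chevD4.group K := MonoidHom.mk' (fun x => W x.a (fr x.a) (fr (fr x.a)) x.b x.c
  (fr x.c) (fr (fr x.c)) x.d (fr x.d) (fr (fr x.d)) x.e x.f) fun x y => by
    rw [W_mul p]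
    congr 1 <;> simp [Tr, Nm, sh, cr] <;> ring

theorem emb_apply (x : US K) : emb p x = W x.a (fr x.a) (fr (fr x.a)) x.b x.c
    (fr x.c) (fr (fr x.c)) x.d (fr x.d) (fr (fr x.d)) x.e x.f := rfl

theorem emb_inj : Function.Injective (emb (K := K) p) := fun x y h => by
  have := W_inj p h
  ext <;> tauto

theorem exists_tw {q : ℕ} (hq : ∀ x : K, fr x = x ^ q) : ∃ σ : chevD4.group K →* chevD4.group K,
    (∀ r t, σ (okD4.xG K r t) = okD4.xG K (ro r) (epsD4 r * fr t)) ∧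
    twistedD4 K q ≤ chevD4.group K ∧ (emb p).range = LT.US (okD4.xG K) {r | 0 ≤ okD4.rs.rt r} ⊓
      (twistedD4 K q).subgroupOf (chevD4.group K) ∧ ∃ ρL J, Tw okD4.rs (okD4.xG K) cG σ
      ro ρL J ((twistedD4 K q).subgroupOf (chevD4.group K)) := by
  obtain ⟨σ, hσ, h1, ρL, J, T⟩ := exists_twD4 p (fr : K ≃+* K).toRingHom q hq fr3
  refine ⟨σ, hσ, h1, le_antisymm ?_ fun g hg => ?_, ρL, J, T⟩
  · rintro _ ⟨x, rfl⟩
    have hm : emb p x ∈ LT.US (okD4.xG K) {r | 0 ≤ okD4.rs.rt r} :=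
      W_mem _ _ _ _ _ _ _ _ _ _ _ _
    refine ⟨hm, T.U_le (okD4.bn p) hm ?_⟩
    rw [emb_apply, sig_W p hσ]
    simp
  · obtain ⟨a0, a1, a2, b, c0, c1, c2, d0, d1, d2, e, f, rfl⟩ := exists_W p hg.1
    have h := T.fix _ hg.2
    rw [sig_W p hσ] at h
    obtain ⟨-, h1, h2, h3, -, h4, h5, -, h6, h7, h8, h9⟩ := W_inj p h
    subst h1 h2 h4 h5 h6 h7
    exact ⟨⟨a0, b, c0, d0, e, f, h3, h8, h9⟩, rfl⟩

variable {p}

theorem exists_sq {a : K} (ha : a ≠ 0) : ∃ m, m ≠ 0 ∧ fr (a * m ^ 2) = a * m ^ 2 := by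
  obtain ⟨q, -, -, h⟩ := exists_q (K := K)
  obtain ⟨j, hj⟩ := Nat.even_mul_succ_self q
  refine ⟨a ^ j, pow_ne_zero _ ha, ?_⟩
  rw [show a * (a ^ j) ^ 2 = Nm a by rw [Nm, h, h, ← pow_mul, mul_two, ← hj]; ring, fr_Nm]

/-- the character of the root lattice attached to a parameter -/
def chi (t : Par K) : Fin 4 → Kˣ :=
  ![t.a, t.b, Units.map (fr (K := K) : K →* K) t.a,
    Units.map (fr (K := K) : K →* K) (Units.map (fr (K := K) : K →* K) t.a)]

/-- the value of the character on a root -/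
def cv (t : Par K) (r : ℕ) : K :=
  (t.a : K) ^ (rtD4.getD r []).getD 0 0 * (t.b : K) ^ (rtD4.getD r []).getD 1 0 *
    fr (t.a : K) ^ (rtD4.getD r []).getD 2 0 * fr (fr (t.a : K)) ^ (rtD4.getD r []).getD 3 0

theorem chr_chi (t : Par K) (r : Fin chevD4.nroots) :
    (chr (L := Fin chevD4.rank) (chi t) (okD4.rs.rt r) : K) = cv t r := by
  rw [rtD4_eq]
  show ((∏ i : Fin 4, chi t i ^ (rtD4.getD r []).getD i 0 : Kˣ) : K) = _
  simp [chi, Fin.prod_univ_four, cv]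

theorem cv_ro (t : Par K) (r : Fin chevD4.nroots) : cv t (ro r) = fr (cv t r) := by
  have rt : ∀ r, (rtD4.getD (ro r) []).getD 0 0 = (rtD4.getD r []).getD 3 0 ∧
      (rtD4.getD (ro r) []).getD 1 0 = (rtD4.getD r []).getD 1 0 ∧
      (rtD4.getD (ro r) []).getD 2 0 = (rtD4.getD r []).getD 0 0 ∧
      (rtD4.getD (ro r) []).getD 3 0 = (rtD4.getD r []).getD 2 0 := by
    decide +kernel
  rw [cv, cv, show _ = _ from (rt r).1, show _ = _ from (rt r).2.1, show _ = _ from (rt r).2.2.1,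
    show _ = _ from (rt r).2.2.2]
  simp only [map_mul, map_zpow₀, fr3, t.hb]
  ring

theorem chi_mul (s t : Par K) (i : Fin 4) : (chi (s * t) i : K) = chi s i * s.σ (chi t i) := by
  fin_cases i <;> simp [chi]

end Md

open Md

variable {K : Type u} [Field K] [hK : TF K] {p : ℕ} [hp : Fact p.Prime] [CharP K p]

theorem sylow_D4 {q : ℕ} (hq : ∀ x : K, fr x = x ^ q) (T : Sylow p (twistedD4 K q)) :
    Nonempty ((T : Subgroup (twistedD4 K q)) ≃* US K) := by
  obtain ⟨σ, -, h1, h2, ρL, J, Tw⟩ := exists_tw p hq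
  exact sylow_iso (emb p) (emb_inj p) (h2 ▸ Tw.syl (okD4.bn p)) (subgroupOfEquivOfLe h1) T

theorem exists_model (H : Subgroup (Par K)) (hH : ¬ p ∣ Nat.card H)
    (h1 : ∀ (ν : K) (h0 : ν ≠ 0), dpar (ν ^ 2) (Nm ν)⁻¹ (pow_ne_zero 2 h0) (by simpa using h0)
      (by simp) ∈ H)
    (h2 : ∀ (l : K) (h0 : l ≠ 0) (h : fr l = l), dpar l⁻¹ (l ^ 2) (inv_ne_zero h0) (pow_ne_zero 2 h0)
      (by simp [h]) ∈ H) :
    ∃ (G : Type u) (_ : Group G) (_ : Finite G) (ι : US K →* G), Function.Injective ι ∧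
      H7.SylowIn p ι.range ⊤ ∧ (∀ t ∈ H, ∃ g : G, ∀ x, ι (tauF t x) = g * ι x * g⁻¹) ∧
      (∃ g : G, ∀ x ∈ Qa K, ι (na x) = g * ι x * g⁻¹) ∧
      (∃ g : G, ∀ x ∈ Qb K, ι (nb x) = g * ι x * g⁻¹) ∧
      ∀ (g : G) (f : US K → US K), (∀ x, ι (f x) = g * ι x * g⁻¹) →
        ∃ s : US K, ∃ t ∈ H, ∀ x, f x = s * tauF t x * s⁻¹ := by
  have hb := okD4.bn (F := K) p
  obtain ⟨q, -, -, hq⟩ := exists_q (K := K)
  obtain ⟨σ, hσ, -, hr, ρL, J, T⟩ := exists_tw p hq
  obtain ⟨α, hα⟩ := okD4.exists_act (p := p) chi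
    (MonoidHom.mk' (fun t : Par K => (t.σ : RingAut K)) fun _ _ => rfl)
    chi_mul
  simp only [MonoidHom.mk'_apply, chr_chi] at hα
  have all : ∀ (a b : K) (ha : a ≠ 0) (hb : b ≠ 0) (h : fr b = b), dpar a b ha hb h ∈ H :=
    fun a b ha hb h => by
      obtain ⟨m, m0, hm⟩ := exists_sq ha
      have n0 : Nm (a * m) ≠ 0 := by simp [ha, m0]
      obtain ⟨μ, hμ⟩ : ∃ μ, μ = b * Nm (a * m) / (a * m ^ 2) ^ 2 := ⟨_, rfl⟩
      have μ0 : μ ≠ 0 := by simp [hμ, ha, hb, m0]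
      have μ1 : fr μ = μ := by rw [hμ, map_div₀, map_pow, hm, map_mul, h, fr_Nm]
      have := mul_mem (h1 (μ * (a * m)) (by simp [μ0, ha, m0]))
        (h2 (a * m ^ 2 * μ ^ 2) (by simp [μ0, ha, m0]) (by rw [map_mul, hm, map_pow, μ1]))
      convert this using 1
      ext
      · simp; field_simp
      · simp only [dpar_b, Units.val_mk0, Par.mul_b, dpar_σ, RingAut.one_apply, Nm_smul μ1]
        have : b = μ * (a * m ^ 2) ^ 2 / Nm (a * m) := by rw [hμ]; field_simp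
        rw [this]; field_simp
      · rfl
  have e2 : ∀ t w, α t (emb p w) = emb p (tauF t w) := fun t w => by
    rw [emb_apply, emb_apply, W, W]
    refine (okD4.map_wN (α := (α t).toMonoidHom) (ρ := id) (τ := fun r u => cv t r * t.σ u)
      (fun r u => (hα t r u).trans (okD4.xN_val r _).symm) (by simp [chevD4])).trans ?_
    congr 1
    simp [cv, rtD4, sh, Nm]
    refine ⟨?_, ?_, ?_, ?_, ?_, ?_, ?_⟩ <;> (left; ring)
  obtain ⟨G, i1, i2, ι, k1, k2, k3, k4, k5⟩ := T.model hb (emb p) (emb_inj p) hr tauF α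
    (fun t => DFunLike.congr_fun (hb.hom_ext (α := σ.comp (α t).toMonoidHom)
      (β := (α t).toMonoidHom.comp σ) fun r u => by
        show σ (α t _) = α t (σ _)
        rw [hα, hσ, hσ, hα, cv_ro]
        congr 1
        simp
        ring)) e2 H hH fun n hn hσn => by
      obtain ⟨χ, hχ⟩ := okD4.conj_H hn
      have k : ∀ r, (chr χ (okD4.rs.rt (ro r)) : K) = fr (chr χ (okD4.rs.rt r) : K) :=
        fun r => by
          have := congrArg σ (hχ r 1)
          rw [map_mul, map_mul, map_inv, hσn, hσ, hσ, hχ] at this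
          have e0 : (epsD4 r : K) ≠ 0 := by
            rcases epsD4_eq.1 r with e | e <;> rw [show epsD4 r = _ from e] <;> simp
          simpa [e0, mul_comm] using hb.x_inj this
      have s : ∀ i j : Fin 4, (i.val, j.val) ∈ [(0, 2), (1, 1), (2, 3), (3, 0)] →
          (χ (jj j) : K) = fr (χ (jj i) : K) := fun i j h => by
        have := k (okD4.rs.sa (jj i))
        rwa [(ro_sa i j h).1, okD4.rs.rt_sa, okD4.rs.rt_sa, chr_single, chr_single, zpow_one,
          zpow_one] at this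
      have c1 := s 1 1 (by decide)
      have c2 := s 0 2 (by decide)
      have c3 := s 2 3 (by decide)
      refine ⟨_, all _ _ (χ (jj 0)).ne_zero (χ (jj 1)).ne_zero c1.symm, fun w => ?_⟩
      rw [← e2]
      refine DFunLike.congr_fun (hb.hom_ext (α := (MulAut.conj n).toMonoidHom)
        (β := (α _).toMonoidHom) fun r u => (hχ r u).trans ((hα _ r u).trans ?_).symm) _
      rw [← chr_chi, show chi (dpar _ _ (χ (jj 0)).ne_zero (χ (jj 1)).ne_zero c1.symm) =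
        fun i => χ (jj i) from funext fun i => Units.ext (by fin_cases i <;> simp [chi, c2, c3])]
      rfl
  have sn : ∀ i j : Fin 4, (i.val, j.val) ∈ [(0, 2), (1, 1), (2, 3), (3, 0)] →
      σ (nt okD4.rs (okD4.xG K) (jj i) 1) = nt okD4.rs (okD4.xG K) (jj j) 1 := fun i j hij => by
    obtain ⟨a1, a2, a3, a4⟩ := ro_sa i j hij
    simp only [nt, map_mul, hσ, a1, a2, a3, a4]
    simp
  obtain ⟨g1, e1⟩ := k4 (nl okD4.rs (okD4.xG K) [jj 3, jj 2, jj 0])⁻¹ (by
    rw [map_inv, okD4.nl_eq (q := 0) Int.cast_zero (l' := [jj 2, jj 0, jj 3]) (by decide +kernel)]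
    conv_rhs => rw [okD4.nl_eq (q := 0) Int.cast_zero (l' := [jj 3, jj 2, jj 0]) (by decide +kernel)]
    simp only [nl, List.map, List.prod_cons, List.prod_nil, map_mul, map_one,
      sn 2 3 (by decide), sn 0 2 (by decide), sn 3 0 (by decide)])
  obtain ⟨g2, e3⟩ := k4 _ (sn 1 1 (by decide))
  refine ⟨G, i1, i2, ι, k1, k2, k3, ⟨g1, fun x hx => e1 _ _ ?_⟩, ⟨g2, fun x hx => e3 _ _ ?_⟩, k5⟩
  · obtain ⟨v, hv⟩ : ∃ v, v = [x.a, fr x.a, fr (fr x.a), x.b, x.c, fr x.c, fr (fr x.c), x.d, fr x.d,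
      fr (fr x.d), x.e, x.f] := ⟨_, rfl⟩
    have a1 : emb p x = okD4.wN (swa.map fun a => (a.1, ev v a.2)) := by
      simp [emb_apply, W, hv, swa, ev_cons, evM_cons, ev_nil, evM_nil, okD4.wN_cons, mem_Qa.1 hx,
        okD4.xN_zero, okD4.wN_nil]
    have a2 : emb p (na x) = okD4.wN (swna.map fun a => (a.1, ev v a.2)) := by
      simp [emb_apply, W, hv, swna, ev_cons, evM_cons, ev_nil, evM_nil, okD4.wN_cons,
        okD4.xN_zero, okD4.wN_nil, Tr]
      congr 1; ring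
    rw [a1, ← okD4.wN_eq (p := p) Int.cast_zero (by decide +kernel) chk_na v (by simp [hv]), a2,
      ← conj_cw p 3 3 rfl _ (by decide +kernel), ← conj_cw p 2 2 rfl _ (by decide +kernel),
      ← conj_cw p 0 0 rfl _ (by decide +kernel)]
    simp [nl, mul_assoc]
  · obtain ⟨v, hv⟩ : ∃ v, v = [x.a, fr x.a, fr (fr x.a), x.b, x.c, fr x.c, fr (fr x.c), x.d, fr x.d,
      fr (fr x.d), x.e, x.f] := ⟨_, rfl⟩
    have a1 : emb p x = okD4.wN (swb.map fun a => (a.1, ev v a.2)) := by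
      simp [emb_apply, W, hv, swb, ev_cons, evM_cons, ev_nil, evM_nil, okD4.wN_cons, mem_Qb.1 hx,
        okD4.xN_zero, okD4.wN_nil]
    have a2 : emb p (nb x) = okD4.wN (swnb.map fun a => (a.1, ev v a.2)) := by
      simp [emb_apply, W, hv, swnb, ev_cons, evM_cons, ev_nil, evM_nil, okD4.wN_cons,
        okD4.xN_zero, okD4.wN_nil, Tr, sh, cr]
      ring_nf
    rw [a2, ← okD4.wN_eq (p := p) Int.cast_zero (by decide +kernel) chk_nb v (by simp [hv]), a1,
      ← conj_cw p 1 1 rfl _ (by decide +kernel)]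
    rfl

end Cfsg.Agent.D4
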