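import Cfsg.Agent.Lib.D4.PartA2

/-!
# S5261: the essential subgroups are `Qa` and `Qb` (see notes/TD_helper2.md, section PartA)
-/

set_option autoImplicit false
set_option linter.unusedSectionVars false
set_option linter.unusedVariables false

namespace Cfsg.Agent.D4

open Subgroup Cfsg Cfsg.FusionSystem US
open U5 (Inv Loc SE invS mem_invS ef_mul ef_inv ef_one ef_ce ef_cm ef_inj ef_eq_one ef_comm ef_conj
  cm_eq_one mem_norm_of_cm ch3 ch3_mono exists_max mem_of_max inv_conjAut' exists_vb exists_loc)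

variable {K : Type*} [Field K] [hK : TF K] {p : ℕ} [hp : Fact p.Prime] [CharP K p]
  {R : Subgroup (US K)} {M A : Subgroup (MulAut R)} {x y w z : US K} {g : MulAut R}

@[simp] theorem kk_fr (l : kk K) : fr (l : K) = l := l.2

theorem mul_f_Z1 (hx : x ∈ Z1 K) : (x * y).f = x.f + y.f := by simp [hx.1, hx.2.1, hx.2.2.1]

theorem surj_kk {φ : kk K → K} (ha : ∀ x y, φ (x + y) = φ x + φ y) (hf : ∀ x, fr (φ x) = φ x)
    (h0 : ∀ x, φ x = 0 → x = 0) {m : K} (hm : fr m = m) : ∃ x, φ x = m := by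
  obtain ⟨x, hx⟩ := Finite.surjective_of_injective (f := fun x : kk K => (⟨φ x, hf x⟩ : kk K))
    (fun x y e => sub_eq_zero.1 (h0 _ ((map_sub (AddMonoidHom.mk' φ ha) x y).trans
      (sub_eq_zero.2 (congrArg Subtype.val e))))) ⟨m, hm⟩
  exact ⟨x, congrArg Subtype.val hx⟩

/-- the centralizer of an element of `Qa` is `Qb` or its iterated commutators contain `Z1` -/
theorem cent_Qa (hw : w ∈ Qa K) (h1 : w ∉ Z1 K) (hsq : (2 : K) = 0 → w * w = 1)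
    (hR : ∀ x, x ∈ R ↔ cm w x = 1) (hz : z ∈ Z1 K) (γ : MulAut R) :
    R = Qb K ∨ equivFun γ z ∈ Z1 K := by
  by_cases h2 : w ∈ Z2 K
  · refine .inl (le_antisymm (fun r hr => ?_) fun r hr => (hR r).2 (comm_iff_cm.1 (comm_Z2 h2 hr)))
    have := congrArg US.f ((hR r).1 hr)
    rw [cm_f3 (Z2_le_Z3 h2), h2.2.2.2] at this
    have e : w.e ≠ 0 := fun e => h1 (mem_Z1_of h2 e)
    simpa [e, mem_Qb] using this
  right
  by_cases h3 : w ∈ Z3 K
  · have d0 : w.d ≠ 0 := fun e => h2 (mem_Z2_of h3 e)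
    have m : ∀ x : US K, Tr (x.a * w.d) = 0 → Tr (w.d * x.c) = x.b * w.e → x ∈ R := fun x e1 e2 =>
      (hR x).2 (eq_one_of_Z2 (cm_Z2 (.inl h3)) ((cm_e3 h3).trans e1)
        (by rw [cm_f3 h3, e1, mul_comm x.c, e2]; ring))
    by_cases c2 : (2 : K) = 0
    · obtain ⟨a, a0, k1, -⟩ := exists_perp w.d 0
      obtain ⟨b, hb, k2⟩ := exists_sqrt c2 (l := z.f / Nm a) (by simp)
      obtain ⟨c, k3⟩ := exists_Tr d0 (l := b * w.e) (by simp [hb])
      let y : US K := ⟨a, b, c, 0, 0, 0, hb, by simp, by simp⟩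
      have hy : y ∈ R := m y (by rwa [mul_comm]) k3
      rw [← ext_Z1 (four_Z1 c2 y) hz (by
        rw [four_f c2]; exact (eq_div_iff (by simpa using a0)).1 k2), ef_four γ hy]
      exact four_Z1 c2 _
    · obtain ⟨a1, a2, l1, l2, l3⟩ := exists_plane d0
      obtain ⟨c, k3⟩ := exists_Tr d0 w.he
      obtain ⟨β, hβ, e⟩ : ∃ β, fr β = β ∧ β * (2 * Tr (a2 * sh a1)) = z.f :=
        ⟨z.f / (2 * Tr (a2 * sh a1)), by simp [map_ofNat], div_mul_cancel₀ _ (mul_ne_zero c2 l3)⟩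
      let y : US K := ⟨0, 1, c, 0, 0, 0, by simp, by simp, by simp⟩
      have m1 : xa a1 ∈ R := m _ l1 (by simp)
      have m2 : y ∈ R := m y (by simp [y]) (by simpa [y] using k3)
      have m3 : xc (β * a2) ∈ R := m _ (by simp) (by
        rw [xc_c, mul_left_comm, Tr_smul hβ, mul_comm w.d, l2]; simp)
      have Z : ∀ x1 x2 x3 x4 : US K, cm (cm x1 x2) (cm x3 x4) ∈ Z1 K := fun _ _ _ _ =>
        cm_Z1 (.inr (.inr ⟨cm_a _ _, cm_a _ _⟩))
      rw [← ext_Z1 (Z (xa a1) y (xa a1) (xc (β * a2))) hz (by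
        rw [cm_f4 (cm_Z3 (.inr (.inl (xc_mem _)))), cm_d2 (xc_mem _), cm_c, cm_b, ← e]
        simp [y, Tr, cr, sh, hβ]; ring), ef_cm γ (cm_mem' m1 m2) (cm_mem' m1 m3), ef_cm γ m1 m2,
        ef_cm γ m1 m3]
      exact Z _ _ _ _
  have hbc : w.b ≠ 0 ∨ w.c ≠ 0 := by
    by_contra! e
    exact h3 ⟨hw, e⟩
  have hQ : R ≤ Qa K := fun r hr => by
    have k := (hR r).1 hr
    by_cases hb : w.b = 0; swap
    · simpa [mem_Qa, (show w.a = 0 from hw), hb, k] using cm_c w r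
    have hc := hbc.resolve_left (not_not.2 hb)
    have k1 : cr w.c r.a = 0 := by rw [cr_comm, ← cm_d1 ⟨hw, hb⟩, k, one_d]
    by_cases c2 : (2 : K) = 0; swap
    · exact eq_zero_of_cr c2 hc k1
    obtain ⟨κ, hκ, e⟩ := line_of_cr c2 hc k1
    have k2 := cm_e1 (x := w) (y := r) ⟨hw, hb⟩
    have k3 := sq_f_Qa hw
    rw [hsq c2, qq, pv_b, hb, c2] at k3
    rw [k, e, sh_smul hκ, mul_assoc, mul_assoc, Tr_smul (by simp [hκ]), Tr_smul hκ] at k2
    have k4 : κ ^ 2 * Nm w.c = 0 := by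
      simp [Tr, sh, Nm] at k2 k3 ⊢
      have : κ ^ 2 * (w.c * fr w.c * fr (fr w.c)) = 0 := by
        linear_combination -k2 - κ * k3 - κ ^ 2 * (w.c * fr w.c * fr (fr w.c)) * c2
      simpa using this
    simp [mem_Qa, e, (show κ = 0 by simpa [hc] using k4)]
  have m : ∀ x ∈ Qa K, BB (pv x) (pv w) = 0 → x ∈ R := fun x hx e =>
    (hR x).2 (eq_one_of_Z1 (cm_Z1 (.inr (.inr ⟨hw, hx⟩))) ((cm_f_Qa hw hx).trans e))
  obtain ⟨d, d0, k1, -⟩ := exists_perp w.c 0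
  obtain ⟨c, k2⟩ := exists_Tr d0 z.hf
  obtain ⟨d', e', he', k3⟩ : ∃ d' e', fr e' = e' ∧ Tr (w.c * d') - e' * w.b = Tr (c * w.d) := by
    rcases hbc with hb | hc
    · exact ⟨0, -Tr (c * w.d) / w.b, by simp, by simp [div_mul_cancel₀ _ hb]⟩
    · obtain ⟨d', k⟩ := exists_Tr hc (fr_Tr (c * w.d))
      exact ⟨d', 0, by simp, by simp [k]⟩
  let y : US K := ⟨0, 0, c, d', e', 0, by simp, he', by simp⟩
  have m1 : y ∈ R := m y rfl (by simp [BB, y, mul_comm d']; linear_combination k3)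
  have m2 : xd d ∈ R := m _ rfl (by simp [BB, mul_comm d, k1])
  rw [← ext_Z1 (cm_Z1 (x := y) (y := xd d) (.inr (.inr ⟨rfl, rfl⟩))) hz (by
    rw [cm_f4 (xd_mem d), ← k2]; simp [y, mul_comm]), ef_cm γ m1 m2]
  exact cm_Z1 (.inr (.inr ⟨hQ (equivFun_mem γ m1), hQ (equivFun_mem γ m2)⟩))

theorem cm_mul_Z1 (t : US K) (h : cm x y ∈ Z1 K) : cm x (t * y) = cm x t * cm x y := by
  have e : cm x (t * y) = x⁻¹ * t * x * (cm x y * t⁻¹) := by simp only [cm]; group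
  rw [e, comm_Z1 h]
  generalize cm x y = u
  simp only [cm]; group

theorem TX_b0 {γ : MulAut R} (D : ∀ x, x ∈ R ↔ cm w x = 1) (ha : w.a ≠ 0)
    (hsq : (2 : K) = 0 → w * w = 1) (e1 : Z1 K ≤ R)
    (TX : ∀ t, (∀ x ∈ R, cm x t ∈ R) → (equivFun γ (cm w t)).a = 0 → t ∈ R) (hwb : w.b = 0) :
    False := by
  have key : ∀ r : US K, ∀ d d0, r.b = 0 → cm w r = 1 → Tr (w.a * d) = 0 → Tr (w.c * d) = 0 →
      Tr (d * r.a) = 1 → Tr (w.a * d0) = 1 → Tr (w.c * d0) = Tr (r.c * d) → False :=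
    fun r d d0 k1 k2 k3 k4 k5 k6 k7 => by
      have m1 := (D r).2 k2
      have m2 : xd d ∈ R := (D _).2 (eq_one_of_Z2 (cm_Z2 (.inr (xd_mem d)))
        (by rw [cm_e4 (xd_mem d), xd_d, k3, neg_zero]) (by rw [cm_f4 (xd_mem d), xd_d, k4]; simp))
      have m3 : xd d0 ∈ R := TX _ (fun x _ => (D _).2 (cm_symm (comm_iff_cm.1
        (comm_Z2 (cm_Z2 (.inr (xd_mem d0))) hwb)))) (by
        rw [ext_Z2 (cm_Z2 (.inr (xd_mem d0))) (cm_Z2 (x := r) (.inr (xd_mem d)))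
          (by rw [cm_e4 (xd_mem _), cm_e4 (xd_mem _), xd_d, xd_d, k6, mul_comm, k5])
          (by rw [cm_f4 (xd_mem _), cm_f4 (xd_mem _), xd_d, xd_d, k7]; simp), ef_cm _ m1 m2]
        exact cm_a _ _)
      have := congrArg US.e ((D _).1 m3)
      rw [cm_e4 (xd_mem _), xd_d, k6] at this
      simp at this
  obtain ⟨d, d0, k1, k2⟩ := exists_perp w.a w.c
  obtain ⟨α, k3⟩ := exists_Tr d0 fr_one
  have one : ∀ r : US K, r.b = 0 → cr w.a r.c = cr r.a w.c → (cm w r).e = 0 → (cm w r).f = 0 →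
      cm w r = 1 := fun r hr e1 e2 e3 => eq_one_of_Z2 (mem_Z2_of (cm_Z3 (.inr (.inr ⟨hwb, hr⟩)))
    (by rw [cm_db hwb hr, e1, sub_self])) e2 e3
  by_cases hc : ∃ κ, fr κ = κ ∧ w.c = κ * w.a
  · obtain ⟨κ, hκ, e⟩ := hc
    obtain ⟨d', k4⟩ := exists_Tr ha (l := Tr (sh w.a * (κ * α)) - Tr (w.c * cr w.a α) +
      Tr (sh α * w.c) + Tr (w.d * α)) (by simp)
    obtain ⟨d1, k5⟩ := exists_Tr ha fr_one
    let r : US K := ⟨α, 0, κ * α, d', 0, 0, by simp, by simp, by simp⟩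
    refine key r d d1 rfl (one r rfl ?_ ?_ ?_) k1 k2 k3 k5 ?_
    · simp only [r]; rw [e, cr_smul hκ, cr_smul hκ, cr_comm]
    · rw [cm_eb (y := r) hwb rfl]; simp only [r]; linear_combination -k4
    · rw [cm_fb (y := r) hwb rfl]
      simp only [r, e, Tr, cr, sh, map_mul, map_add, hκ, fr3] at k4 ⊢
      linear_combination κ * k4
    · simp only [r]; rw [e, mul_assoc, mul_assoc, Tr_smul hκ, Tr_smul hκ, k5, mul_comm α, k3]
  · have hc' : ∀ l, fr l = l → w.c ≠ l * w.a := fun l hl e => hc ⟨l, hl, e⟩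
    obtain ⟨c, k4⟩ := cr_surj (fun c2 => hc (sq_cases c2 (hsq c2) ha).2) ha (cr α w.c)
    obtain ⟨d', k5, k6⟩ := exists_Tr2 ha hc' (A := Tr (sh w.a * c) - Tr (w.c * cr w.a α) +
      Tr (sh α * w.c) + Tr (w.d * α)) (B := -(Tr (w.a * sh c) + Tr (sh w.c * α) -
      Tr (w.c * cr α c) - Tr (w.d * c))) (by simp) (by simp)
    obtain ⟨d1, k7, k8⟩ := exists_Tr2 ha hc' fr_one (fr_Tr (c * d))
    let r : US K := ⟨α, 0, c, d', 0, 0, by simp, by simp, by simp⟩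
    refine key r d d1 rfl (one r rfl k4 ?_ ?_) k1 k2 k3 k7 k8
    · rw [cm_eb (y := r) hwb rfl]; simp only [r]; linear_combination -k5
    · rw [cm_fb (y := r) hwb rfl]; simp only [r]; linear_combination k6

theorem TX_b1 {γ : MulAut R} (D : ∀ x, x ∈ R ↔ cm w x = 1) (ha : w.a ≠ 0)
    (hsq : (2 : K) = 0 → w * w = 1) (e1 : Z1 K ≤ R)
    (TX : ∀ t, (∀ x ∈ R, cm x t ∈ R) → (equivFun γ (cm w t)).a = 0 → t ∈ R) (hwb : w.b ≠ 0) :
    False := by
  have hwR : w ∈ R := (D w).2 (comm_iff_cm.1 rfl)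
  have c2 : (2 : K) ≠ 0 := fun c2 => hwb (sq_cases c2 (hsq c2) ha).1
  obtain ⟨t, ht, t0, e⟩ := exists_t0 ha hwb
  have hL : ∀ r ∈ R, Ln w r := fun r hr => ln_of c2 ha hwb (by rw [(D r).1 hr]; exact one_mem _)
  have hk : ∀ r ∈ R, fr ((equivFun γ r).a / w.a) = (equivFun γ r).a / w.a := fun r hr => by
    obtain ⟨ρ, l, hρ, -, k, -⟩ := hL _ (equivFun_mem γ hr)
    rw [k, mul_div_cancel_right₀ _ ha, hρ]
  have n1 : ∀ x ∈ R, cm x t ∈ R := fun x hx => (D _).2 (cm_symm (e x w (hL x hx) (.self w)))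
  obtain ⟨E, hE, hE'⟩ : ∃ E : kk K → US K, (∀ l, E l ∈ Z2 K) ∧ ∀ l, (E l).e = l :=
    ⟨fun l => xe l (kk_fr l), fun l => xe_mem _ _, fun l => rfl⟩
  have z1 : ∀ x l, cm x (E l) ∈ Z1 K := fun x l => cm_Z1 (.inr (.inl (hE l)))
  have f1 : ∀ l, (cm w (E l)).f = -w.b * l := fun l => by
    rw [cm_f4 (Z2_le_Z3 (hE l)), hE', (hE l).2.2.2]; simp
  have z2 := fun l => e1 (z1 w l)
  obtain ⟨l, hl⟩ := surj_kk (φ := fun l => (equivFun γ (cm w (E l))).a / w.a)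
    (fun l l' => by
      have := ef_mul γ (z2 l) (z2 l')
      rw [← ext_Z1 (z1 w (l + l')) (mul_mem (z1 w l) (z1 w l'))
        (by rw [mul_f_Z1 (z1 w l), f1, f1, f1, Subfield.coe_add, mul_add])] at this
      exact (congrArg (fun x : US K => x.a / w.a) this).trans (add_div _ _ _))
    (fun l => hk _ (z2 l)) (fun l k => by
      have := f1 l
      rw [(D _).1 (TX _ (fun x _ => e1 (z1 x l)) ((div_eq_zero_iff.1 k).resolve_right ha))] at this
      simpa [hwb] using this) (m := -((equivFun γ (cm w t)).a / w.a))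
    (by rw [map_neg, hk _ (n1 w hwR)])
  have htR := TX (t * E l)
    (fun x hx => (cm_mul_Z1 t (z1 x l)).symm ▸ mul_mem (n1 x hx) (e1 (z1 x l))) (by
    have := congrArg US.a (ef_mul γ (n1 w hwR) (z2 l))
    rw [← cm_mul_Z1 t (z1 w l), mul_a] at this
    replace hl : (equivFun γ (cm w (E l))).a / w.a = _ := hl
    rw [← neg_div, div_left_inj' ha] at hl
    rw [this, hl, add_neg_cancel])
  have := congrArg US.d ((D _).1 htR)
  rw [cm_d2 (mul_mem ht (Z3_le_Z4 (Z2_le_Z3 (hE l))))] at this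
  exact t0 (eq_zero_of_cr c2 ha (by simpa [(hE l).2.1, (hE l).2.2.1] using this))

/-- L1: if everything normalizing `Z1` lies in `M` then `R = Qb`. -/
theorem L1 (h : Loc p R M A) (hno : ∀ g ∈ A, Inv g (Z1 K) → g ∈ M) : R = Qb K := by
  obtain ⟨g₀, hg₀, hb₀⟩ := h.data.exists_not_mem
  have e1 := Z1_le h
  obtain ⟨U, -, hU2, ⟨g, hg, hb, hi⟩, hmax⟩ :=
    exists_max (M := M) (P := A) (Z := ⊥) bot_le e1 hg₀ hb₀ U5.Inv.bot
  haveI : U.Normal := ⟨fun x hx t => by rwa [← comm_Z1 (hU2 hx), mul_inv_cancel_right]⟩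
  obtain ⟨z, hz, hzU⟩ : ∃ z ∈ Z1 K, z ∉ U := by
    by_contra! hle
    exact hb (hno g hg fun x hx hz => hU2 (hi x hx (hle x hz)))
  have hzR := e1 hz
  have C : ∀ g ∈ A, g ∉ M → Inv g U → ∀ x, x ∈ R ↔ cm (equivFun g z) x = 1 :=
    fun g hg hb hi x => ⟨fun hx => comm_iff_cm.1 (ef_comm g hzR hx (comm_Z1 hz _)), fun hx =>
      mem_of_max h.hW h.se le_rfl (fun t ht => h.cj_A ht) (hU2.trans e1)
      hzR (hmax z hz hzU) hg hb hi (fun r _ => bot_le (a := U) (cm_eq_one (comm_Z1 hz r)))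
      (bot_le (a := U) hx)⟩
  by_contra hne
  have C0 : ∀ g ∈ A, g ∉ M → Inv g U → (equivFun g z).a ≠ 0 := fun g hg hb hi ha => by
    have n1 : equivFun g z ∉ Z1 K := fun k => h.ne_top (eq_top_iff.2 fun t _ =>
      (C g hg hb hi t).2 (comm_iff_cm.1 (comm_Z1 k t)))
    exact (cent_Qa ha n1 (fun c2 => ef_sq c2 g hzR (Z1_le_Z2 hz)) (C g hg hb hi) hz g).elim hne n1
  have D := C g hg hb hi
  have ha := C0 g hg hb hi
  have hwR := equivFun_mem g hzR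
  have hsq := fun c2 => ef_sq c2 g hzR (Z1_le_Z2 hz)
  have TX : ∀ t, (∀ x ∈ R, cm x t ∈ R) → (equivFun g⁻¹ (cm (equivFun g z) t)).a = 0 → t ∈ R :=
    fun t hn e => by_contra fun htR => by
      have ht := mem_norm_of_cm hn
      refine C0 (g⁻¹ * conjAut R ht * g⁻¹⁻¹) (mul_mem (mul_mem (inv_mem hg) (h.cj_A ht))
        (inv_mem (inv_mem hg))) (fun hm => hb (inv_mem_iff.1 (h.se t ht htR _ (inv_mem hg) hm)))
        ((hi.inv.mul (inv_conjAut' ht)).mul hi.inv.inv) ?_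
      rw [ef_conj _ _ hzR, inv_inv, ← mul_inv_cancel_left (equivFun g z) (t * _ * _),
        ef_mul _ hwR (hn _ hwR), equivFun_inv_apply g hzR, mul_a, e, hz.1, add_zero]
  by_cases hwb : (equivFun g z).b = 0
  exacts [TX_b0 D ha hsq e1 TX hwb, TX_b1 D ha hsq e1 TX hwb]

theorem ess_cases {F : FusionSystem (⊤ : Subgroup (US K))} (hF : F.IsSaturated p)
    {R : Subgroup (US K)} (hR : F.IsEssential p R) : R = Qa K ∨ R = Qb K := by
  obtain ⟨M, h⟩ := exists_loc (isPGroup_US p) hF hR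
  by_cases hno : ∀ g ∈ F.autGroup R, Inv g (Z1 K) → g ∈ M
  · exact Or.inr (L1 h hno)
  · push Not at hno
    obtain ⟨g, hg, h1, hb⟩ := hno
    exact Or.inl (L2 h hg hb h1)

end Cfsg.Agent.D4
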