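import Cfsg.Agent.Lib.D4.Qb
import Cfsg.Agent.Lib.D4.Lin

/-!
# S5261: the automizer of `Qa` (see notes/TD_helper2.md, section Qa)
-/

set_option autoImplicit false
set_option linter.unusedSectionVars false
set_option linter.unusedVariables false

namespace Cfsg.Agent.D4

open Subgroup Cfsg Cfsg.FusionSystem US
open U5 (Inv Loc ef_mul ef_inv ef_one ef_cm ef_comm ef_conj mem_norm exists_vb exists_loc exists_ext
  exists_aut_of mem_of_lift)

variable {K : Type*} [Field K] [hK : TF K] {p : ℕ} [hp : Fact p.Prime] [CharP K p]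
  {x y : US K} {γ δ : MulAut (Qa K)}

/-- a section of `pv` -/
@[simps] def sv (v : VV K) : US K := ⟨0, v.b, v.c, v.d, v.e, 0, v.hb, v.he, by simp⟩

theorem sv_mem (v : VV K) : sv v ∈ Qa K := rfl

theorem inv_mul_Z1a (hx : x ∈ Qa K) (hy : y ∈ Qa K) (h : pv y = pv x) : x⁻¹ * y ∈ Z1 K := by
  obtain ⟨h1, h2, h3, h4⟩ := VV.ext_iff.1 h
  simp only [pv_b, pv_c, pv_d, pv_e] at h1 h2 h3 h4
  simp [mem_Z1, mem_Qa.1 hx, mem_Qa.1 hy, h1, h2, h3, h4]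

theorem exists_vba : ∃ w : MulAut (Qa K) →* (VV K ≃ₗ[ℤ] VV K),
    ∀ γ, ∀ x ∈ Qa K, w γ (pv x) = pv (equivFun γ x) :=
  exists_vb pv (fun x hx y _ => pv_mul hx) (fun v => ⟨sv v, rfl, rfl⟩) fun γ x hx h => by
    have := inv_Z1 le_rfl γ x hx (by simpa using inv_mul_Z1a (one_mem _) hx h)
    exact VV.ext this.2.1 this.2.2.1 this.2.2.2.1 this.2.2.2.2

theorem cm_Qa (hx : x ∈ Qa K) (hy : y ∈ Qa K) : cm x y = xf (BB (pv y) (pv x)) (fr_BB _ _) :=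
  ext_Z1 (cm_Z1 (.inr (.inr ⟨hx, hy⟩))) (xf_mem _ _) (cm_f_Qa hx hy)

theorem exists_rep {φ : K → K} (ha : ∀ x y, φ (x + y) = φ x + φ y) (hf : ∀ x, fr (φ x) = φ x)
    (hl : ∀ l x, fr l = l → φ (l * x) = l * φ x) : ∃ c, ∀ x, φ x = Tr (c * x) := by
  obtain ⟨θ, hθ⟩ := exists_ne K
  have key : ∀ c, ∀ A B C : K, fr A = A → fr B = B → fr C = C →
      Tr c + Tr (c * θ) * θ + Tr (c * sh θ) * sh θ = A + B * θ + C * sh θ →
      ∀ a b d, fr a = a → fr b = b → fr d = d →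
        Tr (c * (a + b * θ + d * sh θ)) = a * A + b * B + d * C := fun c A B C hA hB hC e a b d ha hb hd => by
    obtain ⟨h1, h2, h3⟩ := indep_sh hθ (a := Tr c - A) (b := Tr (c * θ) - B) (c := Tr (c * sh θ) - C)
      (by simp [hA]) (by simp [hB]) (by simp [hC]) (by linear_combination e)
    rw [mul_add, mul_add, Tr_add, Tr_add, mul_comm c a, mul_left_comm c b, mul_left_comm c d,
      Tr_smul ha, Tr_smul hb, Tr_smul hd]
    linear_combination a * h1 + b * h2 + d * h3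
  obtain ⟨c, hc⟩ := surj_of_ker (f := fun c => Tr c + Tr (c * θ) * θ + Tr (c * sh θ) * sh θ)
    (fun x y => by simp only [add_mul, Tr_add]; ring) (fun c e => eq_zero_of_Tr fun y => by
      obtain ⟨a, b, d, ha, hb, hd, rfl⟩ := span_sh hθ y
      simpa using key c 0 0 0 (by simp) (by simp) (by simp) (by simpa using e) a b d ha hb hd)
    (φ 1 + φ θ * θ + φ (sh θ) * sh θ)
  refine ⟨c, fun y => ?_⟩
  obtain ⟨a, b, d, ha', hb, hd, rfl⟩ := span_sh hθ y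
  rw [key c _ _ _ (hf _) (hf _) (hf _) hc a b d ha' hb hd, ha, ha, hl _ _ hb, hl _ _ hd, ← hl _ _ ha',
    mul_one]

theorem exists_repV (hq : ∀ l : K, fr l = l → l = 0 ∨ l = 1) {D : VV K → K}
    (ha : ∀ x y, D (x + y) = D x + D y) (hf : ∀ x, fr (D x) = D x) : ∃ v, ∀ x, D x = BB v x := by
  have h0 : D 0 = 0 := by simpa using ha 0 0
  have key : ∀ s : K → VV K, (∀ x y, s (x + y) = s x + s y) → ∃ c, ∀ x, D (s x) = Tr (c * x) :=
    fun s hs => exists_rep (fun x y => by rw [hs, ha]) (fun x => hf _) fun l x hl => by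
      have : s 0 = 0 := by simpa using hs 0 0
      rcases hq l hl with rfl | rfl <;> simp [this, h0]
  obtain ⟨c, hc⟩ := key vc fun x y => by ext <;> simp
  obtain ⟨d, hd⟩ := key vd fun x y => by ext <;> simp
  have sm : ∀ (l : kk K) x, D (l • x) = l * D x := fun l x => by
    rcases hq l l.2 with e | e
    · rw [show l • x = 0 by ext <;> simp [e], h0, e, zero_mul]
    · rw [show l • x = x by ext <;> simp [e], e, one_mul]
  refine ⟨⟨D ve, -d, c, -D vb, hf _, by simp [hf]⟩, fun x => ?_⟩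
  have : x = (⟨x.b, x.hb⟩ : kk K) • vb + vc x.c + vd x.d + (⟨x.e, x.he⟩ : kk K) • ve := by
    ext <;> simp
  conv_lhs => rw [this, ha, ha, ha, sm, sm, hc, hd]
  simp [BB, Tr_neg]; ring

section
variable {w : MulAut (Qa K) →* (VV K ≃ₗ[ℤ] VV K)}
  (hw : ∀ γ, ∀ x ∈ Qa K, w γ (pv x) = pv (equivFun γ x))
include hw

theorem w_ext {φ : VV K → VV K} (h : ∀ x ∈ Qa K, pv (equivFun γ x) = φ (pv x)) (v : VV K) :
    w γ v = φ v := (hw γ (sv v) rfl).trans (h _ rfl)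

theorem w_conj {t : US K} (h : ∀ x ∈ Qa K, equivFun γ x = t * x * t⁻¹) (v : VV K) :
    w γ v = uu t.a v := w_ext hw (fun x hx => by rw [h x hx, pv_conj t hx]) v

theorem w_BB (γ : MulAut (Qa K)) (u v : VV K) :
    BB (w γ u) (w γ v) = (equivFun γ (xf (BB u v) (fr_BB _ _))).f := by
  rw [← show cm (sv v) (sv u) = xf (BB u v) _ from cm_Qa rfl rfl, ef_cm γ rfl rfl,
    cm_f_Qa (equivFun_mem γ rfl) (equivFun_mem γ rfl), ← hw _ _ rfl, ← hw _ _ rfl]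
  rfl

theorem ker_Z1 (e : w γ = 1) (hx : x ∈ Qa K) : x⁻¹ * equivFun γ x ∈ Z1 K :=
  inv_mul_Z1a hx (equivFun_mem γ hx) (by rw [← hw _ _ hx, e]; rfl)

theorem ker_fix (e : w γ = 1) (hx : x ∈ Z1 K) : equivFun γ x = x := by
  have h1 : x = xf (BB vb ((⟨x.f, x.hf⟩ : kk K) • ve)) (fr_BB _ _) :=
    ext_Z1 hx (xf_mem _ _) (by simp [BB])
  refine ext_Z1 (inv_Z1 le_rfl γ x hx.1 hx) hx ?_
  rw [h1, ← w_BB hw, e]; rfl

theorem qa_fpf {k y : MulAut (Qa K)} {ν : K} (h0 : ν ≠ 0) (h1 : Nm ν ≠ 1) (h2 : ν ^ 2 ≠ Nm ν)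
    (hk : ∀ x ∈ Qa K, equivFun k x = tauF (kpar ν h0) x) (hy : w y = 1) (e : k * y * k⁻¹ = y) :
    y = 1 := by
  have n0 : Nm ν ≠ 0 := by simpa using h0
  have hN : Nm (ν ^ 2) = Nm ν ^ 2 := by rw [sq, sq, Nm_mul]
  have hS : sh (ν ^ 2) = Nm ν ^ 2 / ν ^ 2 := by rw [sq, sh_mul, ← mul_sh]; field_simp
  have n1 := sub_ne_zero.2 h1
  have n2 := sub_ne_zero.2 h1.symm
  have n3 := sub_ne_zero.2 h2
  have n4 := sub_ne_zero.2 h2.symm
  refine mulEquiv_ext_equivFun fun x hx => ?_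
  let v : VV K := ⟨x.b * Nm ν / (1 - Nm ν), x.c * Nm ν / (ν ^ 2 - Nm ν), x.d * ν ^ 2 / (Nm ν - ν ^ 2),
    x.e / (Nm ν - 1), by simp, by simp⟩
  have h3 := mul_mem (inv_mem (sv_mem v)) (equivFun_mem k (sv_mem v))
  rw [equivFun_one hx]
  refine fix_of_mod h3 hx (fix_of_weight (Z := Z1 K) (fun z hz r _ => comm_Z1 hz r) (fun z hz => ?_) e
    (sv_mem v) (ker_Z1 hw hy rfl)) (ker_fix hw hy (inv_mul_Z1a h3 hx ?_))
  · rw [hk z hz.1]
    ext <;> simp [hz.1, hz.2.1, hz.2.2.1, hz.2.2.2.1, hz.2.2.2.2, hN]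
    field_simp
  · rw [hk _ rfl]
    ext <;> simp [v, hN, hS] <;> field_simp <;> ring

theorem ker_inn (hq : ∀ l : K, fr l = l → l = 0 ∨ l = 1) (e : w γ = 1) : γ ∈ Inn (Qa K) := by
  have z := fun x (hx : x ∈ Qa K) => ker_Z1 hw e hx
  have m : ∀ x ∈ Qa K, ∀ y ∈ Qa K, ((x * y)⁻¹ * equivFun γ (x * y)).f =
      (x⁻¹ * equivFun γ x).f + (y⁻¹ * equivFun γ y).f := fun x hx y hy => by
    rw [← mul_f_Z1 (z x hx), ef_mul γ hx hy, ← mul_assoc (x⁻¹ * _), comm_Z1 (z x hx)]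
    congr 1; group
  have c : ∀ x ∈ Qa K, (x⁻¹ * equivFun γ x).f = ((sv (pv x))⁻¹ * equivFun γ (sv (pv x))).f :=
    fun x hx => by
      have h1 := inv_mul_Z1a (sv_mem (pv x)) hx rfl
      have := m _ (sv_mem (pv x)) _ h1.1
      rwa [ker_fix hw e h1, inv_mul_cancel, one_f, add_zero, mul_inv_cancel_left] at this
  obtain ⟨v, hv⟩ := exists_repV hq (D := fun v => ((sv v)⁻¹ * equivFun γ (sv v)).f)
    (fun u v => by
      rw [← m _ rfl _ rfl, c _ (mul_mem (sv_mem u) (sv_mem v)), pv_mul (sv_mem u)]; rfl)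
    fun v => US.hf _
  refine mem_inn_iff.2 ⟨sv v, rfl, fun x => ?_⟩
  rw [← equivFun_coe, ← mul_right_inj (x : US K)⁻¹]
  exact ext_Z1 (z _ x.2) (cm_Z1 (.inr (.inr ⟨x.2, rfl⟩)))
    (by rw [c _ x.2, cm_f_Qa x.2 (sv_mem v)]; exact hv _)

variable {M A : Subgroup (MulAut (Qa K))} (h : Loc p (Qa K) M A)
include h

theorem qa_ker (hγ : γ ∈ A) (e : w γ = 1) : γ ∈ Inn (Qa K) := by
  obtain ⟨t, ht, e⟩ := h.inn_of_chain (H7.chain2_monotone (Z1 K)) rfl (n := 2) rfl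
    (fun g _ i => match i with | 0 => U5.Inv.bot | 1 => inv_Z1 le_rfl g | _ + 2 => U5.Inv.top) hγ
    fun i x hx hi => match i, hi with
    | 0, hi => by rw [ker_fix hw e hi, inv_mul_cancel]; exact one_mem _
    | 1, _ => ker_Z1 hw e hx
    | _ + 2, _ => trivial
  exact mem_inn_iff.2 ⟨t, ht, fun x => by rw [← e x x.2, equivFun_coe]⟩

theorem qa_norm (hγ : γ ∈ A) (hn : ∀ u ∈ (autInducedBy ⊤ (Qa K)).map w,
    w γ * u * (w γ)⁻¹ ∈ (autInducedBy ⊤ (Qa K)).map w) (t : US K) :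
    γ * conjAut (Qa K) (mem_norm t) * γ⁻¹ ∈ autInducedBy ⊤ (Qa K) := by
  obtain ⟨τ, hτ, e⟩ := hn _ (mem_map_of_mem w (U5.Loc.cj_T (mem_norm t)))
  simpa using mul_mem hτ (h.data.I_le (qa_ker hw h
    (γ := τ⁻¹ * (γ * conjAut (Qa K) (mem_norm t) * γ⁻¹)) (mul_mem (inv_mem (h.data.mem_A hτ))
    (mul_mem (mul_mem hγ (h.cj_A _)) (inv_mem hγ))) (by rw [map_mul, map_inv, e, map_mul, map_mul, map_inv, inv_mul_cancel])))

theorem qa_hyp0 : Hyp0 p ((autInducedBy ⊤ (Qa K)).map w) (A.map w) := by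
  classical
  refine ⟨h.data.sylow.map w, fun g => ⟨?_, ?_⟩, ?_⟩
  · rintro ⟨τ, hτ, rfl⟩
    obtain ⟨t, -, -, e⟩ := mem_autInducedBy_iff'.1 hτ
    exact ⟨t.a, w_conj hw e⟩
  · rintro ⟨t, e⟩
    exact ⟨_, U5.Loc.cj_T (mem_norm (xa t)), LinearEquiv.ext fun v =>
      (w_conj hw (fun x hx => equivFun_conjAut _ hx) v).trans (e v).symm⟩
  · rintro _ ⟨γ, -, rfl⟩
    exact ⟨fun f => if h : fr f = f then (equivFun γ (xf f h)).f else 0, fun u v => by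
      simp only [w_BB hw, fr_BB, dif_pos]⟩

end

variable {F : FusionSystem (⊤ : Subgroup (US K))} (hF : F.IsSaturated p)

section
variable {w : MulAut (Qa K) →* (VV K ≃ₗ[ℤ] VV K)}
  (hw : ∀ γ, ∀ x ∈ Qa K, w γ (pv x) = pv (equivFun γ x))
  {M : Subgroup (MulAut (Qa K))} (h : Loc p (Qa K) M (F.autGroup (Qa K)))
include hF hw h

theorem qa_ext (hγ : γ ∈ F.autGroup (Qa K)) (hn : ∀ u ∈ (autInducedBy ⊤ (Qa K)).map w,
    w γ * u * (w γ)⁻¹ ∈ (autInducedBy ⊤ (Qa K)).map w) :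
    ∃ f, F.IsIso ⊤ ⊤ f ∧ ∀ x ∈ Qa K, f x = equivFun γ x :=
  exists_ext (isPGroup_US p) hF hγ fun t => by
    obtain ⟨s, -, -, e⟩ := mem_autInducedBy_iff'.1 (qa_norm hw h hγ hn t)
    refine ⟨s, fun x hx => ?_⟩
    rw [← e _ (equivFun_mem γ hx), ef_conj _ _ (equivFun_mem γ hx), equivFun_inv_apply _ hx]

theorem qa_std (hs : Std F) (hγ : γ ∈ F.autGroup (Qa K)) (hn : ∀ u ∈ (autInducedBy ⊤ (Qa K)).map w,
    w γ * u * (w γ)⁻¹ ∈ (autInducedBy ⊤ (Qa K)).map w) :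
    ∃ s t, F.IsIso ⊤ ⊤ (tauF t) ∧ ∀ v, w γ v = uu s (tv t v) := by
  obtain ⟨f, hf, e1⟩ := qa_ext hF hw h hγ hn
  obtain ⟨s, t, e2⟩ := hs f hf
  exact ⟨s.a, t, isIso_tauF hf e2, w_ext hw fun x hx => by
    rw [← e1 x hx, e2, pv_conj s (by simp [mem_Qa, mem_Qa.1 hx]), pv_tauF]⟩

theorem qa_hyp (hs : Std F)
    (hh : ∀ (l : K) (h0 : l ≠ 0) (h : fr l = l), F.IsIso ⊤ ⊤ (tauF (hpar l h0 h))) :
    Hyp p ((autInducedBy ⊤ (Qa K)).map w) ((F.autGroup (Qa K)).map w) := by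
  refine ⟨qa_hyp0 hw h, ?_, ?_, fun l h0 hl => ?_, fun hn => ?_⟩
  · rintro c2 _ ⟨γ, -, rfl⟩ v e
    have h1 : sv v * sv v = 1 := by
      have := sq_f_Qa (sv_mem v)
      ext <;> simp [← two_mul, c2]
      simpa [e, show pv (sv v) = v from rfl] using this
    have h2 := sq_f_Qa (equivFun_mem γ (sv_mem v))
    rw [← ef_mul γ rfl rfl, h1, ef_one, c2, ← hw _ _ rfl] at h2
    exact (by simpa using h2.symm : qq (w γ (pv (sv v))) = 0)
  · rintro _ ⟨γ, hγ, rfl⟩ hn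
    obtain ⟨s, t, -, e⟩ := qa_std hF hw h hs hγ hn
    exact ⟨s, t, e⟩
  · obtain ⟨k, k1, k2⟩ := exists_res (R := Qa K) (hh l h0 hl) fun x hx => by
      simp [mem_Qa, mem_Qa.1 hx]
    exact ⟨_, mem_map_of_mem w k1, w_ext hw fun x hx => by rw [k2 x hx, pv_tauF]⟩
  · obtain ⟨g, hg, hb⟩ := h.data.exists_not_mem
    exact hb (h.se (xa 1) (mem_norm _) one_ne_zero g hg
      (h.data.le_M (qa_norm hw h hg (hn _ (mem_map_of_mem w hg)) _)))

end

variable (hs : Std F) (hE : F.IsEssential p (Qa K))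
  (hh : ∀ (l : K) (h0 : l ≠ 0) (h : fr l = l), F.IsIso ⊤ ⊤ (tauF (hpar l h0 h)))
include hF hs hE hh

theorem qa_k (ν : K) (h0 : ν ≠ 0) : F.IsIso ⊤ ⊤ (tauF (kpar ν h0)) := by
  obtain ⟨w, hw⟩ := exists_vba (K := K)
  obtain ⟨M, h⟩ := exists_loc (isPGroup_US p) hF hE
  have H := qa_hyp hF hw h hs hh
  obtain ⟨_, ⟨γ, hγ, rfl⟩, e⟩ := lin_h H ν h0
  obtain ⟨s, t, ht, e1⟩ := qa_std hF hw h hs hγ (H.norm (mem_map_of_mem w hγ) fun x hx => by
    rw [e]; exact ⟨by simp [hx.1], by simp [hx.2.1], by simp [hx.2.2]⟩)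
  have n0 : Nm ν ≠ 0 := by simpa using h0
  have k1 : (t.b : K) = (Nm ν)⁻¹ := by simpa [e] using (congrArg VV.b (e1 vb)).symm
  have k2 : ∀ c, t.a * t.σ c = ν ^ 2 * c := fun c => by
    have := congrArg VV.c (e1 (vc c))
    simp [e, k1] at this
    field_simp at this
    exact this.symm
  have k3 : (t.a : K) = ν ^ 2 := by simpa using k2 1
  have : t = kpar ν h0 := by
    ext
    · simp [k3]
    · simp [k1]
    · next x => simpa [k3, h0] using k2 x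
  exact this ▸ ht

theorem qa_n : F.IsMor (Qa K) na := by
  obtain ⟨w, hw⟩ := exists_vba (K := K)
  obtain ⟨M, h⟩ := exists_loc (isPGroup_US p) hF hE
  obtain ⟨N, hN⟩ := exists_aut_of (R := Qa K) (f := na) (g := fun x => na (na (na x)))
    (fun x hx y hy => na_mul hx hy) (fun x _ => na_mem x) fun x hx => na_four hx
  obtain ⟨_, ⟨γ, hγ, rfl⟩, e⟩ := lin_n (qa_hyp hF hw h hs hh)
  have e1 : w γ = w N := LinearEquiv.ext fun v => by
    rw [e, w_ext hw (φ := nv) fun x hx => by rw [hN x hx, pv_na]]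
  refine (isMor_of_mem_autGroup le_top ?_).congr hN
  by_cases hq : ∀ l : K, fr l = l → l = 0 ∨ l = 1
  · simpa using mul_mem (inv_mem (F.inn_le_autGroup le_top
      (ker_inn hw hq (γ := γ * N⁻¹) (by simp [e1])))) hγ
  obtain ⟨ν, n0, n1, n2⟩ : ∃ ν : K, ν ≠ 0 ∧ Nm ν ≠ 1 ∧ ν ^ 2 ≠ Nm ν := by
    push Not at hq
    obtain ⟨l, hl, l0, l1⟩ := hq
    obtain ⟨t, rfl⟩ := exists_Nm hl
    have t0 : t ≠ 0 := by simpa using l0
    by_cases c : t ^ 2 = Nm t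
    · obtain ⟨μ, m0, m1, m2⟩ := exists_norm_one (K := K)
      exact ⟨t * μ, mul_ne_zero t0 m0, by rwa [Nm_mul, m1, mul_one], by
        rw [Nm_mul, m1, mul_pow, c]; exact fun e => m2 (mul_left_cancel₀ l0 e)⟩
    · exact ⟨t, t0, l1, c⟩
  have mq : ∀ t : Par K, ∀ x ∈ Qa K, tauF t x ∈ Qa K := fun t x hx => by simp [mem_Qa, mem_Qa.1 hx]
  obtain ⟨k, k1, k2⟩ := exists_res (R := Qa K) (qa_k hF hs hE hh ν⁻¹ (inv_ne_zero n0)) (mq _)
  obtain ⟨k', k1', k2'⟩ := exists_res (R := Qa K) (qa_k hF hs hE hh ν n0) (mq _)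
  haveI : (Inn (Qa K)).Normal := normalizer_eq_top_iff.1 (eq_top_iff.2 (le_normalizer_inn ⊤))
  refine mem_of_lift w (I := Inn (Qa K)) (F.inn_le_autGroup le_top) (fun i hi => ?_)
    (fun δ hδ e => qa_ker hw h hδ e) hγ e1 k1 k1' (mulEquiv_ext_equivFun fun x hx => ?_)
    fun y hy e => qa_fpf hw n0 n1 n2 k2' hy e
  · obtain ⟨t, ht, e⟩ := mem_inn_iff.1 hi
    refine LinearEquiv.ext fun v => ?_
    rw [w_conj hw (t := t) (fun x hx => by rw [equivFun_of_mem _ hx, e]), mem_Qa.1 ht, uu_zero]; rfl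
  · rw [equivFun_mul _ _ hx, equivFun_mul _ _ hx, hN _ (equivFun_mem _ hx), k2 x hx, hN x hx,
      k2' _ (na_mem x)]
    have f1 := fr_ne_zero n0
    have f2 := fr_ne_zero f1
    ext <;> simp [Nm, Tr, sh] <;> field_simp <;> simp

theorem qa_gen {E : FusionSystem (⊤ : Subgroup (US K))}
    (h1 : ∀ f, F.IsIso ⊤ ⊤ f → E.IsMor ⊤ f) (h2 : E.IsMor (Qa K) na) {f : US K → US K}
    (hf : F.IsIso (Qa K) (Qa K) f) : E.IsMor (Qa K) f := by
  obtain ⟨w, hw⟩ := exists_vba (K := K)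
  obtain ⟨M, h⟩ := exists_loc (isPGroup_US p) hF hE
  have H := qa_hyp hF hw h hs hh
  have key : ∀ γ ∈ F.autGroup (Qa K), FixL (w γ) → E.IsMor (Qa K) (equivFun γ) := fun γ hγ e => by
    obtain ⟨f, hf, e1⟩ := qa_ext hF hw h hγ (H.norm (mem_map_of_mem w hγ) e)
    exact ((h1 f hf).mono le_top).congr e1
  obtain ⟨γ, hγ, e⟩ := hf.exists_aut
  by_cases hc : FixL (w γ)
  · exact (key γ hγ hc).congr e
  obtain ⟨t, ht⟩ := lin_move H (mem_map_of_mem w hγ) hc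
  obtain ⟨N, hN, eN⟩ := ((qa_n hF hs hE hh).isIso_self fun x _ => na_mem x).exists_aut
  have k := key (N * (conjAut (Qa K) (mem_norm (xa t)) * γ))
    (mul_mem hN (mul_mem (h.cj_A _) hγ)) fun v hv => by
      simp only [map_mul, LinearEquiv.mul_apply]
      rw [w_ext hw (φ := nv) fun x hx => by rw [eN x hx, pv_na],
        w_conj hw (t := xa t) fun x hx => equivFun_conjAut _ hx]
      exact ht v hv
  refine ((E.isMor_conj le_rfl (mem_top (xa t)⁻¹)).comp' (h2.comp' (h2.comp' (h2.comp' k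
    fun x hx => equivFun_mem _ hx) fun _ _ => na_mem _) fun _ _ => na_mem _)
    fun _ _ => trivial).congr fun x hx => ?_
  have hx' := equivFun_mem γ hx
  rw [equivFun_mul _ _ hx, eN _ (equivFun_mem _ hx), na_four (equivFun_mem _ hx),
    equivFun_mul _ _ hx, equivFun_conjAut _ hx', e x hx]
  group

end Cfsg.Agent.D4
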