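import Cfsg.Agent.Lib.D4.PartA

/-!
# S5261: the automizer of `Qb` (see notes/TD_helper2.md, section Qb)
-/

set_option autoImplicit false
set_option linter.unusedSectionVars false
set_option linter.unusedVariables false

namespace Cfsg.Agent.D4

open Subgroup Cfsg Cfsg.FusionSystem US
open U5 (Inv Loc ef_mul ef_inv ef_one ef_cm ef_comm ef_conj mem_norm exists_vb exists_loc exists_ext
  conj_mem_chainStab exists_aut_of mem_of_lift)

variable {K : Type*} [Field K] [hK : TF K] {p : ℕ} [hp : Fact p.Prime] [CharP K p]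
  {x y : US K} {γ δ : MulAut (Qb K)} {m n r s m' n' r' s' : K}

theorem invb_Z2 (γ : MulAut (Qb K)) : Inv γ (Z2 K) := fun x hx hZ =>
  mem_Z2_of_comm fun z hz => ef_comm γ hx hz.2 (comm_Z2 hZ (equivFun_mem _ hz.2))

theorem mem_Z3_of_cm (hx : x ∈ Qb K) (h : ∀ y ∈ Qb K, cm x y ∈ Z2 K) : x ∈ Z3 K :=
  ⟨eq_zero_of_cr_all fun c => by
      simpa [cr_comm] using (cm_d2 (xc_mem c)).symm.trans (h (xc c) rfl).2.2.2, hx,
    eq_zero_of_cr_all fun a => by simpa using (cm_db hx (xa_mem a)).symm.trans (h (xa a) rfl).2.2.2⟩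

theorem invb_Z3 (γ : MulAut (Qb K)) : Inv γ (Z3 K) := fun x hx hZ =>
  mem_Z3_of_cm (equivFun_mem γ hx) fun y hy => (invb_Z2 γ).cm hx hy (cm_Z2 (.inl hZ))

theorem inv_Z1_of_Z4 {R : Subgroup (US K)} {γ : MulAut R} (hR : Z4 K ≤ R) (h : Inv γ (Z4 K)) :
    Inv γ (Z1 K) := fun z _ hz => by
  obtain ⟨d, hd⟩ := exists_Tr (one_ne_zero (α := K)) z.hf
  have h1 := xc_mem (1 : K)
  have h2 := Z3_le_Z4 (xd_mem d)
  rw [← ext_Z1 (cm_Z1 (.inr (.inr ⟨h1.1, h2.1⟩))) hz (by rw [cm_f4 (xd_mem d), ← hd]; simp),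
    ef_cm γ (hR h1) (hR h2)]
  exact cm_Z1 (.inr (.inr ⟨(h _ (hR h1) h1).1, (h _ (hR h2) h2).1⟩))

/-- `γ` acts on `Qb / Z3` by a matrix -/
def Mat (γ : MulAut (Qb K)) (m n r s : K) : Prop :=
  ∀ x ∈ Qb K, (equivFun γ x).a = m * x.a + n * x.c ∧ (equivFun γ x).c = r * x.a + s * x.c

theorem Mat.mul (h : Mat γ m n r s) (h' : Mat δ m' n' r' s') : Mat (γ * δ) (m * m' + n * r')
    (m * n' + n * s') (r * m' + s * r') (r * n' + s * s') := fun x hx => by
  have h1 := h _ (equivFun_mem δ hx)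
  rw [equivFun_mul _ _ hx, h1.1, h1.2, (h' x hx).1, (h' x hx).2]
  constructor <;> ring

theorem mat_conj (t : US K) : Mat (conjAut (Qb K) (mem_norm t)) 1 0 (-t.b) 1 := fun x hx => by
  rw [equivFun_conjAut _ hx]; simp [mem_Qb.1 hx]; ring

theorem mul_Z2 (hx : x ∈ Z2 K) : (x * y).e = x.e + y.e ∧ (x * y).f = x.f + y.f := by
  simp [hx.1, hx.2.1, hx.2.2.1]

theorem ef_pair (h : ∀ d, (equivFun γ (xd d)).d = d) (hx : x ∈ Qb K) (d : K) :
    (equivFun γ (cm x (xd d))).e = -Tr ((equivFun γ x).a * d) ∧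
      (equivFun γ (cm x (xd d))).f = Tr ((equivFun γ x).c * d) := by
  have h3 := invb_Z3 γ _ rfl (xd_mem d)
  rw [ef_cm γ hx rfl, cm_e4 h3, cm_f4 h3, h, mem_Qb.1 (equivFun_mem γ hx)]
  simp

theorem mat_of_triv (h : ∀ d, (equivFun γ (xd d)).d = d) :
    ∃ m n r s, fr m = m ∧ fr n = n ∧ fr r = r ∧ fr s = s ∧ Mat γ m n r s := by
  obtain ⟨e, he⟩ := exists_Tr (one_ne_zero (α := K)) fr_one
  have z : ∀ (x : US K) d, cm x (xd d) ∈ Z2 K := fun x d => cm_Z2 (.inr (xd_mem d))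
  refine ⟨Tr ((equivFun γ (xa 1)).a * e), Tr ((equivFun γ (xc 1)).a * e),
    Tr ((equivFun γ (xa 1)).c * e), Tr ((equivFun γ (xc 1)).c * e), by simp, by simp, by simp,
    by simp, fun x hx => ?_⟩
  have key : ∀ d, equivFun γ (cm x (xd d)) = equivFun γ (cm (xa 1) (xd (Tr (x.a * d) * e))) *
      equivFun γ (cm (xc 1) (xd (Tr (x.c * d) * e))) := fun d => by
    rw [← ef_mul γ (Z2_le_Qb (z _ _)) (Z2_le_Qb (z _ _))]
    rw [one_mul] at he
    refine congrArg _ (ext_Z2 (z _ _) (mul_mem (z _ _) (z _ _)) ?_ ?_)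
    · rw [(mul_Z2 (z _ _)).1, cm_e4 (xd_mem _), cm_e4 (xd_mem _), cm_e4 (xd_mem _)]
      simp [Tr_smul, he]
    · rw [(mul_Z2 (z _ _)).2, cm_f4 (xd_mem _), cm_f4 (xd_mem _), cm_f4 (xd_mem _)]
      simp [Tr_smul, he]
  have sm : ∀ u v w : K, Tr (u * (Tr v * w)) = Tr v * Tr (u * w) := fun u v w => by
    rw [mul_left_comm, Tr_smul (fr_Tr _)]
  have hz := fun (x : US K) d => invb_Z2 γ _ (Z2_le_Qb (z x d)) (z x d)
  refine ⟨sub_eq_zero.1 (eq_zero_of_Tr fun d => ?_), sub_eq_zero.1 (eq_zero_of_Tr fun d => ?_)⟩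
  · have := congrArg US.e (key d)
    rw [(mul_Z2 (hz _ _)).1, (ef_pair h hx _).1, (ef_pair h rfl _).1, (ef_pair h rfl _).1, sm, sm] at this
    rw [sub_mul, add_mul, Tr_sub, Tr_add, mul_assoc, mul_assoc, Tr_smul (fr_Tr _), Tr_smul (fr_Tr _)]
    linear_combination -this
  · have := congrArg US.f (key d)
    rw [(mul_Z2 (hz _ _)).2, (ef_pair h hx _).2, (ef_pair h rfl _).2, (ef_pair h rfl _).2, sm, sm] at this
    rw [sub_mul, add_mul, Tr_sub, Tr_add, mul_assoc, mul_assoc, Tr_smul (fr_Tr _), Tr_smul (fr_Tr _)]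
    linear_combination this


theorem ef_conj' {W : Type*} [Group W] {R : Subgroup W} (γ : MulAut R) {t y : W}
    (ht : t ∈ normalizer (R : Set W)) (hy : y ∈ R) (h : cm y t ∈ R) :
    equivFun (γ * conjAut R ht * γ⁻¹) (equivFun γ y) = equivFun γ y * equivFun γ (cm y t) := by
  rw [ef_conj _ _ (equivFun_mem γ hy), equivFun_inv_apply _ hy, ← ef_mul _ hy h, mul_inv_cancel_left]

theorem qb_cases (γ : MulAut (Qb K)) : Inv γ (Z4 K) ∨ ∃ m n r s, fr m = m ∧ fr n = n ∧ fr s = s ∧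
    n ≠ 0 ∧ m * s - n * r = 1 ∧ Mat (γ * conjAut (Qb K) (mem_norm (xb 1 fr_one)) * γ⁻¹) m n r s ∧
    ∀ y ∈ Z4 K, (equivFun γ y).c = (1 - m) / n * (equivFun γ y).a := by
  have E := fun y hy => ef_conj' γ (mem_norm (xb 1 fr_one)) (y := y) hy (cm_b _ _)
  generalize γ * conjAut (Qb K) (mem_norm (xb 1 fr_one)) * γ⁻¹ = u at E
  obtain ⟨m, n, r, s, hm, hn, hr, hs, h⟩ := mat_of_triv (γ := u) fun d => by
    have k := invb_Z3 γ⁻¹ _ rfl (xd_mem d)
    have k1 := invb_Z2 γ _ (cm_b _ _) (cm_Z2 (y := xb 1 fr_one) (.inl k))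
    have := E _ k.2.1
    rw [equivFun_apply_inv γ (xd_mem d).2.1] at this
    simp [this, k1.2.2.2]
  have P1 : ∀ y ∈ Z4 K, m * (equivFun γ y).a + n * (equivFun γ y).c = (equivFun γ y).a ∧
      r * (equivFun γ y).a + s * (equivFun γ y).c = (equivFun γ y).c := fun y hy => by
    have k := invb_Z3 γ _ (cm_b _ _) (cm_Z3 (y := xb 1 fr_one) (.inl hy))
    have := h _ (equivFun_mem γ hy.2)
    rw [E y hy.2, mul_a, mul_c, k.1, k.2.1, k.2.2] at this
    exact ⟨by simpa using this.1.symm, by simpa using this.2.symm⟩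
  have P2 : ∀ x ∈ Qb K, ∃ y ∈ Z4 K, y = cm (equivFun γ⁻¹ x) (xb 1 fr_one) ∧
      (equivFun γ y).a = (m - 1) * x.a + n * x.c ∧ (equivFun γ y).c = r * x.a + (s - 1) * x.c :=
    fun x hx => by
      have := h x hx
      have e := E _ (equivFun_mem γ⁻¹ hx)
      rw [equivFun_apply_inv γ hx] at e
      rw [e, mul_a, mul_c, mem_Qb.1 (equivFun_mem γ (cm_b _ _))] at this
      exact ⟨_, cm_Z4 _ _, rfl, by linear_combination this.1, by linear_combination this.2⟩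
  obtain ⟨y1, h1, -, a1, c1⟩ := P2 (xa 1) rfl
  obtain ⟨y2, h2, -, a2, c2⟩ := P2 (xc 1) rfl
  have k1 := (P1 y1 h1).1
  have k2 := P1 y2 h2
  simp only [a1, c1, a2, c2, xa_a, xa_c, xc_a, xc_c] at k1 k2
  by_cases n0 : n = 0
  · have m1 : m = 1 := sub_eq_zero.1 (pow_eq_zero_iff two_ne_zero |>.1 (by
      rw [n0] at k1; linear_combination k1))
    have s1 : s = 1 := sub_eq_zero.1 (pow_eq_zero_iff two_ne_zero |>.1 (by
      rw [n0] at k2; linear_combination k2.2))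
    have r0 : r ≠ 0 := fun r0 => by
      obtain ⟨y, hy, e, a3, c3⟩ := P2 _ (equivFun_mem γ (xa_mem 1))
      have := (invb_Z3 γ⁻¹ _ (equivFun_mem γ hy.2)
        ⟨by simp [a3, m1, n0], equivFun_mem γ hy.2, by simp [c3, r0, s1]⟩).2.2
      rw [equivFun_inv_apply γ hy.2, e, equivFun_inv_apply γ (xa_mem 1), cm_c] at this
      simp at this
    exact .inl fun y _ hy => ⟨by simpa [s1, r0] using (P1 y hy).2, equivFun_mem γ hy.2⟩
  · have tr : m + s - 2 = 0 := mul_left_cancel₀ n0 (by linear_combination k2.1)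
    refine .inr ⟨m, n, r, s, hm, hn, hs, n0, by linear_combination m * tr - k1, h, fun y hy => ?_⟩
    rw [div_mul_eq_mul_div, eq_div_iff n0]
    linear_combination (P1 y hy).1

theorem Qb_ne_Qa : Qb K ≠ Qa K := fun e => one_ne_zero (α := K) (e.le (xa_mem 1))

/-- the matrices induced by `A` -/
def PM (A : Subgroup (MulAut (Qb K))) (m n r s : K) : Prop := ∃ γ ∈ A, Mat γ m n r s

section
variable {M A : Subgroup (MulAut (Qb K))}

theorem PM.mul (h : PM A m n r s) (h' : PM A m' n' r' s') {a b c d : K} (e1 : a = m * m' + n * r')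
    (e2 : b = m * n' + n * s') (e3 : c = r * m' + s * r') (e4 : d = r * n' + s * s') :
    PM A a b c d := by
  obtain ⟨γ, hγ, h⟩ := h
  obtain ⟨δ, hδ, h'⟩ := h'
  exact ⟨_, mul_mem hγ hδ, e1 ▸ e2 ▸ e3 ▸ e4 ▸ h.mul h'⟩

variable (h : Loc p (Qb K) M A)
include h

theorem pm_low (hr : fr r = r) : PM A 1 0 r 1 :=
  ⟨_, h.cj_A (mem_norm (xb (-r) (by simp [hr]))), by
    have := mat_conj (xb (-r) (by simp [hr]))
    rwa [xb_b, neg_neg] at this⟩

theorem PM.step (h0 : PM A m n r s) (hm : fr m = m) (hn : fr n = n) (hs : fr s = s) (n0 : n ≠ 0)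
    (e : m * s - n * r = 1) : PM A 0 n (-n⁻¹) 0 :=
  (pm_low h (r := -s / n) (by simp [hs, hn])).mul (h0.mul (pm_low h (r := -m / n) (by simp [hm, hn]))
    (a := 0) (b := n) (c := -n⁻¹) (d := s) (by field_simp; ring) (by ring)
    (by field_simp; linear_combination e) (by ring)) (by ring) (by ring) (by ring)
    (by field_simp; ring)

theorem pm_w {l : K} (hl : fr l = l) (l0 : l ≠ 0) : PM A 0 l (-l⁻¹) 0 := by
  obtain ⟨g, hg, hb⟩ := h.data.exists_not_mem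
  obtain ⟨m, n, r, s, hm, hn, hs, n0, e, h1, -⟩ := (qb_cases g).resolve_left fun k =>
    Qb_ne_Qa (L2 h hg hb (inv_Z1_of_Z4 Z4_le_Qb k))
  have w := PM.step h ⟨_, mul_mem (mul_mem hg (h.cj_A _)) (inv_mem hg), h1⟩ hm hn hs n0 e
  have w2 : PM A (-1) 0 0 (-1) := w.mul w (by field_simp; ring) (by ring) (by ring) (by field_simp; ring)
  have w3 : PM A 0 (-n) n⁻¹ 0 := w2.mul w (by ring) (by ring) (by ring) (by ring)
  have u : PM A 1 l 0 1 := (w.mul (pm_low h (r := -l / n ^ 2) (by simp [hl, hn])) rfl rfl rfl rfl).mul w3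
    (by field_simp; ring) (by field_simp; ring) (by ring) (by field_simp; ring)
  exact u.step h fr_one hl fr_one l0 (by ring)

end

def pb (x : US K) : K × K := (x.a, x.c)

theorem exists_vbb : ∃ vb : MulAut (Qb K) →* ((K × K) ≃ₗ[ℤ] (K × K)),
    ∀ γ, ∀ x ∈ Qb K, vb γ (pb x) = pb (equivFun γ x) :=
  exists_vb pb (fun x hx y hy => by simp [pb, mem_Qb.1 hy])
    (fun v => ⟨xc v.2 * xa v.1, mul_mem rfl rfl, by simp [pb]⟩) fun γ x hx h => by
      have := invb_Z3 γ x hx ⟨congrArg Prod.fst h, hx, congrArg Prod.snd h⟩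
      exact Prod.ext this.1 this.2.2

theorem inv_mul_Z3b (hx : x ∈ Qb K) (hy : y ∈ Qb K) (h1 : y.a = x.a) (h2 : y.c = x.c) :
    x⁻¹ * y ∈ Z3 K := by simp [mem_Z3, mem_Qb.1 hx, mem_Qb.1 hy, h1, h2]

theorem exists_cr (d : K) : ∃ a c, cr a c = d := by
  obtain ⟨a, a0, h, -⟩ := exists_perp d 0
  exact ⟨a, cr_of_Tr a0 (by rwa [mul_comm])⟩

theorem triv_d (h : Mat γ 1 0 0 1) (hx : x ∈ Z3 K) : (equivFun γ x).d = x.d := by
  obtain ⟨a, c, e⟩ := exists_cr x.d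
  have h3 : cm (xc c) (xa a) ∈ Z3 K := cm_Z3 (.inl (xc_mem c))
  have := (invb_Z2 γ _ (mul_mem (inv_mem h3.2.1) hx.2.1)
    (inv_mul_Z2 h3 hx (by rw [cm_d1 (xc_mem c), ← e]; rfl))).2.2.2
  have z := invb_Z3 γ _ hx.2.1 hx
  rw [ef_mul γ (inv_mem h3.2.1) hx.2.1, ef_inv γ h3.2.1, mul_d, inv_d, z.2.1, z.2.2,
    (invb_Z3 γ _ h3.2.1 h3).1, ef_cm γ rfl rfl, cm_db (equivFun_mem γ rfl) (equivFun_mem γ rfl),
    (h _ rfl).1, (h _ rfl).1, (h _ rfl).2, (h _ rfl).2] at this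
  simp at this
  linear_combination this + e

theorem triv_Z2 (h : Mat γ 1 0 0 1) (hx : x ∈ Z2 K) : equivFun γ x = x := by
  obtain ⟨θ, hθ⟩ := exists_ne K
  obtain ⟨d, h1, h2⟩ := exists_Tr2 (a := 1) (c := θ) one_ne_zero
    (fun l hl e => hθ (by rw [e, mul_one, hl])) (A := -x.e) (by simp) x.hf
  have hy : xc θ * xa 1 ∈ Qb K := mul_mem rfl rfl
  have e : cm (xc θ * xa 1) (xd d) = x := ext_Z2 (cm_Z2 (.inr (xd_mem d))) hx
    (by rw [cm_e4 (xd_mem d)]; simpa [neg_eq_iff_eq_neg] using h1)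
    (by rw [cm_f4 (xd_mem d)]; simpa using h2)
  have k := ef_pair (fun d => triv_d h (xd_mem d)) hy d
  rw [e, (h _ hy).1, (h _ hy).2] at k
  exact ext_Z2 (invb_Z2 γ _ hx.2.1 hx) hx (by rw [k.1]; simpa [neg_eq_iff_eq_neg] using h1)
    (by rw [k.2]; simpa using h2)

theorem triv_Z3 (h : Mat γ 1 0 0 1) (hx : x ∈ Qb K) : x⁻¹ * equivFun γ x ∈ Z3 K :=
  inv_mul_Z3b hx (equivFun_mem γ hx) (by simpa using (h x hx).1) (by simpa using (h x hx).2)

/-- An additive cocycle into the center which is invariant under a fixed point free map vanishes. -/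
theorem fix_of_weight {W : Type*} [Group W] {R Z : Subgroup W} {y k : MulAut R}
    (hc : ∀ z ∈ Z, ∀ r ∈ R, z * r = r * z) (hZ : ∀ z ∈ Z, equivFun k z = z) (e : k * y * k⁻¹ = y)
    {x : W} (hx : x ∈ R) (h : x⁻¹ * equivFun y x ∈ Z) :
    equivFun y (x⁻¹ * equivFun k x) = x⁻¹ * equivFun k x := by
  have e' : y * k = k * y := by rw [← e, inv_mul_cancel_right, e]
  have h1 := hZ _ h
  rw [ef_mul k (inv_mem hx) (equivFun_mem y hx), ← equivFun_mul _ _ hx, ← e', equivFun_mul _ _ hx,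
    ef_inv k hx, inv_mul_eq_iff_eq_mul] at h1
  rw [ef_mul y (inv_mem hx) (equivFun_mem k hx), h1, ← hc _ h _ (equivFun_mem k hx), ef_inv y hx,
    ← mul_assoc, ← hc _ h _ (inv_mem (equivFun_mem y hx)), mul_inv_cancel_right]

theorem fix_of_mod {W : Type*} [Group W] {R : Subgroup W} {y : MulAut R} {v x : W} (hv : v ∈ R)
    (hx : x ∈ R) (h1 : equivFun y v = v) (h2 : equivFun y (v⁻¹ * x) = v⁻¹ * x) :
    equivFun y x = x := by
  rwa [ef_mul y (inv_mem hv) hx, ef_inv y hv, h1, mul_right_inj] at h2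

theorem qb_fpf {k y : MulAut (Qb K)} {t : Par K} (hN : Nm (t.a : K) = 1) (h1 : (t.a : K) ≠ 1)
    (tb : (t.b : K) = 1) (tσ : ∀ x, t.σ x = x) (hk : ∀ x ∈ Qb K, equivFun k x = tauF t x)
    (hy : Mat y 1 0 0 1) (e : k * y * k⁻¹ = y) : y = 1 := by
  have fw := fun x => fix_of_weight (Z := Z2 K) (x := x) (fun z hz r hr => comm_Z2 hz hr)
    (fun z hz => by
      rw [hk z hz.2.1]; ext <;> simp [hz.1, hz.2.1, hz.2.2.1, hz.2.2.2, hN, tb, tσ]) e
  have n1 : (t.a : K) - 1 ≠ 0 := sub_ne_zero.2 h1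
  have n2 : sh (t.a : K) - 1 ≠ 0 := fun e => h1 (by
    rw [← hN, ← mul_sh, sub_eq_zero.1 e, mul_one])
  have f3 : ∀ x ∈ Z3 K, equivFun y x = x := fun x hx => by
    have h0 := xd_mem (x.d / (sh (t.a : K) - 1))
    have h2 := invb_Z3 k _ h0.2.1 h0
    refine fix_of_mod (mul_mem (inv_mem h0.2.1) h2.2.1) hx.2.1
      (fw _ h0.2.1 (inv_mul_Z2 h0 (invb_Z3 y _ h0.2.1 h0) (triv_d hy h0).symm))
      (triv_Z2 hy (inv_mul_Z2 (mul_mem (inv_mem h0) h2) hx ?_))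
    rw [hk _ h0.2.1]; simp [tb, tσ]; field_simp; ring
  have E : ∀ x ∈ Qb K, ∀ x' ∈ Qb K,
      Tr (((equivFun y x).d - x.d) * x'.a) = Tr (x.a * ((equivFun y x').d - x'.d)) ∧
      Tr (((equivFun y x).d - x.d) * x'.c) = Tr (x.c * ((equivFun y x').d - x'.d)) :=
    fun x hx x' hx' => by
      have k := f3 _ (cm_Z3 (.inr (.inr ⟨hx, hx'⟩)))
      rw [ef_cm y hx hx'] at k
      have k1 := congrArg US.e k
      have k2 := congrArg US.f k
      rw [cm_eb hx hx', cm_eb (equivFun_mem y hx) (equivFun_mem y hx')] at k1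
      rw [cm_fb hx hx', cm_fb (equivFun_mem y hx) (equivFun_mem y hx')] at k2
      simp only [(hy x hx).1, (hy x hx).2, (hy x' hx').1, (hy x' hx').2, one_mul, zero_mul, add_zero,
        zero_add] at k1 k2
      simp only [sub_mul, mul_sub, Tr_sub]
      exact ⟨by linear_combination k1, by linear_combination -k2⟩
  have f2 : ∀ x ∈ Qb K, x⁻¹ * equivFun y x ∈ Z2 K := fun x hx => by
    have k : (equivFun y x).d - x.d = 0 := eq_zero_of_Tr fun a => by
      have k1 : (equivFun y (xa a)).d - (xa a).d = 0 := eq_zero_of_Tr fun c => by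
        simpa using (E (xa a) rfl (xc c) rfl).2
      have := (E x hx (xa a) rfl).1
      rwa [k1, mul_zero, Tr_zero] at this
    refine mem_Z2_of (triv_Z3 hy hx) ?_
    simp [(hy x hx).2, mem_Qb.1 hx, mem_Qb.1 (equivFun_mem y hx), cr]
    linear_combination k
  refine mulEquiv_ext_equivFun fun x hx => ?_
  have h0 : xc (x.c / (t.a - 1)) * xa (x.a / (t.a - 1)) ∈ Qb K := mul_mem rfl rfl
  have h2 := mul_mem (inv_mem h0) (equivFun_mem k h0)
  rw [equivFun_one hx]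
  refine fix_of_mod h2 hx (fw _ h0 (f2 _ h0)) (f3 _ (inv_mul_Z3b h2 hx ?_ ?_)) <;>
    rw [hk _ h0] <;> simp [tb, tσ] <;> field_simp <;> ring

theorem exists_norm_one : ∃ ν : K, ν ≠ 0 ∧ Nm ν = 1 ∧ ν ^ 2 ≠ 1 := by
  obtain ⟨θ, hθ⟩ := exists_ne K
  have h0 : θ ≠ 0 := by rintro rfl; simp at hθ
  have h1 := fr_ne_zero h0
  have h2 := fr_ne_zero h1
  have hN : Nm (fr θ / θ) = 1 := by simp [Nm]; field_simp
  refine ⟨_, div_ne_zero h1 h0, hN, fun e => hθ ((div_eq_one_iff_eq h0).1 ?_)⟩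
  rcases sq_eq_one_iff.1 e with e | e
  · exact e
  · rw [e] at hN ⊢; simpa [Nm] using hN

variable {F : FusionSystem (⊤ : Subgroup (US K))} (hF : F.IsSaturated p) (hs : Std F)
  (hE : F.IsEssential p (Qb K))
include hF hE

theorem qb_ext (hγ : γ ∈ F.autGroup (Qb K)) (h4 : Inv γ (Z4 K)) :
    ∃ f, F.IsIso ⊤ ⊤ f ∧ ∀ x ∈ Qb K, f x = equivFun γ x := by
  obtain ⟨M, h⟩ := exists_loc (isPGroup_US p) hF hE
  refine exists_ext (isPGroup_US p) hF hγ fun t => ?_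
  obtain ⟨s, e⟩ := h.conj_of_chain chZ_mono rfl (n := 5) rfl (fun t i x _ hx => chZ_cm t i x hx)
    (mul_mem (mul_mem hγ (h.cj_A (mem_norm t))) (inv_mem hγ))
    (conj_mem_chainStab chZ_mono (fun i => match i with
      | 0 => U5.Inv.bot | 1 => inv_Z1_of_Z4 Z4_le_Qb h4 | 2 => invb_Z2 γ | 3 => invb_Z3 γ | 4 => h4
      | _ + 5 => U5.Inv.top) ((H7.mem_chainStab chZ_mono).2 fun i x hx hi => by
      rw [equivFun_conjAut _ hx]; exact chZ_cm t i x hi))
  refine ⟨s, fun x hx => ?_⟩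
  rw [← e _ (equivFun_mem γ hx), ef_conj _ _ (equivFun_mem γ hx), equivFun_inv_apply _ hx]

include hs

theorem qb_h (l : K) (h0 : l ≠ 0) (h : fr l = l) : F.IsIso ⊤ ⊤ (tauF (hpar l h0 h)) := by
  obtain ⟨M, hL⟩ := exists_loc (isPGroup_US p) hF hE
  obtain ⟨γ, hγ, e⟩ := (pm_w hL (l := l⁻¹) (by simp [h]) (inv_ne_zero h0)).mul
    (pm_w hL (l := -1) (by simp) (by simp)) (a := l⁻¹) (b := 0) (c := 0) (d := l)
    (by simp) (by ring) (by ring) (by simp)
  obtain ⟨f, hf, e1⟩ := qb_ext hF hE hγ fun x hx h4 =>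
    ⟨by simp [(e x hx).1, h4.1], equivFun_mem γ hx⟩
  obtain ⟨s, t, e2⟩ := hs f hf
  have k1 : ∀ a : K, t.a * t.σ a = l⁻¹ * a := fun a => by
    simpa [← e1 _ (xa_mem a), e2] using (e _ (xa_mem a)).1
  have k2 : t.a * t.b = l := by
    have := (e _ (xc_mem 1).2).2
    simp [← e1 _ (xc_mem 1).2, e2] at this
    linear_combination this
  have k3 : (t.a : K) = l⁻¹ := by simpa using k1 1
  have : t = hpar l h0 h := by
    ext
    · simp [k3]
    · rw [k3] at k2; field_simp at k2; simp [k2]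
    · next x => simpa [k3, h0] using k1 x
  exact this ▸ isIso_tauF hf e2

theorem qb_n (hk : ∀ (ν : K) (h0 : ν ≠ 0), F.IsIso ⊤ ⊤ (tauF (kpar ν h0))) :
    F.IsMor (Qb K) nb := by
  obtain ⟨vb, hvb⟩ := exists_vbb (K := K)
  obtain ⟨M, h⟩ := exists_loc (isPGroup_US p) hF hE
  obtain ⟨N, hN⟩ := exists_aut_of (R := Qb K) (f := nb) (g := fun x => nb (nb (nb x)))
    (fun x hx y hy => nb_mul hx hy) (fun x _ => nb_mem x) fun x hx => nb_four hx
  obtain ⟨γ, hγ, e⟩ := pm_w h fr_one one_ne_zero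
  obtain ⟨ν, n0, n1, n2⟩ := exists_norm_one (K := K)
  obtain ⟨k, k1, k2⟩ := exists_res (R := Qb K) (hk ν n0) fun x hx => by simp [mem_Qb, mem_Qb.1 hx]
  have ext : ∀ {γ δ : MulAut (Qb K)}, (∀ x ∈ Qb K, pb (equivFun γ x) = pb (equivFun δ x)) →
      vb γ = vb δ := fun {γ δ} e => LinearEquiv.ext fun v => by
    have hx : xc v.2 * xa v.1 ∈ Qb K := mul_mem rfl rfl
    rw [show v = pb (xc v.2 * xa v.1) by simp [pb], hvb _ _ hx, hvb _ _ hx, e _ hx]
  have ker : ∀ {γ : MulAut (Qb K)}, vb γ = 1 → Mat γ 1 0 0 1 := fun {γ} e x hx => by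
    have := hvb γ x hx
    rw [e] at this
    simpa [pb, eq_comm] using this
  have hN2 : Nm (ν ^ 2) = 1 := by rw [sq, Nm_mul, n1, mul_one]
  haveI : (Inn (Qb K)).Normal := normalizer_eq_top_iff.1 (eq_top_iff.2 (le_normalizer_inn ⊤))
  have hNA := mem_of_lift vb (I := Inn (Qb K)) (F.inn_le_autGroup le_top) (fun i hi => by
      obtain ⟨t, ht, e⟩ := mem_inn_iff.1 hi
      refine (ext (δ := 1) fun x hx => ?_).trans (map_one vb)
      rw [equivFun_of_mem _ hx, e, equivFun_one hx]; ext <;> simp [pb, mem_Qb.1 ht, mem_Qb.1 hx])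
    (fun δ hδ e => by
      obtain ⟨t, ht, e⟩ := h.inn_of_chain (U5.ch3_mono Z2_le_Z3) rfl (n := 3) rfl
        (fun g _ i => match i with
          | 0 => U5.Inv.bot | 1 => invb_Z2 g | 2 => invb_Z3 g | _ + 3 => U5.Inv.top) hδ
        fun i x hx hi => match i, hi with
        | 0, hi => by rw [triv_Z2 (ker e) hi, inv_mul_cancel]; exact one_mem _
        | 1, hi => inv_mul_Z2 hi (invb_Z3 δ _ hx hi) (triv_d (ker e) hi).symm
        | 2, _ => triv_Z3 (ker e) hx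
        | _ + 3, _ => trivial
      exact mem_inn_iff.2 ⟨t, ht, fun x => by rw [← e x x.2, equivFun_coe]⟩) hγ (N := N)
    (ext fun x hx => by rw [hN x hx]; simp [pb, (e x hx).1, (e x hx).2]) k1 k1
    (mulEquiv_ext_equivFun fun x hx => by
      rw [equivFun_mul _ _ hx, equivFun_mul _ _ hx, hN _ (equivFun_mem _ hx), k2 x hx, hN x hx,
        k2 _ (nb_mem x)]
      have h3 := hN2
      ext <;> simp [n1, hN2] <;> simp only [Nm, Tr, sh, cr, map_mul, fr3] at h3 ⊢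
      · ring
      · linear_combination (fr x.c * fr (fr x.c) * x.a + fr (fr x.c) * x.c * fr x.a +
          x.c * fr x.c * fr (fr x.a)) * h3
      · linear_combination (x.c * fr x.a * fr (fr x.a) + fr x.c * fr (fr x.a) * x.a +
          fr (fr x.c) * x.a * fr x.a) * h3)
    fun y hy e => qb_fpf (t := kpar ν n0) hN2 n2 (by simp [n1]) (fun _ => rfl) k2 (ker hy) e
  exact (isMor_of_mem_autGroup le_top hNA).congr hN

theorem qb_gen (hn : F.IsMor (Qb K) nb) {E : FusionSystem (⊤ : Subgroup (US K))}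
    (h1 : ∀ f, F.IsIso ⊤ ⊤ f → E.IsMor ⊤ f) (h2 : E.IsMor (Qb K) nb) {f : US K → US K}
    (hf : F.IsIso (Qb K) (Qb K) f) : E.IsMor (Qb K) f := by
  obtain ⟨M, h⟩ := exists_loc (isPGroup_US p) hF hE
  have key : ∀ γ ∈ F.autGroup (Qb K), Inv γ (Z4 K) → E.IsMor (Qb K) (equivFun γ) := fun γ hγ e => by
    obtain ⟨f, hf, e1⟩ := qb_ext hF hE hγ e
    exact ((h1 f hf).mono le_top).congr e1
  obtain ⟨γ, hγ, e⟩ := hf.exists_aut
  rcases qb_cases γ with hc | ⟨m, n, r, s, hm, hn', -, -, -, -, hc⟩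
  · exact (key γ hγ hc).congr e
  have hβ : fr ((1 - m) / n) = (1 - m) / n := by simp [hm, hn']
  obtain ⟨N, hN, eN⟩ := (hn.isIso_self fun x _ => nb_mem x).exists_aut
  have k := key (N * (conjAut (Qb K) (mem_norm (xb _ hβ)) * γ))
    (mul_mem hN (mul_mem (h.cj_A _) hγ)) fun x hx h4 => ⟨by
      rw [equivFun_mul _ _ hx, eN _ (equivFun_mem _ hx), equivFun_mul _ _ hx, nb_a,
        (mat_conj _ _ (equivFun_mem γ hx)).2, hc x h4, xb_b]
      ring, equivFun_mem (Q := Qb K) _ hx⟩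
  refine ((E.isMor_conj le_rfl (mem_top (xb _ hβ)⁻¹)).comp' (h2.comp' (h2.comp' (h2.comp' k
    fun x hx => equivFun_mem _ hx) fun _ _ => nb_mem _) fun _ _ => nb_mem _)
    fun _ _ => trivial).congr fun x hx => ?_
  have hx' := equivFun_mem γ hx
  rw [equivFun_mul _ _ hx, eN _ (equivFun_mem _ hx), nb_four (equivFun_mem _ hx),
    equivFun_mul _ _ hx, equivFun_conjAut _ hx', e x hx]
  group

end Cfsg.Agent.D4
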