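import Cfsg.Agent.Lib.D4.Aut
import Cfsg.Agent.Lib.D4.PartA
import Cfsg.Agent.Lib.D4.Qa
import Cfsg.Agent.Lib.D4.Qb
import Cfsg.Agent.Lib.D4.Model
import Cfsg.Agent.Lib.Lead.Model2
import Cfsg.Agent.Lib.U5.Main

/-!
# S5261: assembly (see notes/TD_helper2.md)
-/

set_option autoImplicit false
set_option linter.unusedSectionVars false
set_option linter.unusedVariables false

namespace Cfsg.Agent.D4

open Subgroup Cfsg Cfsg.FusionSystem

universe u

variable {K : Type u} [Field K] [hK : TF K] {p : ℕ} [hp : Fact p.Prime] [CharP K p]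
  {F : FusionSystem (⊤ : Subgroup (US K))}

theorem realizable_of_normal (hF : F.IsSaturated p) {Q : Subgroup (US K)}
    (h : ∀ P, F.IsEssential p P → P = Q) (hi : ∀ f, F.IsIso ⊤ ⊤ f → ∀ x ∈ Q, f x ∈ Q)
    (hc : centralizerIn ⊤ Q ≤ Q) : F.IsRealizable p := by
  have hQ : F.IsNormal Q := hF.isNormal_of_essential (isPGroup_top p) fun P hP => by
    rcases hP with rfl | hP
    · exact ⟨le_top, hi⟩
    · rw [h P hP]; exact ⟨le_rfl, fun g hg => hg.mapsTo⟩
  obtain ⟨G, _, ι, h1, h2, h3, -⟩ := Lead.exists_model_of_normal_centric (isPGroup_top p) hF hQ hc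
  exact ⟨G, _, h1, ι, h2, h3⟩

/-- the standard automorphisms in the system -/
def parOf (F : FusionSystem (⊤ : Subgroup (US K))) : Subgroup (Par K) where
  carrier := {t | F.IsIso ⊤ ⊤ (tauF t)}
  one_mem' := (F.isIso_id le_rfl).congr fun x _ => (tauF_one x).symm
  mul_mem' := fun {s t} hs ht => (IsIso.comp' hs ht).congr fun x _ => (tauF_tauF s t x).symm
  inv_mem' := fun {t} ht => IsIso.symm_of_left_inv ht fun x _ => tauF_inv_left t x

theorem not_dvd_parOf (hF : F.IsSaturated p) : ¬ p ∣ Nat.card (parOf F) := fun hd => by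
  obtain ⟨⟨t, ht⟩, ho⟩ := exists_prime_orderOf_dvd_card' p hd
  obtain ⟨α, hα, e⟩ := IsIso.exists_aut ht
  have h1 : t ^ p = 1 := congrArg Subtype.val (ho ▸ pow_orderOf_eq_one (⟨t, ht⟩ : parOf F) :)
  have h2 : ∀ n : ℕ, ∀ x, equivFun (α ^ n) x = tauF (t ^ n) x := fun n => by
    induction n with
    | zero => intro x; rw [pow_zero, pow_zero, equivFun_one (mem_top x), tauF_one]
    | succ n ih => intro x; rw [pow_succ', equivFun_mul _ _ (mem_top x), ih, e _ trivial, pow_succ', tauF_tauF]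
  have h3 : α ^ p ^ 1 = 1 := mulEquiv_ext_equivFun fun x hx => by
    rw [pow_one, h2, h1, tauF_one, equivFun_one hx]
  obtain ⟨s, -, hs⟩ := mem_inn_iff.1 ((hF.sylowIn_top (isPGroup_top p)).mem_of_mem_normalizer hα
    (le_normalizer_inn ⊤ (mem_top _)) h3)
  have h4 : ∀ x, tauF t x = s * x * s⁻¹ := fun x => by
    rw [← e x trivial, equivFun_of_mem _ (mem_top x)]; exact hs ⟨x, trivial⟩
  have h5 : t = 1 := eq_one_of_tauF
    (fun x => by simpa using congrArg US.a (h4 (xa x)))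
    (by simpa using congrArg US.b (h4 (xb 1 fr_one)))
  subst h5
  exact hp.out.one_lt.ne (orderOf_one.symm.trans ho)

theorem Std.mor (hs : Std F) {E : FusionSystem (⊤ : Subgroup (US K))}
    (h : ∀ t ∈ parOf F, E.IsMor ⊤ (tauF t)) {f : US K → US K} (hf : F.IsIso ⊤ ⊤ f) :
    E.IsMor ⊤ f := by
  obtain ⟨s, t, e⟩ := hs f hf
  have ht : t ∈ parOf F := (((F.isMor_conj le_rfl (mem_top s⁻¹)).comp' hf.mor
    fun _ _ => trivial).congr fun x _ => by rw [e]; group).isIso_top
  exact ((E.isMor_conj le_rfl (mem_top s)).comp' (h t ht) fun _ _ => trivial).congr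
    fun x _ => (e x).symm

theorem realizable_std (hF : F.IsSaturated p) (hs : Std F) : F.IsRealizable p := by
  by_cases h1 : F.IsEssential p (Qa K); swap
  · refine realizable_of_normal hF (Q := Qb K)
      (fun P hP => (ess_cases hF hP).resolve_left fun e => h1 (e ▸ hP)) (fun f hf x hx => ?_)
      fun x hx => mem_Qb_of_comm fun z hz => (mem_centralizerIn'.1 hx).2 z (Z2_le_Qb hz) |>.symm
    obtain ⟨s, t, e⟩ := hs f hf
    simp [e, mem_Qb, mem_Qb.1 hx]
  by_cases h2 : F.IsEssential p (Qb K); swap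
  · refine realizable_of_normal hF (Q := Qa K)
      (fun P hP => (ess_cases hF hP).resolve_right fun e => h2 (e ▸ hP)) (fun f hf x hx => ?_)
      fun x hx => mem_Qa_of_cm fun z hz => bot_le (a := Z1 K)
        (U5.cm_eq_one ((mem_centralizerIn'.1 hx).2 z (Z3_le_Qa hz)).symm)
    obtain ⟨s, t, e⟩ := hs f hf
    simp [e, mem_Qa, mem_Qa.1 hx]
  have hh := qb_h hF hs h2
  have hk := qa_k hF hs h1 hh
  have hn1 := qa_n hF hs h1 hh
  have hn2 := qb_n hF hs h2 hk
  obtain ⟨G, _, _, ι, hι, hS, g0, ⟨g1, e1⟩, ⟨g2, e2⟩, hN⟩ :=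
    exists_model (parOf F) (not_dvd_parOf hF) hk hh
  let ι' : (⊤ : Subgroup (US K)) →* G := ι.comp (Subgroup.subtype ⊤)
  have hr : ι'.range = ι.range := by rw [MonoidHom.range_comp, range_subtype, ← MonoidHom.range_eq_map]
  have he : ∀ x, homFun ι' x = ι x := fun x => homFun_of_mem _ (mem_top x)
  obtain ⟨s, hs'⟩ := exists_grpIso_of_injective (ι := ι') (hι.comp Subtype.val_injective)
  obtain ⟨E, hE⟩ := (groupFusionSystem ι'.range).exists_isoVia hs'.symm
  have hR : E.IsRealizedBy ι' := hE.symm.isRealizedBy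
  have hEs : E.IsSaturated p := hR.isSaturated (hr ▸ hS)
  have mor : ∀ {P : Subgroup (US K)} {f : US K → US K} (g : G), IsHomOn P f →
      (∀ x ∈ P, ι (f x) = g * ι x * g⁻¹) → E.IsMor P f := fun {P f} g h e =>
    hR.isMor_iff.2 ⟨le_top, h, fun _ _ => trivial, g, fun x hx => by rw [he, he, e x hx]⟩
  have top : ∀ f, E.IsIso ⊤ ⊤ f → ∃ s : US K, ∃ t ∈ parOf F, ∀ x, f x = s * tauF t x * s⁻¹ :=
    fun f hf => by
      obtain ⟨-, -, -, g, e⟩ := hR.isMor_iff.1 hf.mor
      exact hN g f fun x => by rw [← he, ← he, e x trivial]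
  have hsE : Std E := fun f hf => let ⟨s, t, _, e⟩ := top f hf; ⟨s, t, e⟩
  have m1 : E.IsMor (Qa K) na := mor g1 hn1.isHomOn e1
  have m2 : E.IsMor (Qb K) nb := mor g2 hn2.isHomOn e2
  have t1 : ∀ f, F.IsIso ⊤ ⊤ f → E.IsMor ⊤ f := fun f hf => hs.mor (fun t ht =>
    let ⟨g, e⟩ := g0 t ht; mor g (IsIso.mor ht).isHomOn fun x _ => e x) hf
  have t2 : ∀ f, E.IsIso ⊤ ⊤ f → F.IsMor ⊤ f := fun f hf => by
    obtain ⟨s, t, ht, e⟩ := top f hf
    exact ((F.isMor_conj le_rfl (mem_top s)).comp' (IsIso.mor ht) fun _ _ => trivial).congr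
      fun x _ => (e x).symm
  have : E = F := by
    refine le_antisymm' (le_iff_isSubsystemOf.2 (hEs.isSubsystemOf_of_essential (isPGroup_top p) ?_))
      (le_iff_isSubsystemOf.2 (hF.isSubsystemOf_of_essential (isPGroup_top p) ?_))
    · rintro P (rfl | hP) f hf
      · exact t2 f hf
      · rcases ess_cases hEs hP with rfl | rfl
        · exact qa_gen hEs hsE hP (fun l h0 h => (t1 _ (hh l h0 h)).isIso_top) t2 hn1 hf
        · exact qb_gen hEs hsE hP m2 t2 hn2 hf
    · rintro P (rfl | hP) f hf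
      · exact t1 f hf
      · rcases ess_cases hF hP with rfl | rfl
        · exact qa_gen hF hs hP hh t1 m1 hf
        · exact qb_gen hF hs hP hn2 t1 m2 hf
  obtain ⟨T, hT⟩ := H7.sylowIn_top_iff.1 hS
  exact GL.isRealizable_of (this ▸ hR) T (hT.trans hr.symm)

theorem realizable {Ω : Type*} [Group Ω] {S : Subgroup Ω} {F : FusionSystem S}
    (hF : F.IsSaturated p) (e : S ≃* US K) : F.IsRealizable p := by
  obtain ⟨E, hE⟩ := F.exists_isoVia (GrpIso.of_equiv (e.trans topEquiv.symm))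
  obtain ⟨D, t, s, hD, hs⟩ := exists_std (hE.isSaturated hF)
  exact U5.isRealizable_of_isoVia hE (U5.isRealizable_of_isoVia hD
    (realizable_std (hD.isSaturated (hE.isSaturated hF)) hs))

end Cfsg.Agent.D4
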