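import Cfsg.Agent.Lib.D4.Loc

/-!
# S5261: what normalizes `Z1` and `Z2` (see notes/TD_helper2.md, section PartA)
-/

set_option autoImplicit false
set_option linter.unusedSectionVars false
set_option linter.unusedVariables false

namespace Cfsg.Agent.D4

open Subgroup Cfsg Cfsg.FusionSystem US
open U5 (Inv Loc SE invS mem_invS ef_mul ef_inv ef_one ef_ce ef_cm ef_inj ef_eq_one ef_comm ef_conj
  cm_eq_one mem_norm_of_cm ch3 ch3_mono exists_max mem_of_max inv_conjAut' exists_vb)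

variable {K : Type*} [Field K] [hK : TF K] {p : ℕ} [hp : Fact p.Prime] [CharP K p]
  {R : Subgroup (US K)} {M A : Subgroup (MulAut R)} {x y : US K} {g : MulAut R}

theorem cr_of_Tr {w d : K} (hw : w ≠ 0) (h : Tr (w * d) = 0) : ∃ α, cr w α = d := by
  have n0 : Nm w ≠ 0 := by simpa using hw
  refine ⟨(Nm w)⁻¹ * cr (sh w) d, ?_⟩
  rw [cr_smul (by simp), inv_mul_eq_iff_eq_mul₀ n0]
  simp only [Tr, cr, sh, Nm, map_mul, map_add, fr3] at h ⊢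
  linear_combination fr w * fr (fr w) * h

theorem exists_perp (a c : K) : ∃ d, d ≠ 0 ∧ Tr (a * d) = 0 ∧ Tr (c * d) = 0 :=
  no_inj (fun x y => by rw [mul_add, Tr_add]) (fun x y => by rw [mul_add, Tr_add]) (by simp) (by simp)

theorem exists_plane {d : K} (hd : d ≠ 0) :
    ∃ a1 a2, Tr (a1 * d) = 0 ∧ Tr (a2 * d) = 0 ∧ Tr (a2 * sh a1) ≠ 0 := by
  by_contra! h
  obtain ⟨e, he⟩ := exists_Tr (x := sh d) (by simpa using hd) fr_one
  obtain ⟨a, a0, h1, h2⟩ := exists_perp d e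
  rw [mul_comm] at h1
  obtain ⟨l, hl, e1⟩ := mem_line_of_perp hd fun t ht => h a t h1 ht
  have e2 := congrArg sh e1
  rw [sh_sh, sh_smul hl] at e2
  have e3 : Tr (Nm a * (e * a)) = Tr (l ^ 2 * (sh d * e)) := by
    rw [mul_left_comm, e2]; congr 1; ring
  rw [Tr_smul (fr_Nm a), Tr_smul (l := l ^ 2) (by simp [hl]), h2, he] at e3
  have : l = 0 := by simpa using e3.symm
  simp [this, a0] at e1

theorem exists_Tr2 {a c A B : K} (ha : a ≠ 0) (h : ∀ l, fr l = l → c ≠ l * a) (hA : fr A = A)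
    (hB : fr B = B) : ∃ d, Tr (a * d) = A ∧ Tr (c * d) = B := by
  obtain ⟨t, h1, h2⟩ : ∃ t, Tr (t * a) = 0 ∧ Tr (t * c) ≠ 0 := by
    by_contra! h'
    obtain ⟨l, hl, e⟩ := mem_line_of_perp ha h'
    exact h l hl e
  obtain ⟨d, hd⟩ := exists_Tr ha hA
  have hl : fr ((B - Tr (c * d)) / Tr (t * c)) = (B - Tr (c * d)) / Tr (t * c) := by simp [hB]
  refine ⟨d + (B - Tr (c * d)) / Tr (t * c) * t, ?_, ?_⟩
  · rw [mul_add, Tr_add, mul_left_comm, Tr_smul hl, mul_comm a t, h1, hd]; ring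
  · rw [mul_add, Tr_add, mul_left_comm, Tr_smul hl, mul_comm c t, div_mul_cancel₀ _ h2]; ring

/-- the chain `1 ≤ A ≤ B ≤ C ≤ D ≤ E ≤ ⊤` -/
def ch6 {W : Type*} [Group W] (A B C D E : Subgroup W) : ℕ → Subgroup W
  | 0 => ⊥
  | 1 => A
  | 2 => B
  | 3 => C
  | 4 => D
  | 5 => E
  | _ + 6 => ⊤

theorem ch6_mono {W : Type*} [Group W] {A B C D E : Subgroup W} (h1 : A ≤ B) (h2 : B ≤ C)
    (h3 : C ≤ D) (h4 : D ≤ E) : Monotone (ch6 A B C D E) :=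
  monotone_nat_of_le_succ fun n =>
  match n with
  | 0 => bot_le
  | 1 => h1
  | 2 => h2
  | 3 => h3
  | 4 => h4
  | 5 => le_top
  | _ + 6 => le_rfl

theorem mem_ch3 (h : Loc p R M A) (hg : g ∈ A) (hb : g ∉ M) (h1 : Inv g (Z1 K))
    {C : Subgroup (US K)} (h2 : Inv g C) (h3 : Z1 K ≤ C) {t : US K} (h4 : ∀ x ∈ R, cm x t ∈ R ⊓ C)
    (h5 : ∀ x ∈ R, x ∈ C → cm x t ∈ Z1 K) : t ∈ R :=
  h.chain hg hb (ch3_mono h3) rfl (n := 3) rfl
    (fun i => match i with | 0 => U5.Inv.bot | 1 => h1 | 2 => h2 | _ + 3 => U5.Inv.top)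
    (mem_norm_of_cm fun x hx => (h4 x hx).1) fun i x hR hx =>
    match i, hx with
    | 0, hx => cm_eq_one (comm_Z1 hx t)
    | 1, hx => h5 x hR hx
    | 2, _ => (h4 x hR).2
    | _ + 3, _ => trivial

theorem Z2_le (h : Loc p R M A) (hg : g ∈ A) (hb : g ∉ M) (h1 : Inv g (Z1 K)) : Z2 K ≤ R :=
  fun t ht => mem_ch3 h hg hb h1 h1 le_rfl
    (fun x _ => ⟨Z1_le h (cm_Z1 (.inr (.inl ht))), cm_Z1 (.inr (.inl ht))⟩)
    fun x _ _ => cm_Z1 (.inr (.inl ht))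

theorem normal_of_le_Z2 {U : Subgroup (US K)} (h1 : Z1 K ≤ U) (h : U ≤ Z2 K) : U.Normal :=
  normal_of_cm fun x hx t => h1 (cm_Z1 (.inl (h hx)))

theorem normal_of_le_Z3 {U : Subgroup (US K)} (h1 : Z2 K ≤ U) (h : U ≤ Z3 K) : U.Normal :=
  normal_of_cm fun x hx t => h1 (cm_Z2 (.inl (h hx)))

theorem xd_add (d d' : K) : xd (d + d') = xd d * xd d' := by ext <;> simp

/-- the semifield configuration does not occur -/
theorem no_spread (h : Loc p R M A) (h2 : (2 : K) ≠ 0) (hg : g ∈ A) (h1 : Inv g (Z2 K))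
    (e3 : Z3 K ≤ R) (ha : ∀ d, (equivFun g (xd d)).a = 0 → d = 0) : False := by
  have e2 : Z2 K ≤ R := Z2_le_Z3.trans e3
  have C2 : ∀ d, ∀ r ∈ R, cm (equivFun g (xd d)) r ∈ Z2 K := fun d r hr =>
    h1.cm (e3 (xd_mem d)) hr (cm_Z2 (.inl (xd_mem d)))
  have hw : ∀ d, equivFun g (xd d) ∈ R := fun d => equivFun_mem g (e3 (xd_mem d))
  have hb : ∀ d, (equivFun g (xd d)).b = 0 := fun d =>
    inv_Qb e2 h1 _ (e3 (xd_mem d)) (Z3_le_Qb (xd_mem d))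
  have a1 : (equivFun g (xd 1)).a ≠ 0 := fun e => one_ne_zero (ha 1 e)
  have hs := surj_of_ker (f := fun d => (equivFun g (xd d)).a)
    (fun d d' => by rw [xd_add, ef_mul _ (e3 (xd_mem _)) (e3 (xd_mem _)), mul_a]) ha
  have hQ : ∀ r ∈ R, r.b = 0 := fun r hr => by
    have := (C2 1 r hr).2.2.1
    rw [cm_c, hb] at this
    simpa [a1] using this
  have h4 : ∀ r ∈ R, r.a = 0 → r.c = 0 := fun r hr hr' => by
    have := (C2 1 r hr).2.2.2
    rw [cm_d2 ⟨hr', hQ r hr⟩, neg_eq_zero] at this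
    exact eq_zero_of_cr h2 a1 this
  have hc : ∀ x ∈ R, ∀ y ∈ R, x.a = y.a → x.c = y.c := fun x hx y hy e => by
    have := h4 _ (mul_mem (inv_mem hx) hy) (by simp [e])
    simp [hQ x hx, hQ y hy] at this
    linear_combination -this
  have hab : ∀ x ∈ R, ∀ y ∈ R, cr y.a x.c = cr x.a y.c := fun x hx y hy => by
    obtain ⟨d, hd⟩ := hs x.a
    have := (C2 d y hy).2.2.2
    rw [cm_db (hb d) (hQ y hy), hc _ (hw d) x hx hd, show (equivFun g (xd d)).a = x.a from hd] at this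
    exact sub_eq_zero.1 this
  have hm : ∀ x ∈ R, ∀ y ∈ R, ((x * y).a, (x * y).d - cr (x * y).a (x * y).c / 2) =
      (x.a, x.d - cr x.a x.c / 2) + (y.a, y.d - cr y.a y.c / 2) := fun x hx y hy => by
    ext
    · rfl
    · simp only [mul_a, mul_c, mul_d, hQ y hy, zero_mul, add_zero, cr_add, add_cr, Prod.snd_add,
        hab x hx y hy]
      field_simp; ring
  have hsu : ∀ v : K × K, ∃ x ∈ R, (x.a, x.d - cr x.a x.c / 2) = v := fun v => by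
    obtain ⟨d, hd⟩ := hs v.1
    simp only at hd
    refine ⟨_, mul_mem (hw d) (e3 (xd_mem (v.2 - ((equivFun g (xd d)).d -
      cr (equivFun g (xd d)).a (equivFun g (xd d)).c / 2)))), ?_⟩
    rw [hm _ (hw d) _ (e3 (xd_mem _))]
    simp [hd]
  obtain ⟨vb, hvb⟩ := exists_vb (R := R) (fun x => (x.a, x.d - cr x.a x.c / 2)) hm hsu
    fun γ x hx h0 => by
      obtain ⟨k1, k2⟩ := Prod.ext_iff.1 h0
      simp only [Prod.fst_zero, Prod.snd_zero] at k1 k2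
      have k3 : x ∈ Z2 K := ⟨k1, hQ x hx, h4 x hx k1, by simpa [k1] using k2⟩
      have k4 : ∀ r ∈ R, cm (equivFun γ x) r = 1 := fun r hr =>
        comm_iff_cm.1 (ef_comm γ hx hr (comm_Z2 k3 (hQ _ (equivFun_mem _ hr))))
      have k5 := equivFun_mem γ hx
      generalize equivFun γ x = w at k4 k5
      have k6 : w.a = 0 := mem_Qa_of_cm fun z hz => by rw [k4 z (e3 hz)]; exact one_mem _
      have k7 : w.d = 0 := eq_zero_of_Tr fun a => by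
        obtain ⟨d, hd⟩ := hs a
        have := congrArg US.e (k4 _ (hw d))
        rwa [cm_e3 ⟨k6, hQ w k5, h4 w k5 k6⟩, show (equivFun g (xd d)).a = a from hd, mul_comm] at this
      simp [k6, k7]
  have ext : ∀ {γ : MulAut R} {s : K}, (∀ x ∈ R, (equivFun γ x).a = x.a ∧ (equivFun γ x).d = x.d +
      cr s x.a) → ∀ v, vb γ v = (v.1, v.2 + cr s v.1) := fun {γ s} e v => by
    obtain ⟨x, hx, rfl⟩ := hsu v
    rw [hvb γ x hx, hc _ (equivFun_mem γ hx) x hx (e x hx).1, (e x hx).1, (e x hx).2]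
    ext
    · rfl
    · simp only; ring
  have z4 : ∀ t ∈ Z4 K, ∀ x : US K, (t * x * t⁻¹).d = x.d + cr (-t.c) x.a := fun t ht x => by
    simp [ht.1, ht.2, cr]; ring
  have := quad (h.data.sylow.map vb) (fun u => ⟨?_, ?_⟩) _ (mem_map_of_mem vb hg) 1
  · rw [show ((0 : K), (1 : K)) = ((xd (1 : K)).a, (xd (1 : K)).d - cr (xd (1 : K)).a (xd (1 : K)).c / 2)
      by simp, hvb g _ (e3 (xd_mem 1))] at this
    exact a1 this
  · rintro ⟨γ, hγ, rfl⟩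
    obtain ⟨t, -, ht, e⟩ := mem_autInducedBy_iff'.1 hγ
    obtain ⟨d, hd⟩ := hs t.a
    have k1 : t.b = 0 := by
      have := hc _ (conj_mem_of_mem_normalizer ht (hw 1)) _ (hw 1) (by simp)
      simp [hb] at this
      have h3 : t.b * (equivFun g (xd 1)).a = 0 := by linear_combination -this
      simpa [a1] using h3
    have k2 : t * (equivFun g (xd d))⁻¹ ∈ Z4 K := ⟨by simp [← hd], by simp [k1, hb]⟩
    refine ⟨-(t * (equivFun g (xd d))⁻¹).c, ext fun x hx => ⟨by simp [e x hx], ?_⟩⟩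
    have k3 := hab x hx _ (hw d)
    rw [e x hx, show t * x * t⁻¹ = t * (equivFun g (xd d))⁻¹ * (equivFun g (xd d) * x *
      (equivFun g (xd d))⁻¹) * (t * (equivFun g (xd d))⁻¹)⁻¹ by group, z4 _ k2]
    have k4 := cm_db (x := x) (y := equivFun g (xd d)) (hQ x hx) (hb d)
    rw [k3, sub_self] at k4
    rw [← mul_inv_cancel_left x (_ * x * _), mul_d, mul_a, k4, cm_a, cm_b, cm_c, hQ x hx, hb]
    simp
  · rintro ⟨s, hs'⟩
    have hn : xc (-s) ∈ normalizer (R : Set (US K)) :=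
      mem_norm_of_cm fun x _ => e3 (cm_Z3 (.inr (.inl (xc_mem _))))
    refine ⟨_, U5.Loc.cj_T hn, LinearEquiv.ext fun v => (ext (fun x hx => ?_) v).trans (hs' v).symm⟩
    rw [equivFun_conjAut hn hx, z4 _ (xc_mem _)]
    simp

theorem Z4_le (h : Loc p R M A) (hg₀ : g ∈ A) (hb₀ : g ∉ M) (h1 : Inv g (Z1 K))
    (h2 : Inv g (Z2 K)) : Z4 K ≤ R := by
  have e2 := Z2_le h hg₀ hb₀ h1
  have e3 : Z3 K ≤ R := fun t ht => mem_ch3 h hg₀ hb₀ h1 h2 Z1_le_Z2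
    (fun x _ => ⟨e2 (cm_Z2 (.inr ht)), cm_Z2 (.inr ht)⟩) fun x _ hx => cm_Z1 (.inl hx)
  intro t0 ht0
  by_contra hn
  obtain ⟨U, hU1, hU2, ⟨g, hg, hb, hi⟩, hmax⟩ := exists_max (M := M)
    (P := A ⊓ invS R (Z1 K) ⊓ invS R (Z2 K)) Z2_le_Z3 e3 ⟨⟨hg₀, h1⟩, h2⟩ hb₀ h2
  haveI := normal_of_le_Z3 hU1 hU2
  have g1 : Inv g (Z1 K) := hg.1.2
  have g2 : Inv g (Z2 K) := hg.2
  have hU : ∀ u ∈ U, ∀ y ∈ Z3 K, u.d = y.d → y ∈ U := fun u hu y hy e => by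
    simpa using mul_mem hu (hU1 (inv_mul_Z2 (hU2 hu) hy e))
  have C1 : ∀ d, xd d ∉ U → ∀ x, cm (equivFun g (xd d)) x ∈ U → x ∈ R := fun d hd x hx =>
    mem_of_max h.hW h.se (inf_le_left.trans inf_le_left) (fun t ht => ⟨⟨h.cj_A ht,
      mem_invS.2 (inv_conjAut' (C := Z1 K) ht)⟩, mem_invS.2 (inv_conjAut' (C := Z2 K) ht)⟩)
      (hU2.trans e3) (e3 (xd_mem d)) (hmax _ (xd_mem d) hd) hg hb hi
      (fun r _ => hU1 (cm_Z2 (.inl (xd_mem d)))) hx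
  have ha : ∀ d, xd d ∉ U → (equivFun g (xd d)).a ≠ 0 := fun d hd e =>
    hn (C1 d hd _ (hU1 (Z1_le_Z2 (cm_Z1 (.inr (.inr ⟨e, ht0.1⟩))))))
  have D1 : ∀ d α, xc α ∈ R → cr (equivFun g (xd d)).a α = 0 := fun d α hα => by
    have := (g2.cm (e3 (xd_mem d)) hα (cm_Z2 (.inl (xd_mem d)))).2.2.2
    rw [cm_d2 (xc_mem α)] at this
    simpa using this
  have D2 : ∀ d, xd d ∉ U → ∀ u ∈ U, ∀ α, cr (equivFun g (xd d)).a α = -u.d → xc α ∈ R :=
    fun d hd u hu α e => C1 d hd _ (hU u hu _ (cm_Z3 (.inr (.inl (xc_mem α))))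
      (by rw [cm_d2 (xc_mem α), xc_c, e, neg_neg]))
  obtain ⟨d0, hd0⟩ : ∃ d, xd d ∉ U := by
    by_contra! hle
    have h3 : Inv g (Z3 K) := fun x hx hz => hU2 (hi x hx (hU _ (hle x.d) x hz rfl))
    exact hn (mem_ch3 h hg.1.1 hb g1 h3 (Z1_le_Z2.trans Z2_le_Z3)
      (fun x _ => ⟨e3 (cm_Z3 (.inr (.inl ht0))), cm_Z3 (.inr (.inl ht0))⟩)
      fun x _ hx => cm_Z1 (.inr (.inr ⟨hx.1, ht0.1⟩)))
  have w0 := ha d0 hd0
  by_cases c2 : (2 : K) = 0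
  · have k1 := D2 d0 hd0 1 (one_mem _) (equivFun g (xd d0)).a (by simp [cr_self, c2])
    obtain ⟨d, n0, k2, k3⟩ := no_inj (f := fun d => (equivFun g (xd d)).a / (equivFun g (xd d0)).a)
      (g := fun d => Tr ((equivFun g (xd d0)).a * d))
      (fun d d' => by rw [xd_add, ef_mul _ (e3 (xd_mem _)) (e3 (xd_mem _)), mul_a, add_div])
      (fun x y => by rw [mul_add, Tr_add]) (fun d => by
        obtain ⟨l, hl, e⟩ := line_of_cr c2 w0 ((cr_comm _ _).trans (D1 d _ k1))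
        rw [e, mul_div_cancel_right₀ _ w0, hl]) (by simp)
    have k4 : xd d ∈ U := by_contra fun hd => ha d hd (by simpa [w0] using k2)
    obtain ⟨α, hα⟩ := cr_of_Tr w0 (d := -d) (by rw [mul_neg, Tr_neg, k3, neg_zero])
    exact n0 (by simpa [hα] using D1 d0 α (D2 d0 hd0 _ k4 α hα))
  · refine no_spread h c2 hg.1.1 g2 e3 fun d e => by_contra fun n0 => ha d (fun hu => n0 ?_) e
    obtain ⟨α, hα⟩ := cr_surj c2 w0 (-d)
    simpa [hα] using D1 d0 α (D2 d0 hd0 _ hu α hα)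

/-- L3: if an element outside `M` normalizes `Z1` and `Z2` then `R = Qa`. -/
theorem L3 (h : Loc p R M A) (hg : g ∈ A) (hb : g ∉ M) (h1 : Inv g (Z1 K))
    (h2 : Inv g (Z2 K)) : R = Qa K := by
  have e4 := Z4_le h hg hb h1 h2
  have e3 := Z3_le_Z4.trans e4
  have hQb := inv_Qb (Z2_le_Z3.trans e3) h2
  have hQa : Inv g (Qa K) := inv_Qa e3 h1 (Y := cmod (Qb K) (R ⊓ Qb K) (Z2 K))
    (inv_cmod inf_le_left hQb (Inv.inf (U5.Inv.of_le le_rfl) hQb) h2)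
    (fun x hx => ⟨hx.2.1, fun y _ => cm_Z2 (.inl hx)⟩) fun x hx => eq_zero_of_cr_all fun c => by
      have := (hx.2 _ ⟨e4 (xc_mem c), rfl⟩).2.2.2
      rw [cm_d2 (xc_mem c)] at this
      simpa [cr_comm] using this
  refine le_antisymm (fun r hr => by_contra fun hr' => h.ne_top (eq_top_iff.2 fun t _ => ?_))
    fun t ht => mem_ch3 h hg hb h1 hQa Z1_le_Qa
      (fun x _ => ⟨e4 (cm_Z4 x t), cm_a x t⟩) fun x _ hx => cm_Z1 (.inr (.inr ⟨hx, ht⟩))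
  have h4 : Inv g (Z4 K) := Inv.inf hQa hQb
  have y0 := inv_cmod le_rfl h4 (U5.Inv.of_le le_rfl) h2
  have l0 : Z3 K ≤ cmod (Z4 K) R (Z2 K) := fun x hx => ⟨Z3_le_Z4 hx, fun y _ => cm_Z2 (.inl hx)⟩
  have l1 : cmod (Z4 K) (cmod (Z4 K) R (Z2 K)) ⊥ ≤ Z3 K := fun x hx =>
    mem_Z3_of_comm hx.1 fun z hz => comm_iff_cm.2 (hx.2 z (l0 hz))
  have l2 : ∀ x ∈ cmod (Z4 K) R (Z2 K), cr r.a x.c = 0 := fun x hx => by
    have := (hx.2 r hr).2.2.2
    rwa [cm_d1 hx.1] at this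
  have l3 : Z2 K ≤ cmod (Z4 K) (cmod (Z4 K) R (Z2 K)) ⊥ := fun x hx =>
    ⟨Z3_le_Z4 (Z2_le_Z3 hx), fun y hy => cm_eq_one (comm_Z2 hx hy.1.2)⟩
  have l4 : cmod (Z4 K) R (Z2 K) ≤ Z4 K := fun x hx => hx.1
  refine h.chain hg hb (ch6_mono Z1_le_Z2 l3 (l1.trans l0) l4) rfl (n := 6) rfl
    (fun i => match i with
      | 0 => U5.Inv.bot | 1 => h1 | 2 => h2
      | 3 => inv_cmod (fun x hx => e4 hx.1) h4 y0 U5.Inv.bot
      | 4 => y0 | 5 => h4 | _ + 6 => U5.Inv.top)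
    (mem_norm_of_cm fun x _ => e4 (cm_Z4 x t)) fun i x _ hx =>
    match i, hx with
    | 0, hx => cm_eq_one (comm_Z1 hx t)
    | 1, hx => cm_Z1 (.inl hx)
    | 2, hx => cm_Z2 (.inl (l1 hx))
    | 3, hx => ⟨cm_Z4 x t, fun y hy => ?_⟩
    | 4, hx => l0 (cm_Z3 (.inl hx))
    | 5, _ => cm_Z4 x t
    | _ + 6, _ => trivial
  refine eq_one_of_Z1 (cm_Z1 (.inr (.inr ⟨cm_a x t, hy.1.1⟩))) ?_
  rw [cm_f3 (cm_Z3 (.inl hx.1)), cm_d1 hx.1, hy.1.2]
  have k : cr y.c x.c = 0 := by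
    by_cases c2 : (2 : K) = 0
    · obtain ⟨l, hl, e⟩ := line_of_cr c2 hr' (l2 x hx)
      rw [e, cr_smul hl, cr_comm, l2 y hy, mul_zero]
    · rw [eq_zero_of_cr c2 hr' (l2 x hx), cr_zero]
  have : Tr (y.c * cr t.a x.c) = Tr (t.a * cr y.c x.c) := by simp [Tr, cr]; ring
  simp [this, k]

end Cfsg.Agent.D4
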