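import Cfsg.Agent.Lib.D4.PartA1

/-!
# S5261: what normalizes `Z1` (see notes/TD_helper2.md, section PartA)
-/

set_option autoImplicit false
set_option linter.unusedSectionVars false
set_option linter.unusedVariables false

namespace Cfsg.Agent.D4

open Subgroup Cfsg Cfsg.FusionSystem US
open U5 (Inv Loc SE invS mem_invS ef_mul ef_inv ef_one ef_ce ef_cm ef_inj ef_eq_one ef_comm ef_conj
  cm_eq_one mem_norm_of_cm ch3 ch3_mono exists_max mem_of_max inv_conjAut' exists_vb)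

variable {K : Type*} [Field K] [hK : TF K] {p : ℕ} [hp : Fact p.Prime] [CharP K p]
  {R : Subgroup (US K)} {M A : Subgroup (MulAut R)} {x y w z : US K} {g : MulAut R}

theorem cm_eb (hx : x ∈ Qb K) (hy : y ∈ Qb K) : (cm x y).e = Tr (sh x.a * y.c) - Tr (x.a * y.d) -
    Tr (x.c * cr x.a y.a) + Tr (sh y.a * x.c) + Tr (x.d * y.a) := by
  simp [mem_Qb.1 hx, mem_Qb.1 hy, Tr, Nm, sh, cr]; ring

theorem cm_fb (hx : x ∈ Qb K) (hy : y ∈ Qb K) : (cm x y).f = Tr (x.a * sh y.c) + Tr (sh x.c * y.a) -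
    Tr (x.c * cr y.a y.c) + Tr (x.c * y.d) - Tr (x.d * y.c) := by
  simp [mem_Qb.1 hx, mem_Qb.1 hy, Tr, Nm, sh, cr]; ring

theorem cm_symm {W : Type*} [Group W] {x y : W} (h : cm x y = 1) : cm y x = 1 :=
  comm_iff_cm.1 (comm_iff_cm.2 h).symm

theorem eq_one_of_Z2 (h : x ∈ Z2 K) (he : x.e = 0) (hf : x.f = 0) : x = 1 :=
  eq_one_of_Z1 (mem_Z1_of h he) hf

theorem ext_Z2 (hx : x ∈ Z2 K) (hy : y ∈ Z2 K) (he : x.e = y.e) (h : x.f = y.f) : x = y :=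
  US.ext (hx.1.trans hy.1.symm) (hx.2.1.trans hy.2.1.symm) (hx.2.2.1.trans hy.2.2.1.symm)
    (hx.2.2.2.trans hy.2.2.2.symm) he h

theorem mem_of_mod {W : Type*} [Group W] {R C Z : Subgroup W} {γ : MulAut R} (hZ : Inv γ Z)
    (hC : Z ≤ C) {v y : W} (hv : v ∈ R) (hy : y ∈ R) (h : v⁻¹ * y ∈ Z) (h' : equivFun γ v ∈ C) :
    equivFun γ y ∈ C := by
  have := mul_mem h' (hC (hZ _ (mul_mem (inv_mem hv) hy) h))
  rwa [← ef_mul _ hv (mul_mem (inv_mem hv) hy), mul_inv_cancel_left] at this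

theorem ef_four {W : Type*} [Group W] {R : Subgroup W} (γ : MulAut R) {x : W} (hx : x ∈ R) :
    equivFun γ (x * x * (x * x)) = equivFun γ x * equivFun γ x * (equivFun γ x * equivFun γ x) := by
  rw [ef_mul γ (mul_mem hx hx) (mul_mem hx hx), ef_mul γ hx hx]

theorem four_inv (h2 : (2 : K) = 0) (γ : MulAut R) (hx : x ∈ R) (h : x.a = 0 ∨ x.b = 0) :
    (equivFun γ x).a = 0 ∨ (equivFun γ x).b = 0 := by
  rw [← four_eq_one h2, ← ef_four γ hx, (four_eq_one h2).2 h, ef_one]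

theorem sq_Z2 (h2 : (2 : K) = 0) (hz : z ∈ Z2 K) : z * z = 1 := by
  refine eq_one_of_Z2 (mul_mem hz hz) ?_ ?_ <;> simp [hz.1, hz.2.1, hz.2.2.1, ← two_mul, h2]

theorem ef_sq (h2 : (2 : K) = 0) (γ : MulAut R) (hR : z ∈ R) (hz : z ∈ Z2 K) :
    equivFun γ z * equivFun γ z = 1 := by rw [← ef_mul γ hR hR, sq_Z2 h2 hz, ef_one]

theorem sq_cases (h2 : (2 : K) = 0) (hw : w * w = 1) (ha : w.a ≠ 0) :
    w.b = 0 ∧ ∃ κ, fr κ = κ ∧ w.c = κ * w.a := by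
  have h1 : w.b = 0 := by simpa [hw, ha] using sq_c h2 w
  exact ⟨h1, line_of_cr h2 ha (by simpa [hw, h1] using (sq_d h2 w).symm)⟩

/-- `r` lies, modulo `Z3`, on the line of `w` -/
def Ln (w r : US K) : Prop :=
  ∃ ρ l, fr ρ = ρ ∧ fr l = l ∧ r.a = ρ * w.a ∧ r.b = ρ * w.b ∧ r.c = ρ * w.c + l * w.a

theorem Ln.self (w : US K) : Ln w w := ⟨1, 0, by simp, by simp, by simp, by simp, by simp⟩

theorem ln_of (h2 : (2 : K) ≠ 0) (ha : w.a ≠ 0) (hb : w.b ≠ 0) {r : US K} (h : cm w r ∈ Z2 K) :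
    Ln w r := by
  obtain ⟨ρ, hρ, e2⟩ : ∃ ρ, fr ρ = ρ ∧ r.b = ρ * w.b := ⟨r.b / w.b, by simp, by field_simp⟩
  have e1 : r.a = ρ * w.a := by
    have := h.2.2.1
    rw [cm_c, e2] at this
    exact mul_left_cancel₀ hb (by linear_combination this)
  obtain ⟨l, hl, e3⟩ : ∃ l, fr l = l ∧ 2 * l = w.b * (ρ ^ 2 - ρ) :=
    ⟨w.b * (ρ ^ 2 - ρ) / 2, by simp [hρ, map_ofNat], by field_simp⟩
  refine ⟨ρ, l, hρ, hl, e1, e2, sub_eq_zero.1 (eq_zero_of_cr h2 ha ?_)⟩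
  have := h.2.2.2
  rw [cm_d', e1, e2] at this
  simp only [cr, sh, map_mul, map_sub, map_add, hρ, hl] at this ⊢
  linear_combination -this - fr w.a * fr (fr w.a) * e3

theorem exists_t0 (ha : w.a ≠ 0) (hb : w.b ≠ 0) : ∃ t ∈ Z4 K, t.c ≠ 0 ∧
    ∀ r r', Ln w r → Ln w r' → cm (cm r t) r' = 1 := by
  obtain ⟨c, c0, h1, -⟩ := exists_perp (sh w.a) 0
  obtain ⟨d, h2⟩ := exists_Tr ha (l := Tr (w.c * cr w.a c) / w.b) (by simp)
  rw [eq_div_iff hb] at h2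
  have ht : xc c * xd d ∈ Z4 K := mul_mem (xc_mem c) (Z3_le_Z4 (xd_mem d))
  refine ⟨_, ht, by simpa using c0, ?_⟩
  rintro r r' ⟨ρ, l, hρ, hl, e1, e2, e3⟩ ⟨ρ', l', hρ', hl', e1', e2', e3'⟩
  have h3 : cm r (xc c * xd d) ∈ Z3 K := cm_Z3 (.inr (.inl ht))
  refine eq_one_of_Z2 (cm_Z2 (.inl h3)) ?_ ?_
  · rw [cm_e3 h3, cm_d2 ht, e1, e1']
    simp [Tr, cr, sh, hρ, hρ'] at h1 ⊢
    linear_combination -2 * ρ * ρ' * h1
  · rw [cm_f3 h3, cm_d2 ht, cm_e2 ht, e1, e1', e2', e3']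
    simp [Tr, cr, sh, hρ, hρ', hl'] at h1 h2 ⊢
    linear_combination (-2 * ρ * ρ' ^ 2 * w.b + 2 * l' * ρ + ρ' * w.b * ρ ^ 2) * h1 - ρ * ρ' * h2

/-- the element of `Qb` commuting with `w` modulo `Z2` -/
theorem exists_rc (hc : (2 : K) ≠ 0 ∨ ∃ κ, fr κ = κ ∧ w.c = κ * w.a) (ha : w.a ≠ 0) (α : K) :
    ∃ c, cr w.a c = cr α w.c := by
  rcases hc with hc | ⟨κ, hκ, e⟩
  · exact cr_surj hc ha _
  · exact ⟨κ * α, by rw [e, cr_smul hκ, cr_smul hκ, cr_comm]⟩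

/-- L2: if an element outside `M` normalizes `Z1` then `R = Qa`. -/
theorem L2 (h : Loc p R M A) (hg₀ : g ∈ A) (hb₀ : g ∉ M) (h1 : Inv g (Z1 K)) : R = Qa K := by
  have e2 := Z2_le h hg₀ hb₀ h1
  obtain ⟨U, hU1, hU2, ⟨g, hg, hb, hi⟩, hmax⟩ := exists_max (M := M) (P := A ⊓ invS R (Z1 K))
    Z1_le_Z2 e2 ⟨hg₀, h1⟩ hb₀ h1
  haveI := normal_of_le_Z2 hU1 hU2
  have g1 : Inv g (Z1 K) := hg.2
  by_cases hZ : Inv g (Z2 K)
  · exact L3 h hg.1 hb g1 hZ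
  obtain ⟨z, hz, hzU⟩ : ∃ z ∈ Z2 K, z ∉ U := by
    by_contra! hle
    exact hZ fun x hx hx2 => hU2 (hi x hx (hle x hx2))
  have C1 : ∀ x, cm (equivFun g z) x ∈ Z1 K → x ∈ R := fun x hx =>
    mem_of_max h.hW h.se inf_le_left (fun t ht => ⟨h.cj_A ht,
      mem_invS.2 (inv_conjAut' (C := Z1 K) ht)⟩) (hU2.trans e2) (e2 hz) (hmax _ hz hzU) hg hb hi
      (fun r _ => hU1 (cm_Z1 (.inl hz))) (hU1 hx)
  have C2 : ∀ r ∈ R, cm (equivFun g z) r ∈ Z1 K := fun r hr => g1.cm (e2 hz) hr (cm_Z1 (.inl hz))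
  have C3 : (2 : K) = 0 → equivFun g z * equivFun g z = 1 := fun c2 => ef_sq c2 g (e2 hz) hz
  have C4 : ∀ x ∈ R, ∀ y ∈ R, cm x y ∈ Z2 K → (cm x y).e = z.e → (equivFun g z).a = 0 :=
    fun x hx y hy k1 k2 => mem_of_mod g1 Z1_le_Qa (cm_mem' hx hy) (e2 hz) (inv_mul_Z1 k1 hz k2)
      (by rw [ef_cm g hx hy]; exact cm_a _ _)
  generalize equivFun g z = w at C1 C2 C3 C4
  by_cases ha : w.a = 0
  · have hQ : Qa K ≤ R := fun t ht => C1 t (cm_Z1 (.inr (.inr ⟨ha, ht⟩)))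
    refine le_antisymm (fun r hr => by_contra fun hr' => hZ ?_) hQ
    replace hr' : r.a ≠ 0 := hr'
    by_cases c2 : (2 : K) = 0
    · refine inv_Z2_of_Z4 (Z4_le_Qa.trans hQ) fun x hx h4 => ?_
      have key : ∀ y ∈ R, (y.a = 0 ∨ y.b = 0) → (equivFun g x * y).a = 0 ∨ (equivFun g x * y).b = 0 :=
        fun y hy e => by
          have k := equivFun_mem g⁻¹ hy
          have := four_inv c2 g (mul_mem hx k) (by simpa [h4.1, h4.2] using four_inv c2 g⁻¹ hy e)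
          rwa [ef_mul g hx k, equivFun_apply_inv g hy] at this
      have k1 := key 1 (one_mem _) (.inl rfl)
      have k2 := key _ (hQ (xb_mem 1 fr_one)) (.inl rfl)
      have k3 := key _ (mul_mem hr (hQ (xb_mem (-r.b) (by simp)))) (.inr (by simp))
      generalize equivFun g x = u at k1 k2 k3
      have k4 : u.a = 0 := by
        by_contra n
        simp [n] at k1 k2
        simp [k1] at k2
      exact ⟨k4, by simpa [k4, hr'] using k3⟩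
    have k1 : w.b = 0 := by simpa [ha, hr'] using (cm_c w r).symm.trans (C2 r hr).2.2.1
    have k2 : w ∈ Z3 K :=
      ⟨ha, k1, eq_zero_of_cr c2 hr' ((cm_d1 ⟨ha, k1⟩).symm.trans (C2 r hr).2.2.2.1)⟩
    have k3 : w.d ≠ 0 := fun e =>
      h.ne_top (eq_top_iff.2 fun t _ => C1 t (cm_Z1 (.inl (mem_Z2_of k2 e))))
    obtain ⟨a1, a2, l1, l2, l3⟩ := exists_plane k3
    have m : ∀ α, Tr (α * w.d) = 0 → xa α ∈ R := fun α e =>
      C1 _ (mem_Z1_of (cm_Z2 (.inl k2)) ((cm_e3 k2).trans e))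
    intro y hy hy2
    obtain ⟨β, hβ, e⟩ : ∃ β, fr β = β ∧ β * (2 * Tr (a2 * sh a1)) = y.e :=
      ⟨y.e / (2 * Tr (a2 * sh a1)), by simp [map_ofNat], div_mul_cancel₀ _ (mul_ne_zero c2 l3)⟩
    have m0 := hQ (xb_mem β hβ)
    have m1 := cm_mem' m0 (m _ l1)
    have m2 := cm_mem' m1 (m _ l1)
    have n2 : cm (cm (xb β hβ) (xa a1)) (xa a1) ∈ Z3 K := cm_Z3 (.inl (cm_Z4 _ _))
    refine mem_of_mod g1 Z1_le_Z2 (cm_mem' m2 (m _ l2)) hy (inv_mul_Z1 (cm_Z2 (.inl n2)) hy2 ?_) ?_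
    · rw [cm_e3 n2, cm_d1 (cm_Z4 _ _), cm_c, ← e]
      simp [Tr, cr, sh, hβ]; ring
    · rw [ef_cm g m2 (m _ l2), ef_cm g m1 (m _ l1), ef_cm g m0 (m _ l1)]
      exact cm_Z2 (.inl (cm_Z3 (.inl (cm_Z4 _ _))))
  exfalso
  by_cases hwb : w.b = 0
  · obtain ⟨d, d0, k1, -⟩ := exists_perp w.a 0
    obtain ⟨α, k2⟩ := exists_Tr d0 (l := -z.e) (by simp)
    obtain ⟨c, k3⟩ := exists_rc (w := w) (by
      by_cases c2 : (2 : K) = 0
      exacts [.inr (sq_cases c2 (C3 c2) ha).2, .inl c2]) ha α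
    obtain ⟨d', k4⟩ := exists_Tr ha (l := Tr (sh w.a * c) - Tr (w.c * cr w.a α) + Tr (sh α * w.c) +
      Tr (w.d * α)) (by simp)
    let r : US K := ⟨α, 0, c, d', 0, 0, by simp, by simp, by simp⟩
    have hr : r ∈ Qb K := rfl
    refine ha (C4 r (C1 r (mem_Z1_of (mem_Z2_of (cm_Z3 (.inr (.inr ⟨hwb, hr⟩))) ?_) ?_)) (xd d)
      (C1 _ (mem_Z1_of (cm_Z2 (.inr (xd_mem d))) ?_)) (cm_Z2 (.inr (xd_mem d))) ?_)
    · rw [cm_db hwb hr, sub_eq_zero]; exact k3.symm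
    · rw [cm_eb hwb hr]; simp only [r]; linear_combination -k4
    · rw [cm_e4 (xd_mem d), xd_d, k1, neg_zero]
    · rw [cm_e4 (xd_mem d), xd_d, mul_comm, k2, neg_neg]
  have c2 : (2 : K) ≠ 0 := fun c2 => hwb (sq_cases c2 (C3 c2) ha).1
  obtain ⟨t, ht, t0, e⟩ := exists_t0 ha hwb
  have hL : ∀ r ∈ R, Ln w r := fun r hr => ln_of c2 ha hwb (Z1_le_Z2 (C2 r hr))
  have htR : t ∈ R := mem_ch3 h hg.1 hb g1 (C := cmod R R ⊥) (inv_cmod le_rfl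
    (U5.Inv.of_le le_rfl) (U5.Inv.of_le le_rfl) U5.Inv.bot)
    (fun x hx => ⟨Z1_le h hx, fun y _ => cm_eq_one (comm_Z1 hx y)⟩) (fun x hx => by
      have : cm x t ∈ R := C1 _ (by rw [cm_symm (e x w (hL x hx) (.self w))]; exact one_mem _)
      exact ⟨this, this, fun y hy => e x y (hL x hx) (hL y hy)⟩) fun x hx hx' => by
      obtain ⟨ρ, l, -, -, k1, k2, -⟩ := hL x hx
      have k3 : x.b = 0 := mem_Qb_of_comm fun y hy => comm_iff_cm.2 (hx'.2 y (e2 hy))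
      refine cm_Z1 (.inr (.inr ⟨?_, ht.1⟩))
      rw [mem_Qa, k1, (mul_eq_zero.1 (k2.symm.trans k3)).resolve_right hwb, zero_mul]
  exact t0 (eq_zero_of_cr c2 ha (neg_eq_zero.1 ((cm_d2 ht).symm.trans (C2 t htR).2.2.2.1)))

end Cfsg.Agent.D4
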